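import Cfsg.Agent.SpEven.Normal

/-!
# Canonical lists of blocks

A bit survives only on a node without a lower linked block and on one copy of it; equal lists give
isometrically similar spaces.
-/

set_option autoImplicit false
set_option linter.unusedSectionVars false

namespace CfsgLib.SpEven

open Module Polynomial

/-- Position of a block. -/
def Blk.pos : Blk → ℕ
  | .V l => l + l
  | .W m => m

/-- Blocks that may carry a bit. -/
def Node : Blk → Prop
  | .V l => 2 ≤ l
  | .W m => ∃ i, i + i + 3 = m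

/-- Linked blocks in lower position. -/
def Low : Blk → Blk → Prop
  | .V l, L => L = .V (l - 1) ∨ L = .W (l + l - 1)
  | .W m, L => ∃ l, l + l + 1 = m ∧ L = .V l

/-- Where a bit may stay. -/
def Allowed (T : List Blk) (U : Blk) : Prop := Node U ∧ ∀ L ∈ T, ¬Low U L

theorem Low.pos_lt {U L : Blk} (hn : Node U) (h : Low U L) : L.pos < U.pos := by
  cases U with
  | V l =>
    have hl : 2 ≤ l := hn
    rcases h with rfl | rfl <;> simp only [Blk.pos] <;> omega
  | W m =>
    obtain ⟨l, hl, rfl⟩ := h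
    simp only [Blk.pos]
    omega

variable {F : Type*} [Field F] [CharP F 2] [Finite F] {V : Type*} [AddCommGroup V] [Module F V]
  [FiniteDimensional F V] {M : ℕ} {B : LinearMap.BilinForm F V} {N : V →ₗ[F] V} (hU : Uni M B N)

theorem std_false_of_not_node {U : Blk} {b : Bool} {S : Submodule F V} (hn : ¬Node U)
    (h : StdBlk M B N (U, b) S) : StdBlk M B N (U, false) S := by
  cases U with
  | V l =>
    obtain ⟨x, hG, hS, hx⟩ := h
    refine ⟨x, hG, hS, fun i hi => ?_⟩
    rw [hx i hi]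
    have hl : ¬2 ≤ l := hn
    rw [if_pos (by omega), if_pos (by omega)]
  | W m =>
    obtain ⟨x, hG, hS, h0, hx, hy⟩ := h
    have hm : ∀ i, ¬(i + i + 3 = m) := fun i h => hn ⟨i, h⟩
    refine ⟨x, hG, hS, h0, fun i hi => ?_, fun i hi => ?_⟩
    · rw [hx i hi, if_neg (fun h => hm i h.1), if_neg (fun h => hm i h.1)]
    · rw [hy i hi, if_neg (fun h => hm i h.1), if_neg (fun h => hm i h.1)]

include hU

/-- A block below `V (2l)` takes every value at the critical coordinate. -/
theorem lower_of_V {l : ℕ} (hl : 2 ≤ l) {L : Blk} (hlow : L = .V l ∨ Low (.V l) L) {T : Submodule F V}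
    (hT : GBlk B N L T) (d : F) :
    ∃ (s h : ℕ) (y : Fin s → V) (w : V), Gens B N h y ∧ spn N h y = T ∧ w ∈ T ∧ (N ^ (l + l)) w = 0 ∧
      B w ((N ^ (l + l - 1)) w) = 0 ∧ g B N M w (l - 2) = d ∧
      ∀ y' : Fin s → V, Gens B N h y' → GBlk B N L (spn N h y') := by
  obtain ⟨c, hc⟩ := exists_sqrt d
  rcases hlow with rfl | rfl | rfl
  · obtain ⟨y, hG, htop, hS⟩ := hT.unit_gen hU
    refine ⟨1, l + l, ![y], c • N y, hG, hS, hS ▸ Submodule.smul_mem _ _ (hG.inv _ (hG.mem 0)), ?_, ?_, ?_,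
      fun y' h => ⟨y', h, rfl⟩⟩
    · rw [map_smul, show (N ^ (l + l)) (N y) = 0 from hG.pow_zero _ (hG.inv _ (hG.mem 0)), smul_zero]
    · have h0 : (N ^ (l + l - 1)) (N y) = 0 := by
        rw [← Module.End.mul_apply, ← pow_succ, show l + l - 1 + 1 = l + l by omega]
        exact hG.zero 0
      simp [h0]
    · have hgy : g B N M y (l - 1) = 1 := by
        rw [hU.g_top (hU.pow_zero_of_le (show (N ^ (l + l)) y = 0 from hG.zero 0) (show l + l ≤ l - 1 + (l - 1) + 2 by omega)),
          show l - 1 + (l - 1) + 1 = l + l - 1 by omega]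
        exact htop
      have h1 := hU.g_pow y (l - 2) 1
      rw [pow_one, show l - 2 + 1 = l - 1 by omega] at h1
      rw [hU.g_smul, h1, hgy, mul_one, hc]
  · obtain ⟨y, hG, htop, hS⟩ := hT.unit_gen hU
    have hy0 : (N ^ (l - 1 + (l - 1))) y = 0 := hG.zero 0
    refine ⟨1, l - 1 + (l - 1), ![y], c • y, hG, hS, hS ▸ Submodule.smul_mem _ _ (hG.mem 0), ?_, ?_, ?_,
      fun y' h => ⟨y', h, rfl⟩⟩
    · rw [map_smul, hU.pow_zero_of_le hy0 (by omega), smul_zero]
    · rw [map_smul (N ^ (l + l - 1)), hU.pow_zero_of_le hy0 (show l - 1 + (l - 1) ≤ l + l - 1 by omega), smul_zero,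
        map_zero]
    · rw [hU.g_smul, hU.g_top (hU.pow_zero_of_le hy0 (show l - 1 + (l - 1) ≤ l - 2 + (l - 2) + 2 by omega)),
        show l - 2 + (l - 2) + 1 = l - 1 + (l - 1) - 1 by omega, htop, mul_one, hc]
  · obtain ⟨y, hG, hd, hS⟩ := hT
    obtain ⟨e, -, hp⟩ := unit_pair hU hG hd hS
    obtain ⟨-, -, h3, hG', hS'⟩ := id hp
    have hg := g_comb hU (x := y 0) (y := e • y 1) (hG'.zero 0) (hG'.zero 1)
      (show l - 2 + (l - 2) + 3 = l + l - 1 by omega)
    rw [h3] at hg
    obtain ⟨a, b, hab⟩ := qf_surj (one_ne_zero (α := F)) (g B N M (y 0) (l - 2)) (g B N M (e • y 1) (l - 2)) d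
    have hwm : a • y 0 + b • e • y 1 ∈ spn N (l + l - 1) ![y 0, e • y 1] :=
      add_mem (Submodule.smul_mem _ _ (hG'.mem 0)) (Submodule.smul_mem _ _ (hG'.mem 1))
    refine ⟨2, l + l - 1, ![y 0, e • y 1], a • y 0 + b • e • y 1, hG', hS', hS' ▸ hwm, ?_, ?_,
      by rw [hg]; exact hab, fun y' h => ⟨y', h, fun j => ?_, rfl⟩⟩
    · exact hU.pow_zero_of_le (hG'.pow_zero _ hwm) (by omega)
    · rw [hG'.pow_zero _ hwm, map_zero]
    · rw [show l + l - 1 - 1 = (l - 1) + (l - 1) by omega]
      exact hU.odd_top (hU.pow_zero_of_le (h.zero j) (by omega))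

/-- A block below `W m` takes every value at the critical coordinate. -/
theorem lower_of_W {m i : ℕ} (hi : i + i + 3 = m) {L : Blk} (hlow : L = .W m ∨ Low (.W m) L) {T : Submodule F V}
    (hT : GBlk B N L T) (d : F) :
    ∃ (s h : ℕ) (y : Fin s → V) (w : V), Gens B N h y ∧ spn N h y = T ∧ w ∈ T ∧ (N ^ m) w = 0 ∧
      g B N M w i = d ∧ ∀ y' : Fin s → V, Gens B N h y' → GBlk B N L (spn N h y') := by
  rcases hlow with rfl | ⟨l, hl, rfl⟩
  · obtain ⟨y, hG, hd, hS⟩ := hT
    obtain ⟨e, -, hp⟩ := unit_pair hU hG hd hS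
    obtain ⟨-, -, h3, hG', hS'⟩ := id hp
    have hg := g_comb hU (x := y 0) (y := e • y 1) (hG'.zero 0) (hG'.zero 1) hi
    rw [h3] at hg
    obtain ⟨a, b, hab⟩ := qf_surj (one_ne_zero (α := F)) (g B N M (y 0) i) (g B N M (e • y 1) i) d
    have hwm : a • y 0 + b • e • y 1 ∈ spn N m ![y 0, e • y 1] :=
      add_mem (Submodule.smul_mem _ _ (hG'.mem 0)) (Submodule.smul_mem _ _ (hG'.mem 1))
    refine ⟨2, m, ![y 0, e • y 1], a • y 0 + b • e • y 1, hG', hS', hS' ▸ hwm, hG'.pow_zero _ hwm,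
      by rw [hg]; exact hab, fun y' h => ⟨y', h, fun j => ?_, rfl⟩⟩
    rw [show m - 1 = (i + 1) + (i + 1) by omega]
    exact hU.odd_top (hU.pow_zero_of_le (h.zero j) (by omega))
  · obtain ⟨c, hc⟩ := exists_sqrt d
    obtain ⟨y, hG, htop, hS⟩ := hT.unit_gen hU
    refine ⟨1, l + l, ![y], c • y, hG, hS, hS ▸ Submodule.smul_mem _ _ (hG.mem 0), ?_, ?_,
      fun y' h => ⟨y', h, rfl⟩⟩
    · rw [map_smul, hU.pow_zero_of_le (show (N ^ (l + l)) y = 0 from hG.zero 0) (by omega), smul_zero]
    · rw [hU.g_smul, hU.g_top (hU.pow_zero_of_le (show (N ^ (l + l)) y = 0 from hG.zero 0) (by omega)),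
        show i + i + 1 = l + l - 1 by omega, htop, mul_one, hc]

/-- The upper block of a linked pair can lose its bit. -/
theorem clear_bit {U L : Blk} {L0 : List Blk} {W : Submodule F V} (hn : Node U) (hlink : L = U ∨ Low U L)
    (h : Has B (GBlk B N) (U :: L :: L0) W) :
    ∃ S ≤ W, StdBlk M B N (U, false) S ∧ Has B (GBlk B N) (L :: L0) (W ⊓ B.orthogonal S) := by
  obtain ⟨S, hS, hSU, T, hT, hTL, hrest⟩ := h
  suffices hh : ∃ S' T' : Submodule F V, StdBlk M B N (U, false) S' ∧ GBlk B N L T' ∧ T' ≤ B.orthogonal S' ∧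
      S' ⊔ T' = S ⊔ T by
    obtain ⟨S', T', h1, h2, h3, h4⟩ := hh
    have hW : S' ⊔ T' ≤ W := h4 ▸ sup_le hS (hT.trans inf_le_left)
    refine ⟨S', le_sup_left.trans hW, h1, T', le_inf (le_sup_right.trans hW) h3, h2, ?_⟩
    rwa [inf_assoc, ← orth_sup, h4, orth_sup, ← inf_assoc]
  have horth : T ≤ B.orthogonal S := hT.trans inf_le_right
  have hz : ∀ {v w : V}, v ∈ S → w ∈ T → B v w = 0 ∧ B w v = 0 := fun hv hw =>
    ⟨horth hw _ hv, by rw [hU.symm]; exact horth hw _ hv⟩
  cases U with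
  | V l =>
    have hl : 2 ≤ l := hn
    obtain ⟨x, hG, htop, rfl⟩ := hSU.unit_gen hU
    obtain ⟨s, h, y, w, hH, rfl, hw, hwn, hwt, hwg, hmk⟩ :=
      lower_of_V hU hl hlink hTL (g B N M x (l - 2))
    have hxm : x ∈ spn N (l + l) ![x] := hG.mem 0
    have hpair : ∀ a, B x ((N ^ a) w) = 0 := fun a => (hz hxm (hH.inv.pow a w hw)).1
    have hgw : ∀ e, g B N M (x + w) e = g B N M x e + g B N M w e := fun e => by
      rw [hU.g_add, (hz hxm (hH.inv.sop_pow _ w hw)).1, add_zero]
    have hxz : (N ^ (l + l)) x = 0 := hG.zero 0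
    have hzn : (N ^ (l + l)) (x + w) = 0 := by rw [map_add, hxz, hwn, add_zero]
    have htz : B (x + w) ((N ^ (l + l - 1)) (x + w)) = 1 := by
      simp only [map_add, LinearMap.add_apply, htop, hwt, hpair, (hz (hG.inv.pow _ x hxm) hw).2]
      simp
    have hg' : Gens B N (l + l) ![x + w] := gens_one hG.pos hzn (by rw [htz]; exact one_ne_zero)
    have he : (fun i => (![x] : Fin 1 → V) i + ![w] i) = ![x + w] := by funext i; fin_cases i; rfl
    obtain ⟨y', gy, -, hyo, heq⟩ := shear hU hG hH horth (w := ![w]) (fun i => by fin_cases i; exact hw)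
      (by rw [he]; exact hg')
    rw [he] at hyo heq
    refine ⟨_, _, stdV_of hU (by omega) hg' rfl ?_ (fun _ => ?_), hmk y' gy, hyo, heq⟩
    · rw [hU.g_top (hU.pow_zero_of_le hzn (by omega)), show l - 1 + (l - 1) + 1 = l + l - 1 by omega, htz]
    · rw [hgw, hwg, if_neg Bool.false_ne_true]
      exact add_self_eq_zero' (F := F) _
  | W m =>
    obtain ⟨i, hi⟩ := hn
    obtain ⟨x0, hG0, hd, hS0⟩ := hSU
    obtain ⟨c, -, hp⟩ := unit_pair hU hG0 hd hS0
    generalize c • x0 1 = y0 at hp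
    generalize x0 0 = x at hp
    obtain ⟨h1, h2, h3, hG, rfl⟩ := id hp
    obtain ⟨s, h, y, w, hH, rfl, hw, hwn, hwg, hmk⟩ := lower_of_W hU hi hlink hTL (g B N M x i)
    have hxm : x ∈ spn N m ![x, y0] := hG.mem 0
    have hym : y0 ∈ spn N m ![x, y0] := hG.mem 1
    have hzn : (N ^ m) (x + w) = 0 := by
      rw [map_add, show (N ^ m) x = 0 from hG.zero 0, hwn, add_zero]
    have hzy : B (x + w) ((N ^ (m - 1)) y0) = 1 := by
      rw [map_add, LinearMap.add_apply, h3, (hz (hG.inv.pow _ y0 hym) hw).2, add_zero]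
    have hzz : B (x + w) ((N ^ (m - 1)) (x + w)) = 0 := by
      rw [show m - 1 = (i + 1) + (i + 1) by omega]
      exact hU.odd_top (hU.pow_zero_of_le hzn (by omega))
    have hg' : Gens B N m ![x + w, y0] := gens_two hU hG.pos hzn (hG.zero 1)
      (by rw [hzz, hzy, zero_mul, zero_add, mul_one]; exact one_ne_zero)
    have he : (fun j => (![x, y0] : Fin 2 → V) j + ![w, 0] j) = ![x + w, y0] := by
      funext j; fin_cases j <;> simp
    obtain ⟨y', gy, -, hyo, heq⟩ := shear hU hG hH horth (w := ![w, 0])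
      (fun j => by fin_cases j; exacts [hw, zero_mem _]) (by rw [he]; exact hg')
    rw [he] at hyo heq
    -- make both coordinates vanish
    set S' := spn N m ![x + w, y0]
    have hq : g B N M (x + w) i = 0 := by
      rw [hU.g_add, (hz hxm (hH.inv.sop_pow _ w hw)).1, add_zero, hwg]
      exact add_self_eq_zero' (F := F) _
    set r := g B N M y0 i with hr
    have hp' : WPair B N m S' (x + w) y0 := ⟨hzz, h2, hzy, hg', rfl⟩
    have hp2 : WPair B N m S' (x + w) (y0 + r • (x + w)) := by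
      refine wpair_of hU hp' (hg'.mem 0) (add_mem (hg'.mem 1) (Submodule.smul_mem _ _ (hg'.mem 0))) hzz ?_ ?_
      · rw [show m - 1 = (i + 1) + (i + 1) by omega]
        exact hU.odd_top (hU.pow_zero_of_le (hg'.pow_zero _
          (add_mem (hg'.mem 1) (Submodule.smul_mem _ _ (hg'.mem 0)))) (by omega))
      · rw [map_add (N ^ (m - 1)), map_smul (N ^ (m - 1)), map_add (B (x + w)), map_smul (B (x + w)), hzy, hzz, smul_zero, add_zero]
    refine ⟨_, _, stdW_of hU hp2 (fun j hj => ?_) (fun j hj => ?_), hmk y' gy, hyo, heq⟩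
    · obtain rfl : j = i := by omega
      rw [hq]; simp
    · obtain rfl : j = i := by omega
      have h := g_comb hU (x := x + w) (y := y0) hzn (hG.zero 1) hi r 1
      rw [one_smul, add_comm, hq, hzy, qf] at h
      rw [h, if_neg Bool.false_ne_true]
      simp only [mul_zero, one_mul, mul_one, zero_add, ← hr]
      exact add_self_eq_zero' (F := F) r

/-- Every list of blocks has a canonical normal form. -/
theorem exists_canon : ∀ {T : List Blk} {W : Submodule F V}, Has B (GBlk B N) T W →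
    ∃ L : List (Blk × Bool), (L.map Prod.fst).Perm T ∧ Has B (StdBlk M B N) L W ∧
      (∀ U, (U, true) ∈ L → Allowed T U) ∧ ∀ U, L.count (U, true) ≤ 1 := by
  classical
  intro T
  generalize hn : T.length = n
  induction n generalizing T with
  | zero =>
    intro W h
    obtain rfl := List.length_eq_zero_iff.1 hn
    exact ⟨[], List.Perm.nil, h, fun U hU => by simp at hU, fun U => by simp⟩
  | succ n ih =>
    intro W h
    obtain ⟨U, hUT, hmax⟩ := T.toFinset.exists_max_image Blk.pos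
      ⟨T.head (List.ne_nil_of_length_eq_add_one hn),
        List.mem_toFinset.2 (List.head_mem _)⟩
    rw [List.mem_toFinset] at hUT
    set R := T.erase U with hR
    have hperm : T.Perm (U :: R) := List.perm_cons_erase hUT
    have hlen : R.length = n := by rw [hR, List.length_erase_of_mem hUT, hn]; rfl
    have hT := Has.perm hU hperm h
    obtain ⟨b, S, hSW, hS, hrest, hb⟩ : ∃ (b : Bool) (S : Submodule F V), S ≤ W ∧ StdBlk M B N (U, b) S ∧
        Has B (GBlk B N) R (W ⊓ B.orthogonal S) ∧ (b = true → Allowed T U ∧ U ∉ R) := by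
      by_cases hlink : Node U ∧ ∃ L ∈ R, L = U ∨ Low U L
      · obtain ⟨hnode, L, hLR, hL⟩ := hlink
        have hp : R.Perm (L :: R.erase L) := List.perm_cons_erase hLR
        obtain ⟨S, h1, h2, h3⟩ := clear_bit hU hnode hL (Has.perm hU (hp.cons U) hT)
        exact ⟨false, S, h1, h2, Has.perm hU hp.symm h3, fun h => Bool.noConfusion h⟩
      · obtain ⟨S, hSW, hS, hrest⟩ := hT
        obtain ⟨b, hb⟩ := std_of_gblk hU hS
        by_cases hnode : Node U
        · have hno : ∀ L ∈ R, ¬(L = U ∨ Low U L) := fun L hL h => hlink ⟨hnode, L, hL, h⟩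
          refine ⟨b, S, hSW, hb, hrest, fun _ => ⟨⟨hnode, fun L hL hlow => ?_⟩, fun hm => hno U hm (Or.inl rfl)⟩⟩
          have : L ∈ R := (List.mem_erase_of_ne (fun e => by
            have := hlow.pos_lt hnode; rw [e] at this; exact lt_irrefl _ this)).2 hL
          exact hno L this (Or.inr hlow)
        · exact ⟨false, S, hSW, std_false_of_not_node hnode hb, hrest, fun h => Bool.noConfusion h⟩
    obtain ⟨L, hLp, hL, hall, hc⟩ := ih hlen hrest
    refine ⟨(U, b) :: L, (hLp.cons U).trans hperm.symm, ⟨S, hSW, hS, hL⟩, fun X hX => ?_, fun X => ?_⟩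
    · rcases List.mem_cons.1 hX with he | hX'
      · obtain ⟨rfl, hb'⟩ := Prod.mk.inj he
        exact (hb hb'.symm).1
      · refine ⟨(hall X hX').1, fun Y hY hlow => ?_⟩
        rcases List.mem_cons.1 (hperm.mem_iff.1 hY) with hYU | hY'
        · have h1 := hlow.pos_lt (hall X hX').1
          have h2 := hmax X (List.mem_toFinset.2 (List.mem_of_mem_erase
            (hLp.mem_iff.1 (List.mem_map.2 ⟨(X, true), hX', rfl⟩))))
          rw [hYU] at h1
          omega
        · exact (hall X hX').2 Y hY' hlow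
    · rw [List.count_cons]
      have := hc X
      split_ifs with he
      · obtain ⟨rfl, hb'⟩ := Prod.mk.inj (beq_iff_eq.1 he)
        have h0 : L.count (U, true) = 0 := List.count_eq_zero.2 fun hm =>
          (hb hb').2 (hLp.mem_iff.1 (List.mem_map.2 ⟨(U, true), hm, rfl⟩))
        omega
      · omega

theorem Gens.sup_perp {r k : ℕ} {x : Fin r → V} (hG : Gens B N k x) {W : Submodule F V}
    (h : spn N k x ≤ W) : spn N k x ⊔ (W ⊓ B.orthogonal (spn N k x)) = W := by
  refine le_antisymm (sup_le h inf_le_left) fun v hv => ?_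
  obtain ⟨p, hp, hvp⟩ := hG.perp_split hU v
  have : v = p + (v + p) := by rw [add_comm v p, ← add_assoc, add_self_eq_zero' (F := F), zero_add]
  rw [this]
  exact add_mem (Submodule.mem_sup_left hp) (Submodule.mem_sup_right ⟨add_mem hv (h hp), hvp⟩)

theorem has_dim : ∀ {L : List (Blk × Bool)} {W : Submodule F V}, Has B (StdBlk M B N) L W →
    finrank F W = 2 * (L.map fun p => p.1.wt).sum := by
  intro L
  induction L with
  | nil => intro W h; rw [show W = ⊥ from h, finrank_bot]; simp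
  | cons p L ih =>
    rintro W ⟨S, hSW, hS, hL⟩
    obtain ⟨r, k, x, hG, rfl, hrk⟩ := (hS.gblk hU).gens
    have h1 := Submodule.finrank_sup_add_finrank_inf_eq (spn N k x) (W ⊓ B.orthogonal (spn N k x))
    have h2 : spn N k x ⊓ (W ⊓ B.orthogonal (spn N k x)) = ⊥ := by
      rw [Submodule.eq_bot_iff]
      rintro z ⟨hz, -, hz'⟩
      exact hG.nondeg hz fun j b => (hU.inv_orth hG.inv).pow b z hz' _ (hG.mem j)
    rw [hG.sup_perp hU hSW, h2, finrank_bot, hG.finrank, ih hL] at h1
    simp only [List.map_cons, List.sum_cons]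
    omega

omit hU

variable {V' : Type*} [AddCommGroup V'] [Module F V'] [FiniteDimensional F V'] {B' : LinearMap.BilinForm F V'}
  {N' : V' →ₗ[F] V'}

theorem std_sameData (hU : Uni M B N) (hU' : Uni M B' N') {p : Blk × Bool} {S : Submodule F V} {S' : Submodule F V'}
    (h : StdBlk M B N p S) (h' : StdBlk M B' N' p S') : SameData B N S B' N' S' := by
  obtain ⟨l | m, b⟩ := p
  · obtain ⟨x, hG, rfl, hx⟩ := h
    obtain ⟨x', hG', rfl, hx'⟩ := h'
    refine blk_sameData hG hG' hU hU' fun i j a => ?_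
    fin_cases i; fin_cases j
    exact diag_congr hU hU' (hG.zero 0) (hG'.zero 0) (fun e he => (hx e (by omega)).trans (hx' e (by omega)).symm) a
  · obtain ⟨x, hG, rfl, hc, hx, hy⟩ := h
    obtain ⟨x', hG', rfl, hc', hx', hy'⟩ := h'
    refine blk_sameData hG hG' hU hU' fun i j a => ?_
    fin_cases i <;> fin_cases j
    · exact diag_congr hU hU' (hG.zero 0) (hG'.zero 0) (fun e he => (hx e he).trans (hx' e he).symm) a
    · exact (hc a).trans (hc' a).symm
    · show B (x 1) ((N ^ a) (x 0)) = B' (x' 1) ((N' ^ a) (x' 0))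
      rw [← hU.symm (x 1), ← hU'.symm (x' 1), hU.adj_pow, hU'.adj_pow, ← aeval_pbar, ← aeval_pbar, ← map_pow,
        ← map_pow]
      exact pair_congr _ fun e _ => (hc e).trans (hc' e).symm
    · exact diag_congr hU hU' (hG.zero 1) (hG'.zero 1) (fun e he => (hy e he).trans (hy' e he).symm) a

theorem has_sameData (hU : Uni M B N) (hU' : Uni M B' N') : ∀ {L : List (Blk × Bool)} {W : Submodule F V}
    {W' : Submodule F V'}, Has B (StdBlk M B N) L W → Has B' (StdBlk M B' N') L W' →
    SameData B N W B' N' W' := by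
  intro L
  induction L with
  | nil =>
    intro W W' h h'
    rw [show W = ⊥ from h, show W' = ⊥ from h']
    exact SameData.bot
  | cons p L ih =>
    rintro W W' ⟨S, hSW, hS, hL⟩ ⟨S', hSW', hS', hL'⟩
    obtain ⟨r, k, x, hG, hx, -⟩ := (hS.gblk hU).gens
    obtain ⟨r', k', x', hG', hx', -⟩ := (hS'.gblk hU').gens
    subst hx hx'
    rw [← hG.sup_perp hU hSW, ← hG'.sup_perp hU' hSW']
    exact (std_sameData hU hU' hS hS').sup (ih hL hL')
      (fun a ha b hb => ⟨hb.2 a ha, by rw [hU.symm]; exact hb.2 a ha⟩)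
      (fun a ha b hb => ⟨hb.2 a ha, by rw [hU'.symm]; exact hb.2 a ha⟩)

end CfsgLib.SpEven
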