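import Cfsg.Agent.SpEven.Count

/-!
# The generating sums at `1 / 2`
-/

set_option autoImplicit false
set_option linter.unusedSectionVars false

namespace CfsgLib.SpEven

theorem sum_shift_le (c : ℕ → ℚ) (hc : ∀ i, 0 ≤ c i) {h : ℚ} (h0 : 0 ≤ h) (w K : ℕ) :
    ∑ n ∈ Finset.range K, (if w ≤ n then c (n - w) * h ^ n else 0) ≤ h ^ w * ∑ n ∈ Finset.range K, c n * h ^ n := by
  rw [← Finset.sum_filter, Finset.mul_sum]
  refine le_trans ?_ (Finset.sum_le_sum_of_subset_of_nonneg
    (show ((Finset.range K).filter fun n => w ≤ n).image (fun n => n - w) ⊆ Finset.range K from fun x hx => by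
      obtain ⟨n, hn, rfl⟩ := Finset.mem_image.1 hx
      have := Finset.mem_range.1 (Finset.mem_filter.1 hn).1
      exact Finset.mem_range.2 (by omega)) fun i _ _ => by have := hc i; positivity)
  rw [Finset.sum_image (fun a ha b hb hab => by
    have ha' := (Finset.mem_filter.1 ha).2
    have hb' := (Finset.mem_filter.1 hb).2
    omega)]
  refine le_of_eq (Finset.sum_congr rfl fun n hn => ?_)
  rw [show h ^ n = h ^ w * h ^ (n - w) by rw [← pow_add]; congr 1; have := (Finset.mem_filter.1 hn).2; omega]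
  ring

theorem geom_le {x : ℚ} (h0 : 0 ≤ x) (h1 : x < 1) (K : ℕ) : ∑ i ∈ Finset.range K, x ^ i ≤ 1 / (1 - x) := by
  rw [le_div_iff₀ (by linarith), geom_sum_mul_neg]
  linarith [pow_nonneg h0 K]

theorem geom_bit_le {x : ℚ} (h0 : 0 ≤ x) (h1 : x < 1) {c : ℚ} (hc : 0 ≤ c) (K : ℕ) :
    ∑ i ∈ Finset.range K, (if i = 0 then 1 else c) * x ^ i ≤ 1 + c * (x / (1 - x)) := by
  rcases K with _ | K
  · rw [Finset.sum_range_zero]
    have : 0 ≤ x / (1 - x) := div_nonneg h0 (by linarith)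
    positivity
  rw [Finset.sum_range_succ', if_pos rfl, pow_zero, one_mul, add_comm]
  refine add_le_add le_rfl ?_
  simp only [Nat.succ_ne_zero, if_false, pow_succ]
  rw [← Finset.mul_sum, ← Finset.sum_mul]
  refine mul_le_mul_of_nonneg_left ?_ hc
  calc (∑ i ∈ Finset.range K, x ^ i) * x ≤ 1 / (1 - x) * x := mul_le_mul_of_nonneg_right (geom_le h0 h1 K) h0
    _ = x / (1 - x) := by ring

/-- Bounds for the sums of `cnt` without and with a top `V`. -/
def AB : ℕ → ℚ × ℚ
  | 0 => (1, 0)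
  | L + 1 =>
    let E : ℚ := (1 / 2) ^ (L + L + 2)
    let w : ℚ := (1 / 2) ^ (L + L + 1) / (1 - (1 / 2) ^ (L + L + 1))
    let v : ℚ := (1 / 2) ^ (L + 1) + ((1 / 2) ^ (L + 1)) ^ 2
    if L = 0 then (((AB L).1 + (AB L).2) / (1 - E), v * ((AB L).1 + (AB L).2) / (1 - E))
    else (((AB L).1 * (1 + 2 * w) + (AB L).2 * (1 + w)) / (1 - E),
      v * (1 + w) * (2 * (AB L).1 + (AB L).2) / (1 - E))

/-- One of the two bounds. -/
def ab (L : ℕ) (s : Bool) : ℚ := if s then (AB L).2 else (AB L).1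

theorem ab_nonneg : ∀ L, 0 ≤ (AB L).1 ∧ 0 ≤ (AB L).2
  | 0 => by simp [AB]
  | L + 1 => by
    obtain ⟨ha, hb⟩ := ab_nonneg L
    have h1 : (1 / 2 : ℚ) ^ (L + L + 1) < 1 := pow_lt_one₀ (by norm_num) (by norm_num) (by omega)
    have h2 : (1 / 2 : ℚ) ^ (L + L + 2) < 1 := pow_lt_one₀ (by norm_num) (by norm_num) (by omega)
    have hw : 0 ≤ (1 / 2 : ℚ) ^ (L + L + 1) / (1 - (1 / 2) ^ (L + L + 1)) := div_nonneg (by positivity) (by linarith)
    have hE : (0 : ℚ) ≤ 1 - (1 / 2) ^ (L + L + 2) := by linarith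
    simp only [AB]
    split_ifs <;> constructor <;> positivity

theorem ab_nonneg' (L : ℕ) (s : Bool) : 0 ≤ ab L s := by
  rcases s <;> simp [ab, (ab_nonneg L).1, (ab_nonneg L).2]

theorem bits_card (L r v : ℕ) (p : Bool) :
    (bits L r v p).card = if 0 < L ∧ p = false ∧ (r ≠ 0 ∨ v ≠ 0) then 2 else 1 := by
  unfold bits
  rcases eq_or_ne r 0 with rfl | hr <;> rcases eq_or_ne v 0 with rfl | hv <;> rcases p <;>
    rcases Nat.eq_zero_or_pos L with rfl | hL <;> simp_all [Nat.pos_iff_ne_zero]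

theorem sum_cnt_le : ∀ (L K : ℕ) (s : Bool),
    ∑ n ∈ Finset.range K, (cnt L n s : ℚ) * (1 / 2) ^ n ≤ ab L s := by
  intro L
  induction L with
  | zero =>
    intro K s
    rcases s with _ | _
    · rcases K with _ | K
      · simp [ab, AB]
      · rw [Finset.sum_eq_single 0 (fun b _ hb => by simp [cnt, hb]) (by simp)]
        simp [cnt, ab, AB]
    · simp [cnt, ab, AB]
  | succ L ih =>
    intro K s
    set h : ℚ := 1 / 2 with hh
    let U : Finset (ℕ × ℕ × ℕ × Bool) := ((Finset.range K) ×ˢ ((Finset.range K) ×ˢ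
      ((Finset.range 3) ×ˢ (Finset.univ : Finset Bool)))).filter fun x =>
        (L = 0 → x.2.1 = 0) ∧ decide (x.2.2.1 ≠ 0) = s
    let wt : ℕ × ℕ × ℕ × Bool → ℕ := fun x => x.2.2.1 * (L + 1) + x.2.1 * (L + L + 1) + x.1 * (L + L + 2)
    let T : ℕ × ℕ × ℕ × Bool → ℚ := fun x => ((bits L x.2.1 x.2.2.1 x.2.2.2).card : ℚ)
    calc ∑ n ∈ Finset.range K, (cnt (L + 1) n s : ℚ) * h ^ n
        ≤ ∑ n ∈ Finset.range K, ∑ x ∈ U, T x * (if wt x ≤ n then (cnt L (n - wt x) x.2.2.2 : ℚ) * h ^ n else 0) := by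
          refine Finset.sum_le_sum fun n hn => ?_
          rw [cnt, Nat.cast_sum, Finset.sum_mul]
          have hn' := Finset.mem_range.1 hn
          refine le_trans (Finset.sum_le_sum fun x hx => ?_)
            (Finset.sum_le_sum_of_subset_of_nonneg (s := choices L n s) ?_ fun x _ _ => by positivity)
          · have hx' := (Finset.mem_filter.1 hx).2.1
            simp only [T, wt, if_pos hx', Nat.cast_mul]
            exact le_of_eq (by ring)
          · intro x hx
            obtain ⟨hx1, -, hx2⟩ := Finset.mem_filter.1 hx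
            simp only [Finset.mem_product, Finset.mem_range] at hx1
            simp only [U, Finset.mem_filter, Finset.mem_product, Finset.mem_range, Finset.mem_univ, and_true]
            exact ⟨⟨by omega, by omega, hx1.2.2.1⟩, hx2⟩
      _ = ∑ x ∈ U, T x * ∑ n ∈ Finset.range K,
            (if wt x ≤ n then (cnt L (n - wt x) x.2.2.2 : ℚ) * h ^ n else 0) := by
          rw [Finset.sum_comm]
          exact Finset.sum_congr rfl fun x _ => by rw [Finset.mul_sum]
      _ ≤ ∑ x ∈ U, T x * (h ^ wt x * ab L x.2.2.2) := by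
          refine Finset.sum_le_sum fun x _ => mul_le_mul_of_nonneg_left ?_ (by positivity)
          exact (sum_shift_le (fun i => (cnt L i x.2.2.2 : ℚ)) (fun i => by positivity) (by norm_num [hh]) _ K).trans
            (mul_le_mul_of_nonneg_left (ih K x.2.2.2) (by positivity))
      _ ≤ ab (L + 1) s := ?_
    obtain ⟨ha, hb⟩ := ab_nonneg L
    have hx0 : (0 : ℚ) ≤ h ^ (L + L + 2) := by positivity
    have hx1 : h ^ (L + L + 2) < 1 := pow_lt_one₀ (by norm_num [hh]) (by norm_num [hh]) (by omega)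
    have hy0 : (0 : ℚ) ≤ h ^ (L + L + 1) := by positivity
    have hy1 : h ^ (L + L + 1) < 1 := pow_lt_one₀ (by norm_num [hh]) (by norm_num [hh]) (by omega)
    have hE : ∀ C : ℚ, 0 ≤ C →
        (∑ e ∈ Finset.range K, (h ^ (L + L + 2)) ^ e) * C ≤ C / (1 - h ^ (L + L + 2)) := fun C hC => by
      refine (mul_le_mul_of_nonneg_right (geom_le hx0 hx1 K) hC).trans (le_of_eq ?_)
      ring
    have hR : ∀ c : ℚ, 0 ≤ c →
        ∑ r ∈ Finset.range K, (if r = 0 then 1 else c) * (h ^ (L + L + 1)) ^ r ≤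
          1 + c * (h ^ (L + L + 1) / (1 - h ^ (L + L + 1))) := fun c hc => geom_bit_le hy0 hy1 hc K
    have hpw : ∀ e r v : ℕ, h ^ (v * (L + 1) + r * (L + L + 1) + e * (L + L + 2)) =
        (h ^ (L + 1)) ^ v * (h ^ (L + L + 1)) ^ r * (h ^ (L + L + 2)) ^ e := fun e r v => by
      rw [← pow_mul, ← pow_mul, ← pow_mul, ← pow_add, ← pow_add]
      congr 1; ring
    simp only [U, Finset.sum_filter, Finset.sum_product, Fintype.univ_bool, Finset.sum_insert
      (show true ∉ ({false} : Finset Bool) by simp), Finset.sum_singleton, T, wt, bits_card, hpw, ab,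
      Finset.sum_range_succ (n := 2), Finset.sum_range_succ (n := 1), Finset.sum_range_succ (n := 0),
      Finset.sum_range_zero, zero_add]
    set a := (AB L).1
    set b := (AB L).2
    set W := h ^ (L + L + 1)
    set E := h ^ (L + L + 2)
    set Vv := h ^ (L + 1) with hVv
    have hV : 0 ≤ Vv + Vv ^ 2 := by positivity
    have hw0 : 0 ≤ W / (1 - W) := div_nonneg hy0 (by linarith)
    rcases Nat.eq_zero_or_pos L with rfl | hL
    · have hr : ∀ (G : ℕ → ℕ → ℚ) (C : ℚ), 0 ≤ C → (∀ e, G e 0 = E ^ e * C) → (∀ e r, r ≠ 0 → G e r = 0) →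
          ∑ e ∈ Finset.range K, ∑ r ∈ Finset.range K, G e r ≤ C / (1 - E) := by
        intro G C hC g0 g1
        refine le_trans (Finset.sum_le_sum fun e _ => ?_) (le_of_eq_of_le (Finset.sum_mul _ _ _).symm (hE C hC))
        rcases K with _ | K
        · rw [Finset.sum_range_zero]; positivity
        · rw [Finset.sum_eq_single 0 (fun r _ hr => g1 e r hr) (by simp), g0]
      rcases s with _ | _
      · refine (hr _ (a + b) (by positivity) (fun e => ?_) fun e r hr0 => ?_).trans (le_of_eq ?_)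
        · simp; ring
        · simp [hr0]
        · simp only [AB, if_true, Bool.false_eq_true, if_false, a, b, E, hh]
      · refine (hr _ ((Vv + Vv ^ 2) * (a + b)) (by positivity) (fun e => ?_) fun e r hr0 => ?_).trans (le_of_eq ?_)
        · simp; ring
        · simp [hr0]
        · simp only [AB, if_true, a, b, E, hVv, hh]
    · have hr : ∀ (G : ℕ → ℕ → ℚ) (ca cb : ℚ) (A' B' : ℚ), 0 ≤ ca → 0 ≤ cb → 0 ≤ A' → 0 ≤ B' →
          (∀ e r, G e r = E ^ e * ((if r = 0 then 1 else ca) * W ^ r * A' + (if r = 0 then 1 else cb) * W ^ r * B')) →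
          ∑ e ∈ Finset.range K, ∑ r ∈ Finset.range K, G e r ≤
            (A' * (1 + ca * (W / (1 - W))) + B' * (1 + cb * (W / (1 - W)))) / (1 - E) := by
        intro G ca cb A' B' hca hcb hA hB hG
        have hC : 0 ≤ A' * (1 + ca * (W / (1 - W))) + B' * (1 + cb * (W / (1 - W))) := by positivity
        refine le_trans ?_ (hE _ hC)
        rw [Finset.sum_mul]
        refine Finset.sum_le_sum fun e _ => ?_
        simp only [hG, ← Finset.mul_sum, Finset.sum_add_distrib, ← Finset.sum_mul]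
        refine mul_le_mul_of_nonneg_left (add_le_add ?_ ?_) (by positivity)
        · rw [mul_comm A']; exact mul_le_mul_of_nonneg_right (hR ca hca) hA
        · rw [mul_comm B']; exact mul_le_mul_of_nonneg_right (hR cb hcb) hB
      rcases s with _ | _
      · refine (hr _ 2 1 a b (by norm_num) (by norm_num) ha hb (fun e r => ?_)).trans (le_of_eq ?_)
        · rcases eq_or_ne r 0 with rfl | hr0 <;> simp_all [Nat.pos_iff_ne_zero] <;> ring
        · simp only [AB, if_neg hL.ne', Bool.false_eq_true, if_false, a, b, E, W, hh, one_mul]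
      · refine (hr _ 1 1 ((Vv + Vv ^ 2) * (2 * a)) ((Vv + Vv ^ 2) * b) (by norm_num) (by norm_num) (by positivity)
          (by positivity) (fun e r => ?_)).trans (le_of_eq ?_)
        · rcases eq_or_ne r 0 with rfl | hr0 <;> simp_all [Nat.pos_iff_ne_zero] <;> ring
        · simp only [AB, if_neg hL.ne', if_true, a, b, E, W, hVv, hh, one_mul]
          ring

theorem tail_step {L : ℕ} (hL : 10 ≤ L) : ((AB (L + 1)).1 + (AB (L + 1)).2) * (1 + 3 * (1 / 2) ^ (L + 1)) ≤
    ((AB L).1 + (AB L).2) * (1 + 3 * (1 / 2) ^ L) := by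
  obtain ⟨ha, hb⟩ := ab_nonneg L
  rw [AB, if_neg (show ¬L = 0 by omega)]
  simp only
  have hw : (1 / 2 : ℚ) ^ (L + L + 1) = ((1 / 2) ^ L) ^ 2 * (1 / 2) := by rw [← pow_mul, pow_succ]; ring
  have he : (1 / 2 : ℚ) ^ (L + L + 2) = ((1 / 2) ^ L) ^ 2 * (1 / 4) := by rw [← pow_mul, pow_add]; ring
  rw [hw, he, pow_succ (1 / 2 : ℚ) L]
  have hx : (1 / 2 : ℚ) ^ L ≤ 1 / 1024 :=
    (pow_le_pow_of_le_one (by norm_num) (by norm_num) hL).trans (by norm_num)
  have hx0 : (0 : ℚ) ≤ (1 / 2) ^ L := by positivity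
  generalize (1 / 2 : ℚ) ^ L = x at hx hx0 ⊢
  generalize (AB L).1 = a at ha ⊢
  generalize (AB L).2 = b at hb ⊢
  have hxx : x ^ 2 ≤ x * (1 / 1024) := by rw [pow_two]; exact mul_le_mul_of_nonneg_left hx hx0
  have hden : (1023 / 1024 : ℚ) ≤ 1 - x ^ 2 * (1 / 2) := by nlinarith
  have hE : (0 : ℚ) < 1 - x ^ 2 * (1 / 4) := by nlinarith
  have hw1 : x ^ 2 * (1 / 2) / (1 - x ^ 2 * (1 / 2)) ≤ x * (1 / 1000) := by
    rw [div_le_iff₀ (by linarith)]; nlinarith
  have hw0 : 0 ≤ x ^ 2 * (1 / 2) / (1 - x ^ 2 * (1 / 2)) := div_nonneg (by positivity) (by linarith)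
  generalize x ^ 2 * (1 / 2) / (1 - x ^ 2 * (1 / 2)) = w at hw1 hw0 ⊢
  have hv : x * (1 / 2) + (x * (1 / 2)) ^ 2 ≤ x * (501 / 1000) := by nlinarith
  have hv0 : 0 ≤ x * (1 / 2) + (x * (1 / 2)) ^ 2 := by positivity
  generalize x * (1 / 2) + (x * (1 / 2)) ^ 2 = v at hv hv0 ⊢
  rw [← add_div, div_mul_eq_mul_div, div_le_iff₀ hE]
  have hf : a * (1 + 2 * w) + b * (1 + w) + v * (1 + w) * (2 * a + b) ≤ (a + b) * (1 + x * (11 / 10)) := by
    have h1 : v * (1 + w) ≤ x * (52 / 100) := by nlinarith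
    nlinarith [mul_nonneg ha hw0, mul_nonneg hb hw0, mul_le_mul_of_nonneg_left hw1 ha, mul_le_mul_of_nonneg_left hw1 hb,
      mul_le_mul_of_nonneg_left h1 ha, mul_le_mul_of_nonneg_left h1 hb]
  refine (mul_le_mul_of_nonneg_right hf (by positivity)).trans ?_
  rw [mul_assoc, mul_assoc]
  refine mul_le_mul_of_nonneg_left ?_ (by positivity)
  nlinarith [mul_nonneg hx0 hx0, mul_le_mul_of_nonneg_left hxx hx0]

theorem AB_le (L : ℕ) : (AB L).1 + (AB L).2 ≤ 38 / 5 := by
  have h11 : ((AB 11).1 + (AB 11).2) * (1 + 3 * (1 / 2) ^ 11) ≤ 38 / 5 := by norm_num [AB]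
  have hanti : ∀ i, ((AB (11 + i)).1 + (AB (11 + i)).2) * (1 + 3 * (1 / 2) ^ (11 + i)) ≤ 38 / 5 := by
    intro i
    induction i with
    | zero => exact h11
    | succ i ih => exact (tail_step (L := 11 + i) (by omega)).trans ih
  have hpow : ∀ e : ℕ, (1 : ℚ) ≤ 1 + 3 * (1 / 2) ^ e := fun e => le_add_of_nonneg_right (by positivity)
  rcases Nat.lt_or_ge L 11 with h | h
  · interval_cases L <;> norm_num [AB]
  · obtain ⟨i, rfl⟩ := Nat.exists_eq_add_of_le h
    refine le_trans ?_ (hanti i)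
    have h0 := ab_nonneg (11 + i)
    exact le_mul_of_one_le_right (by linarith [h0.1, h0.2]) (hpow _)

theorem sum_cnt_all (L K : ℕ) :
    ∑ n ∈ Finset.range K, ((cnt L n false + cnt L n true : ℕ) : ℚ) * (1 / 2) ^ n ≤ 38 / 5 := by
  simp only [Nat.cast_add, add_mul, Finset.sum_add_distrib]
  exact (add_le_add (sum_cnt_le L K false) (sum_cnt_le L K true)).trans (AB_le L)

theorem sdc_le {q : ℕ} (hq : 2 ≤ q) {e : ℕ} (he : 2 ≤ e) (d : ℕ) :
    (sdc q (d + 1) : ℚ) * (1 / q) ^ (e * (d + 1)) ≤ (1 / 2) * ((1 / 2) ^ (e - 1)) ^ (d + 1) := by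
  have hq0 : (0 : ℚ) < q := by exact_mod_cast (show 0 < q by omega)
  have ht : (1 : ℚ) / q ≤ 1 / 2 := one_div_le_one_div_of_le (by norm_num) (by exact_mod_cast hq)
  have hpos : 1 ≤ (e - 1) * (d + 1) := Nat.one_le_iff_ne_zero.2 (Nat.mul_ne_zero (by omega) (by omega))
  obtain ⟨m, hm⟩ := Nat.exists_eq_add_of_le hpos
  rw [show e * (d + 1) = (1 + m) + (d + 1) by
      rw [← hm]
      calc e * (d + 1) = (e - 1 + 1) * (d + 1) := by rw [show e - 1 + 1 = e by omega]
        _ = (e - 1) * (d + 1) + (d + 1) := by ring,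
    ← pow_mul (1 / 2 : ℚ), hm, sdc, Nat.cast_mul, Nat.cast_sub (by omega), Nat.cast_one, Nat.cast_pow,
    pow_add _ (1 + m) (d + 1)]
  have hone : (q : ℚ) ^ d * (1 / (q : ℚ)) ^ (d + 1) = 1 / q := by
    rw [pow_succ, ← mul_assoc, ← mul_pow, mul_one_div_cancel hq0.ne', one_pow, one_mul]
  have hquad : ((q : ℚ) - 1) * (1 / q) * (1 / q) ≤ 1 / 4 := by
    rw [show ((q : ℚ) - 1) * (1 / q) * (1 / q) = 1 / q - (1 / q) ^ 2 by field_simp]
    nlinarith [sq_nonneg ((1 : ℚ) / q - 1 / 2)]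
  calc ((q : ℚ) - 1) * q ^ d * ((1 / (q : ℚ)) ^ (1 + m) * (1 / (q : ℚ)) ^ (d + 1))
      = ((q : ℚ) - 1) * (1 / q) ^ (1 + m) * (q ^ d * (1 / (q : ℚ)) ^ (d + 1)) := by ring
    _ = (((q : ℚ) - 1) * (1 / q) * (1 / q)) * (1 / q) ^ m := by rw [hone, pow_add, pow_one]; ring
    _ ≤ 1 / 4 * (1 / 2) ^ m := mul_le_mul hquad (pow_le_pow_left₀ (by positivity) ht m) (by positivity) (by norm_num)
    _ = 1 / 2 * (1 / 2) ^ (1 + m) := by rw [pow_add]; ring

theorem sum_sdc_le {q : ℕ} (hq : 2 ≤ q) (J K : ℕ) :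
    ∑ d ∈ Finset.range K, (sdc q d : ℚ) * (1 / q) ^ ((J + 2) * d) ≤
      (1 - (1 / 2) ^ (J + 2)) / (1 - (1 / 2) ^ (J + 1)) := by
  have hx1 : (1 / 2 : ℚ) ^ (J + 1) < 1 := pow_lt_one₀ (by norm_num) (by norm_num) (by omega)
  have hx0 : (0 : ℚ) ≤ (1 / 2) ^ (J + 1) := by positivity
  have heq : (1 - (1 / 2 : ℚ) ^ (J + 2)) / (1 - (1 / 2) ^ (J + 1)) =
      1 + (1 / 2) * ((1 / 2) ^ (J + 1) / (1 - (1 / 2) ^ (J + 1))) := by
    rw [pow_succ (1 / 2 : ℚ) (J + 1)]
    revert hx1
    generalize (1 / 2 : ℚ) ^ (J + 1) = x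
    intro hx1
    have : 1 - x ≠ 0 := by linarith
    field_simp
    ring
  rw [heq]
  refine le_trans (Finset.sum_le_sum (g := fun d => (if d = 0 then 1 else (1 / 2 : ℚ)) * ((1 / 2) ^ (J + 1)) ^ d)
    fun d _ => ?_) (geom_bit_le hx0 hx1 (by norm_num) K)
  rcases d with _ | d
  · simp [sdc]
  · rw [if_neg d.succ_ne_zero]
    exact sdc_le hq (by omega) d

theorem sum_rcnt_le {q : ℕ} (hq : 2 ≤ q) : ∀ J K : ℕ,
    ∑ n ∈ Finset.range K, (rcnt q J n : ℚ) * (1 / q) ^ n ≤ (1 - (1 / 2) ^ (J + 1)) * 2 := by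
  intro J
  induction J with
  | zero =>
    intro K
    rcases K with _ | K
    · simp; norm_num
    · rw [Finset.sum_eq_single 0 (fun b _ hb => by simp [rcnt, hb]) (by simp)]
      simp [rcnt]; norm_num
  | succ J ih =>
    intro K
    set t : ℚ := 1 / q
    calc ∑ n ∈ Finset.range K, (rcnt q (J + 1) n : ℚ) * t ^ n
        ≤ ∑ n ∈ Finset.range K, ∑ m ∈ Finset.range K,
            (sdc q m : ℚ) * (if (J + 2) * m ≤ n then (rcnt q J (n - (J + 2) * m) : ℚ) * t ^ n else 0) := by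
          refine Finset.sum_le_sum fun n hn => ?_
          have hn' := Finset.mem_range.1 hn
          rw [rcnt, Nat.cast_sum, Finset.sum_mul]
          refine le_trans (Finset.sum_le_sum fun m hm => ?_)
            (Finset.sum_le_sum_of_subset_of_nonneg (s := Finset.range (n / (J + 2) + 1)) ?_ fun m _ _ => by positivity)
          · have hm' := Nat.lt_succ_iff.1 (Finset.mem_range.1 hm)
            rw [Nat.le_div_iff_mul_le (by omega), mul_comm] at hm'
            rw [if_pos hm', Nat.cast_mul, mul_assoc]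
          · intro m hm
            have h1 := Finset.mem_range.1 hm
            have h2 := Nat.div_le_self n (J + 2)
            exact Finset.mem_range.2 (by omega)
      _ = ∑ m ∈ Finset.range K, (sdc q m : ℚ) * ∑ n ∈ Finset.range K,
            (if (J + 2) * m ≤ n then (rcnt q J (n - (J + 2) * m) : ℚ) * t ^ n else 0) := by
          rw [Finset.sum_comm]
          exact Finset.sum_congr rfl fun m _ => by rw [Finset.mul_sum]
      _ ≤ ∑ m ∈ Finset.range K, (sdc q m : ℚ) * (t ^ ((J + 2) * m) * ((1 - (1 / 2) ^ (J + 1)) * 2)) := by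
          refine Finset.sum_le_sum fun m _ => mul_le_mul_of_nonneg_left ?_ (by positivity)
          exact (sum_shift_le (fun i => (rcnt q J i : ℚ)) (fun i => by positivity) (by positivity) _ K).trans
            (mul_le_mul_of_nonneg_left (ih K) (by positivity))
      _ ≤ (1 - (1 / 2) ^ (J + 2)) / (1 - (1 / 2) ^ (J + 1)) * ((1 - (1 / 2) ^ (J + 1)) * 2) := by
          simp only [← mul_assoc]
          rw [← Finset.sum_mul, ← Finset.sum_mul]
          have hx1 : (1 / 2 : ℚ) ^ (J + 1) < 1 := pow_lt_one₀ (by norm_num) (by norm_num) (by omega)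
          exact mul_le_mul_of_nonneg_right (mul_le_mul_of_nonneg_right (sum_sdc_le hq J K) (by linarith)) (by norm_num)
      _ = (1 - (1 / 2) ^ (J + 1 + 1)) * 2 := by
          have hx1 : (1 / 2 : ℚ) ^ (J + 1) < 1 := pow_lt_one₀ (by norm_num) (by norm_num) (by omega)
          rw [← mul_assoc, div_mul_cancel₀ _ (by linarith)]

theorem sum_sdc (q : ℕ) (hq : 1 ≤ q) : ∀ M, ∑ d ∈ Finset.range (M + 1), sdc q d = q ^ M
  | 0 => by simp [sdc]
  | M + 1 => by
    rw [Finset.sum_range_succ, sum_sdc q hq M, sdc, add_comm, ← Nat.succ_mul, Nat.succ_eq_add_one,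
      Nat.sub_add_cancel hq, pow_succ']

/-- The total bound. -/
theorem total_le {q : ℕ} (hq : 2 ≤ q) (n L J : ℕ) :
    5 * ∑ j ∈ Finset.range (n + 1), ∑ R ∈ Finset.range (n + 1 - j),
        (cnt L j false + cnt L j true) * (rcnt q J R * ∑ d ∈ Finset.range (n - j - R + 1), sdc q d) ≤
      76 * q ^ n := by
  have hq0 : (q : ℚ) ≠ 0 := by exact_mod_cast (show q ≠ 0 by omega)
  set t : ℚ := 1 / q with ht
  suffices hh : ((∑ j ∈ Finset.range (n + 1), ∑ R ∈ Finset.range (n + 1 - j),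
      (cnt L j false + cnt L j true) * (rcnt q J R * ∑ d ∈ Finset.range (n - j - R + 1), sdc q d) : ℕ) : ℚ) ≤
        76 / 5 * (q : ℚ) ^ n by
    have : ((5 * ∑ j ∈ Finset.range (n + 1), ∑ R ∈ Finset.range (n + 1 - j),
        (cnt L j false + cnt L j true) * (rcnt q J R * ∑ d ∈ Finset.range (n - j - R + 1), sdc q d) : ℕ) : ℚ) ≤
          ((76 * q ^ n : ℕ) : ℚ) := by
      rw [Nat.cast_mul, Nat.cast_mul, Nat.cast_pow]
      push_cast at hh ⊢
      linarith
    exact_mod_cast this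
  simp only [sum_sdc q (by omega)]
  rw [Nat.cast_sum]
  calc ∑ j ∈ Finset.range (n + 1), ((∑ R ∈ Finset.range (n + 1 - j),
        (cnt L j false + cnt L j true) * (rcnt q J R * q ^ (n - j - R)) : ℕ) : ℚ)
      ≤ ∑ j ∈ Finset.range (n + 1), (q : ℚ) ^ n * (((cnt L j false + cnt L j true : ℕ) : ℚ) * (1 / 2) ^ j * 2) := by
        refine Finset.sum_le_sum fun j hj => ?_
        have hj' := Finset.mem_range.1 hj
        rw [Nat.cast_sum]
        have h1 : ∀ R ∈ Finset.range (n + 1 - j),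
            (((cnt L j false + cnt L j true) * (rcnt q J R * q ^ (n - j - R)) : ℕ) : ℚ) =
              (q : ℚ) ^ n * (((cnt L j false + cnt L j true : ℕ) : ℚ) * t ^ j * ((rcnt q J R : ℚ) * t ^ R)) := by
          intro R hR
          have hR' := Finset.mem_range.1 hR
          rw [Nat.cast_mul, Nat.cast_mul, Nat.cast_pow, show (q : ℚ) ^ n = q ^ (n - j - R) * q ^ j * q ^ R by
            rw [← pow_add, ← pow_add]; congr 1; omega, ht, one_div, inv_pow, inv_pow]
          field_simp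
        rw [Finset.sum_congr rfl h1, ← Finset.mul_sum, ← Finset.mul_sum]
        refine mul_le_mul_of_nonneg_left (mul_le_mul ?_ ((sum_rcnt_le hq J _).trans ?_) (by positivity) (by positivity))
          (by positivity)
        · exact mul_le_mul_of_nonneg_left (pow_le_pow_left₀ (by positivity)
            (one_div_le_one_div_of_le (by norm_num) (by exact_mod_cast hq)) j) (by positivity)
        · exact mul_le_of_le_one_left (by norm_num) (sub_le_self _ (by positivity))
    _ ≤ 76 / 5 * (q : ℚ) ^ n := by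
        rw [← Finset.mul_sum, ← Finset.sum_mul, mul_comm (76 / 5 : ℚ)]
        refine mul_le_mul_of_nonneg_left ?_ (by positivity)
        linarith [sum_cnt_all L (n + 1)]

end CfsgLib.SpEven
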