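import Mathlib

/-!
# Counting level data

`labs L n s` covers the data of canonical unipotent lists without `W 1` on levels below `L`, of weight `n`,
with `s` telling whether the top level has a `V`; `rests` covers the tuples of layer polynomials of
exponents at least `2`.
-/

set_option autoImplicit false
set_option linter.unusedSectionVars false

namespace CfsgLib.SpEven

/-- Data of level `i`: multiplicity of `V (i+1)` and its bit, of `W (2i+1)` and its bit, of `W (2i+2)`. -/
structure Dat where
  v : ℕ
  bv : Bool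
  r : ℕ
  bw : Bool
  e : ℕ
deriving DecidableEq

/-- The empty level. -/
def Dat.zero : Dat := ⟨0, false, 0, false, 0⟩

/-- Weight of a level. -/
def Dat.weight (i : ℕ) (d : Dat) : ℕ := d.v * (i + 1) + d.r * (i + i + 1) + d.e * (i + i + 2)

/-- Whether there is a `V` on the level before `L`. -/
def flag (L : ℕ) (f : ℕ → Dat) : Bool := decide (0 < L ∧ (f (L - 1)).v ≠ 0)

/-- Admissible data of level `i` after a level with flag `p`. -/
structure Dat.Ok (i : ℕ) (p : Bool) (d : Dat) : Prop where
  v_le : d.v ≤ 2
  low : i = 0 → d.r = 0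
  bitV : d.bv = true → d.v ≠ 0 ∧ 0 < i ∧ d.r = 0 ∧ p = false
  bitW : d.bw = true → d.r ≠ 0 ∧ 0 < i ∧ p = false

/-- The admissible pairs of bits. -/
def bits (L r v : ℕ) (p : Bool) : Finset (Bool × Bool) :=
  if 0 < L ∧ p = false ∧ r ≠ 0 then {(false, false), (false, true)}
  else if 0 < L ∧ p = false ∧ v ≠ 0 ∧ r = 0 then {(false, false), (true, false)}
  else {(false, false)}

theorem bits_mem {L : ℕ} {p : Bool} {d : Dat} (h : d.Ok L p) : (d.bv, d.bw) ∈ bits L d.r d.v p := by
  obtain ⟨v, bv, r, bw, e⟩ := d
  obtain ⟨-, -, h1, h2⟩ := h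
  simp only [bits] at *
  rcases bv with _ | _ <;> rcases bw with _ | _
  · split_ifs <;> simp
  · obtain ⟨a, b, c⟩ := h2 rfl
    rw [if_pos ⟨b, c, a⟩]; simp
  · obtain ⟨a, b, c, d⟩ := h1 rfl
    rw [if_neg (fun hh => hh.2.2 c), if_pos ⟨b, d, a, c⟩]; simp
  · exact absurd (h1 rfl).2.2.1 (h2 rfl).1

/-- The choices at level `L` inside weight `n` with flag `s`. -/
def choices (L n : ℕ) (s : Bool) : Finset (ℕ × ℕ × ℕ × Bool) :=
  ((Finset.range (n + 1)) ×ˢ ((Finset.range (n + 1)) ×ˢ ((Finset.range 3) ×ˢ (Finset.univ : Finset Bool)))).filter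
    fun x => x.2.2.1 * (L + 1) + x.2.1 * (L + L + 1) + x.1 * (L + L + 2) ≤ n ∧ (L = 0 → x.2.1 = 0) ∧
      decide (x.2.2.1 ≠ 0) = s

/-- The covering sets. -/
noncomputable def labs : ℕ → ℕ → Bool → Finset (ℕ → Dat)
  | 0, n, s => if n = 0 ∧ s = false then {fun _ => Dat.zero} else ∅
  | L + 1, n, s =>
    haveI : DecidableEq (ℕ → Dat) := Classical.decEq _
    (choices L n s).biUnion fun x =>
      ((bits L x.2.1 x.2.2.1 x.2.2.2) ×ˢ
        labs L (n - (x.2.2.1 * (L + 1) + x.2.1 * (L + L + 1) + x.1 * (L + L + 2))) x.2.2.2).image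
        fun y => Function.update y.2 L ⟨x.2.2.1, y.1.1, x.2.1, y.1.2, x.1⟩

/-- The bound for the size of `labs`. -/
def cnt : ℕ → ℕ → Bool → ℕ
  | 0, n, s => if n = 0 ∧ s = false then 1 else 0
  | L + 1, n, s => ∑ x ∈ choices L n s, (bits L x.2.1 x.2.2.1 x.2.2.2).card *
      cnt L (n - (x.2.2.1 * (L + 1) + x.2.1 * (L + L + 1) + x.1 * (L + L + 2))) x.2.2.2

theorem card_labs : ∀ L n s, (labs L n s).card ≤ cnt L n s
  | 0, n, s => by rw [labs, cnt]; split_ifs <;> simp
  | L + 1, n, s => by
    classical
    rw [labs, cnt]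
    refine Finset.card_biUnion_le.trans (Finset.sum_le_sum fun x _ => Finset.card_image_le.trans ?_)
    rw [Finset.card_product]
    exact Nat.mul_le_mul_left _ (card_labs L _ _)

theorem mem_labs : ∀ (L : ℕ) (f : ℕ → Dat), (∀ i, L ≤ i → f i = Dat.zero) →
    (∀ i < L, (f i).Ok i (flag i f)) → f ∈ labs L (∑ i ∈ Finset.range L, (f i).weight i) (flag L f)
  | 0, f, h0, _ => by
    rw [labs]
    simp only [Finset.range_zero, Finset.sum_empty, flag, Nat.lt_irrefl, false_and, decide_false, and_self,
      if_true, Finset.mem_singleton]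
    exact funext fun i => h0 i (Nat.zero_le i)
  | L + 1, f, h0, hok => by
    classical
    set g : ℕ → Dat := Function.update f L Dat.zero with hg
    have hlt : ∀ i < L, g i = f i := fun i hi => Function.update_of_ne hi.ne _ _
    have hflag : ∀ i ≤ L, flag i g = flag i f := by
      intro i hi
      rcases Nat.eq_zero_or_pos i with rfl | hpos
      · simp [flag]
      · rw [flag, flag, hlt (i - 1) (by omega)]
    have hgm := mem_labs L g (fun i hi => by
        rcases eq_or_ne i L with rfl | hne
        · exact Function.update_self ..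
        · rw [hg, Function.update_of_ne hne]; exact h0 i (by omega))
      (fun i hi => by rw [hlt i hi, hflag i hi.le]; exact hok i (Nat.lt_succ_of_lt hi))
    have hsum : ∑ i ∈ Finset.range L, (g i).weight i = ∑ i ∈ Finset.range L, (f i).weight i :=
      Finset.sum_congr rfl fun i hi => by rw [hlt i (Finset.mem_range.1 hi)]
    rw [hsum, hflag L le_rfl] at hgm
    have hL := hok L (Nat.lt_succ_self L)
    rw [labs, Finset.mem_biUnion]
    refine ⟨((f L).e, (f L).r, (f L).v, flag L f), ?_, Finset.mem_image.2
      ⟨(((f L).bv, (f L).bw), g), Finset.mem_product.2 ⟨bits_mem hL, ?_⟩, ?_⟩⟩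
    · have hw : (f L).weight L ≤ ∑ i ∈ Finset.range (L + 1), (f i).weight i :=
        Finset.single_le_sum (f := fun i => (f i).weight i) (fun i _ => Nat.zero_le _) (Finset.self_mem_range_succ L)
      rw [choices, Finset.mem_filter]
      simp only [Finset.mem_product, Finset.mem_range, Finset.mem_univ, and_true]
      simp only [Dat.weight] at hw ⊢
      have he : (f L).e ≤ (f L).e * (L + L + 2) := Nat.le_mul_of_pos_right _ (by omega)
      have hr : (f L).r ≤ (f L).r * (L + L + 1) := Nat.le_mul_of_pos_right _ (by omega)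
      refine ⟨⟨by omega, by omega, by have := hL.v_le; omega⟩, hw, hL.low, ?_⟩
      simp [flag]
    · have hsub : ∑ i ∈ Finset.range (L + 1), (f i).weight i -
          ((f L).v * (L + 1) + (f L).r * (L + L + 1) + (f L).e * (L + L + 2)) =
          ∑ i ∈ Finset.range L, (f i).weight i := by
        rw [Finset.sum_range_succ]
        simp only [Dat.weight]
        omega
      rw [hsub]; exact hgm
    · show Function.update g L ⟨(f L).v, (f L).bv, (f L).r, (f L).bw, (f L).e⟩ = f
      rw [hg, Function.update_idem]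
      exact Function.update_eq_self L f

variable {α : Type*}

/-- Tuples with degrees `d` at exponents `2, …, J + 1`. -/
noncomputable def rests (P : ℕ → Finset α) (one : α) : ℕ → ℕ → Finset (ℕ → α)
  | 0, N => if N = 0 then {fun _ => one} else ∅
  | J + 1, N =>
    haveI : DecidableEq (ℕ → α) := Classical.decEq _
    (Finset.range (N / (J + 2) + 1)).biUnion fun m =>
      ((P m) ×ˢ rests P one J (N - (J + 2) * m)).image fun y => Function.update y.2 J y.1

/-- The number of layer polynomials of half degree `d`. -/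
def sdc (q : ℕ) : ℕ → ℕ
  | 0 => 1
  | d + 1 => (q - 1) * q ^ d

/-- The bound for the size of `rests`. -/
def rcnt (q : ℕ) : ℕ → ℕ → ℕ
  | 0, N => if N = 0 then 1 else 0
  | J + 1, N => ∑ m ∈ Finset.range (N / (J + 2) + 1), sdc q m * rcnt q J (N - (J + 2) * m)

theorem card_rests {P : ℕ → Finset α} {one : α} {q : ℕ} (hP : ∀ d, (P d).card ≤ sdc q d) :
    ∀ J N, (rests P one J N).card ≤ rcnt q J N
  | 0, N => by rw [rests, rcnt]; split_ifs <;> simp
  | J + 1, N => by
    classical
    rw [rests, rcnt]
    refine Finset.card_biUnion_le.trans (Finset.sum_le_sum fun m _ => Finset.card_image_le.trans ?_)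
    rw [Finset.card_product]
    exact Nat.mul_le_mul (hP m) (card_rests hP J _)

theorem mem_rests (P : ℕ → Finset α) (one : α) (deg : α → ℕ) :
    ∀ (J : ℕ) (f : ℕ → α), (∀ i, J ≤ i → f i = one) → (∀ i < J, f i ∈ P (deg (f i))) →
      f ∈ rests P one J (∑ i ∈ Finset.range J, (i + 2) * deg (f i))
  | 0, f, h0, _ => by
    rw [rests]
    simp only [Finset.range_zero, Finset.sum_empty, if_true, Finset.mem_singleton]
    exact funext fun i => h0 i (Nat.zero_le i)
  | J + 1, f, h0, hP => by
    classical
    set g : ℕ → α := Function.update f J one with hg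
    have hlt : ∀ i < J, g i = f i := fun i hi => Function.update_of_ne hi.ne _ _
    have hgm := mem_rests P one deg J g (fun i hi => by
        rcases eq_or_ne i J with rfl | hne
        · exact Function.update_self ..
        · rw [hg, Function.update_of_ne hne]; exact h0 i (by omega))
      (fun i hi => by rw [hlt i hi]; exact hP i (Nat.lt_succ_of_lt hi))
    rw [Finset.sum_congr rfl fun i hi => by rw [hlt i (Finset.mem_range.1 hi)]] at hgm
    rw [rests, Finset.mem_biUnion]
    refine ⟨deg (f J), ?_, Finset.mem_image.2 ⟨(f J, g), Finset.mem_product.2 ⟨hP J (Nat.lt_succ_self J), ?_⟩, ?_⟩⟩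
    · rw [Finset.mem_range, Nat.lt_succ_iff, Nat.le_div_iff_mul_le (by omega), Finset.sum_range_succ]
      rw [mul_comm]; exact Nat.le_add_left _ _
    · rw [Finset.sum_range_succ, Nat.add_sub_cancel]; exact hgm
    · show Function.update g J (f J) = f
      rw [hg, Function.update_idem]
      exact Function.update_eq_self J f

end CfsgLib.SpEven
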