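import Cfsg.Agent.Geo.FormClasses.Split
import Cfsg.Agent.Geo.FormClasses.RestDiv
import Cfsg.Agent.GLClass.SymplecticClasses
import Cfsg.Agent.SpEven.Count

/-!
# The part without eigenvalue `1` in characteristic two

Its layer polynomials are palindromic of even degree `2 d`, without root `1`: at most `(q - 1) q ^ (d - 1)`
of them for `d ≥ 1`.
-/

set_option autoImplicit false
set_option linter.unusedSectionVars false
set_option linter.style.haveILetI false

namespace CfsgLib.SpEven

open Polynomial Module CfsgLib.GLClass CfsgLib.Geo.USemi CfsgLib.Geo.FormClasses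

variable {F : Type*} [Field F] [CharP F 2]

/-- A palindromic monic polynomial with constant term `1` and without root `1`. -/
structure IsLay (f : F[X]) : Prop where
  monic : f.Monic
  zero : f.coeff 0 = 1
  sym : ∀ k ≤ f.natDegree, f.coeff k = f.coeff (f.natDegree - k)
  one : f.eval 1 ≠ 0

theorem isLay_one : IsLay (1 : F[X]) :=
  ⟨monic_one, by simp, fun k hk => by rw [natDegree_one] at hk ⊢; rw [Nat.zero_sub, Nat.le_zero.1 hk], by simp⟩

theorem pair_sum_zero {f : ℕ → F} {d : ℕ} (h : ∀ k ≤ d, f k = f (d - k)) :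
    ∑ k ∈ (Finset.range (d + 1)).filter (fun k => k + k ≠ d), f k = 0 := by
  refine Finset.sum_involution (fun k _ => d - k) (fun k hk => ?_) (fun k hk _ => ?_) (fun k hk => ?_)
    fun k hk => ?_
  all_goals simp only [Finset.mem_filter, Finset.mem_range] at hk ⊢
  · rw [← h k (by omega)]
    exact CharTwo.add_self_eq_zero _
  · omega
  · exact ⟨by omega, by omega⟩
  · omega

theorem IsLay.even {f : F[X]} (hf : IsLay f) : Even f.natDegree := by
  by_contra ho
  refine hf.one ?_
  rw [eval_eq_sum_range]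
  simp only [one_pow, mul_one]
  have h := pair_sum_zero hf.sym
  have he : (Finset.range (f.natDegree + 1)).filter (fun k => k + k ≠ f.natDegree) = Finset.range (f.natDegree + 1) :=
    Finset.filter_true_of_mem fun k _ h' => ho ⟨k, h'.symm⟩
  rwa [he] at h

theorem IsLay.mid {f : F[X]} (hf : IsLay f) {d : ℕ} (hd : f.natDegree = d + d) : f.coeff d ≠ 0 := by
  intro h0
  refine hf.one ?_
  rw [eval_eq_sum_range]
  simp only [one_pow, mul_one]
  rw [← Finset.sum_filter_add_sum_filter_not (Finset.range (f.natDegree + 1)) (fun k => k + k ≠ f.natDegree),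
    pair_sum_zero hf.sym, zero_add]
  refine Finset.sum_eq_zero fun k hk => ?_
  simp only [Finset.mem_filter, not_not] at hk
  rwa [show k = d by omega]

variable [Fintype F]

/-- Coordinates of a layer polynomial. -/
theorem lay_inj {d : ℕ} {f f' : F[X]} (hf : IsLay f) (hf' : IsLay f') (hd : f.natDegree = d + 1 + (d + 1))
    (hd' : f'.natDegree = d + 1 + (d + 1)) (h : ∀ i : Fin d, f.coeff (i + 1) = f'.coeff (i + 1))
    (hm : f.coeff (d + 1) = f'.coeff (d + 1)) : f = f' := by
  have hlow : ∀ k ≤ d + 1, f.coeff k = f'.coeff k := by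
    intro k hk
    rcases k with _ | k
    · rw [hf.zero, hf'.zero]
    · rcases Nat.lt_or_ge k d with hlt | hge
      · exact h ⟨k, hlt⟩
      · rw [show k + 1 = d + 1 by omega]; exact hm
  refine Polynomial.ext fun k => ?_
  rcases Nat.lt_or_ge f.natDegree k with hk | hk
  · rw [coeff_eq_zero_of_natDegree_lt hk, coeff_eq_zero_of_natDegree_lt (by omega)]
  rcases Nat.le_total k (d + 1) with hk' | hk'
  · exact hlow k hk'
  · rw [hf.sym k hk, hf'.sym k (by omega), hd, hd']
    exact hlow _ (by omega)

/-- Layer polynomials of half degree `d` as a finite set. -/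
theorem lays_finite (d : ℕ) :
    {f : F[X] | IsLay f ∧ f.natDegree = d + d}.Finite ∧
      Nat.card {f : F[X] // IsLay f ∧ f.natDegree = d + d} ≤ sdc (Fintype.card F) d := by
  rcases d with _ | d
  · haveI : Subsingleton {f : F[X] // IsLay f ∧ f.natDegree = 0 + 0} := ⟨fun f g => Subtype.ext (by
      rw [f.2.1.monic.natDegree_eq_zero.1 f.2.2, g.2.1.monic.natDegree_eq_zero.1 g.2.2])⟩
    exact ⟨Set.finite_coe_iff.1 (Finite.of_subsingleton (α := {f : F[X] // IsLay f ∧ f.natDegree = 0 + 0})),
      Finite.card_le_one_iff_subsingleton.2 inferInstance⟩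
  · let Φ : {f : F[X] // IsLay f ∧ f.natDegree = d + 1 + (d + 1)} → (Fin d → F) × {a : F // a ≠ 0} :=
      fun f => (fun i => f.1.coeff (i + 1), ⟨f.1.coeff (d + 1), f.2.1.mid f.2.2⟩)
    have hΦ : Function.Injective Φ := fun f g h => Subtype.ext (lay_inj f.2.1 g.2.1 f.2.2 g.2.2
      (fun i => congrFun (congrArg Prod.fst h) i) (congrArg (fun x => (x.2 : F)) h))
    haveI := Finite.of_injective Φ hΦ
    refine ⟨Set.finite_coe_iff.1 (Finite.of_injective Φ hΦ), (Nat.card_le_card_of_injective Φ hΦ).trans (le_of_eq ?_)⟩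
    classical
    rw [Nat.card_prod, Nat.card_fun, Nat.card_fin, Nat.card_eq_fintype_card (α := F),
      Nat.card_eq_fintype_card, Fintype.card_subtype_compl, Fintype.card_subtype_eq, sdc, mul_comm]

/-- The finite set of layer polynomials. -/
noncomputable def lays (F : Type*) [Field F] [CharP F 2] [Fintype F] (d : ℕ) : Finset F[X] :=
  (lays_finite (F := F) d).1.toFinset

theorem card_lays (d : ℕ) : (lays F d).card ≤ sdc (Fintype.card F) d := by
  rw [lays, ← Set.ncard_eq_toFinset_card _ (lays_finite (F := F) d).1, ← Nat.card_coe_set_eq]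
  exact (lays_finite (F := F) d).2

theorem mem_lays {f : F[X]} (hf : IsLay f) : f ∈ lays F (f.natDegree / 2) := by
  rw [lays, Set.Finite.mem_toFinset]
  obtain ⟨r, hr⟩ := hf.even
  exact ⟨hf, by omega⟩

variable [DecidableEq F] {V : Type*} [AddCommGroup V] [Module F V] [FiniteDimensional F V]
  {B : LinearMap.BilinForm F V} {T : V →ₗ[F] V}

theorem isLay_layer (hB : IsForm (1 : F) B) (hT : IsIsom B T) (hne : ∀ x, T (T x) = x → x = 0) (j : ℕ) :
    IsLay (layer T j) := by
  have hev : (matOf T).charpoly.eval 1 ≠ 0 := by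
    rw [Matrix.eval_charpoly]
    intro h0
    obtain ⟨v, hv0, hv⟩ := Matrix.exists_mulVec_eq_zero_iff.2 h0
    set b := Module.finBasis F V
    refine hv0 ?_
    have hTv : Matrix.mulVec (matOf T) v = v := by
      rw [Matrix.sub_mulVec, sub_eq_zero, map_one, Matrix.one_mulVec] at hv
      exact hv.symm
    have hx : T (b.equivFun.symm v) = b.equivFun.symm v := by
      apply b.equivFun.injective
      rw [LinearEquiv.apply_symm_apply, Module.Basis.equivFun_apply, ← LinearMap.toMatrix_mulVec_repr b b T,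
        ← Module.Basis.equivFun_apply, LinearEquiv.apply_symm_apply]
      exact hTv
    exact b.equivFun.symm.map_eq_zero_iff.1 (hne _ (by rw [hx, hx]))
  have hmem : ∀ x ∈ elemDiv (matOf T), x.1.Monic ∧ x.1.coeff 0 ≠ 0 ∧ x.1.eval 1 ≠ 0 := by
    intro x hx
    have hdvd := dvd_charpoly_of_mem hx
    refine ⟨(elemDiv_spec _ hx).1, coeff_zero_ne_of_dvd hdvd ?_, fun h0 => ?_⟩
    · intro h0
      apply det_matOf_ne hB hT
      rw [Matrix.det_eq_sign_charpoly_coeff, h0, mul_zero]
    · obtain ⟨k, hk⟩ := hdvd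
      apply hev
      rw [hk, eval_mul, h0, zero_mul]
  have hm : (layer T j).Monic := polys_monic (fun x hx => (hmem x hx).1) j
  have h1 : (layer T j).eval 1 ≠ 0 := by
    rw [layer, polys, eval_multiset_prod]
    refine Multiset.prod_ne_zero fun h0 => ?_
    obtain ⟨f, hf, hf0⟩ := Multiset.mem_map.1 h0
    obtain ⟨x, hx, rfl⟩ := Multiset.mem_map.1 hf
    exact (hmem x (Multiset.mem_of_mem_filter hx)).2.2 hf0
  have h0 : (layer T j).coeff 0 ≠ 0 := by
    rw [layer, polys, coeff_zero_eq_eval_zero, eval_multiset_prod]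
    refine Multiset.prod_ne_zero fun h0 => ?_
    obtain ⟨f, hf, hf0⟩ := Multiset.mem_map.1 h0
    obtain ⟨x, hx, rfl⟩ := Multiset.mem_map.1 hf
    rw [← coeff_zero_eq_eval_zero] at hf0
    exact (hmem x (Multiset.mem_of_mem_filter hx)).2.1 hf0
  have hd : dual (RingHom.id F) (layer T j) = layer T j := by
    rw [layer, polys, dual_prod, Multiset.map_map]
    conv_rhs => rw [← elemDiv_dual hB hT, Multiset.filter_map, Multiset.map_map]
    rfl
  have hz : (layer T j).coeff 0 = 1 := by
    have h := (CfsgLib.GLClass.Symp.eval_selfDual hd (one_mul 1)).resolve_right h0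
    rw [mul_eq_zero, one_pow, mul_one, sub_eq_zero] at h
    exact h.resolve_left h1
  refine ⟨hm, hz, fun k hk => ?_, h1⟩
  conv_lhs => rw [← hd]
  rw [coeff_dual _ hk]
  simp [hz]

end CfsgLib.SpEven
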