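import Cfsg.Agent.Dye.Symp
import Cfsg.Agent.SpEven.Canon
import Cfsg.Agent.SpEven.RestPart
import Cfsg.Agent.SpEven.Numeric

/-!
# `5 k (Sp 2n q) ≤ 76 q ^ n` for even `q`
-/

set_option autoImplicit false
set_option linter.unusedSectionVars false
set_option linter.style.haveILetI false

namespace CfsgLib.SpEven

open Module CfsgLib.Geo.FormClasses

/-! ## Lists to level data -/

/-- The level data of a canonical list. -/
def datOf (L : List (Blk × Bool)) (i : ℕ) : Dat :=
  ⟨(L.map Prod.fst).count (.V (i + 1)), decide ((Blk.V (i + 1), true) ∈ L),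
    if i = 0 then 0 else (L.map Prod.fst).count (.W (i + i + 1)),
    decide (0 < i ∧ (Blk.W (i + i + 1), true) ∈ L), (L.map Prod.fst).count (.W (i + i + 2))⟩

theorem count_fst (U : Blk) : ∀ L : List (Blk × Bool),
    (L.map Prod.fst).count U = L.count (U, true) + L.count (U, false)
  | [] => by simp
  | (X, b) :: L => by
    rw [List.map_cons, List.count_cons, List.count_cons, List.count_cons, count_fst U L]
    rcases eq_or_ne X U with rfl | hne
    · rcases b with _ | _ <;> simp <;> omega
    · simp [hne]

/-- The weight of one block, level by level. -/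
theorem blk_weight {n : ℕ} (U : Blk) (h0 : 0 < U.wt) (hn : U.wt ≤ n) :
    (∑ i ∈ Finset.range n, ((if U = .V (i + 1) then i + 1 else 0) +
      (if i ≠ 0 ∧ U = .W (i + i + 1) then i + i + 1 else 0) + (if U = .W (i + i + 2) then i + i + 2 else 0))) +
      (if U = .W 1 then 1 else 0) = U.wt := by
  cases U with
  | V l =>
    simp only [Blk.wt] at h0 hn ⊢
    rw [Finset.sum_eq_single (l - 1) (fun i _ hi => by simp; omega) (fun h => absurd (Finset.mem_range.2 (by omega)) h)]
    simp [show l - 1 + 1 = l by omega]
  | W m =>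
    simp only [Blk.wt] at h0 hn ⊢
    rcases Nat.even_or_odd' m with ⟨i, rfl | rfl⟩
    · rw [Finset.sum_eq_single (i - 1)
        (fun j _ hj => by
          rw [if_neg (by simp), if_neg (fun h => by have := h.2; simp at this; omega),
            if_neg (fun h => by simp at h; omega), Nat.add_zero])
        (fun h => absurd (Finset.mem_range.2 (by omega)) h),
        if_neg (by simp), if_neg (fun h => by have := h.2; simp at this; omega), if_pos (by simp; omega),
        if_neg (fun h => by simp at h; try omega)]
      omega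
    · rcases Nat.eq_zero_or_pos i with rfl | hi
      · rw [Finset.sum_eq_zero fun j _ => by
          rw [if_neg (by simp), if_neg (fun h => by have := h.2; simp at this; omega),
            if_neg (fun h => by simp at h; try omega), Nat.add_zero]]
        simp
      · rw [Finset.sum_eq_single i
          (fun j _ hj => by
            rw [if_neg (by simp), if_neg (fun h => by have := h.2; simp at this; omega),
              if_neg (fun h => by simp at h; omega), Nat.add_zero])
          (fun h => absurd (Finset.mem_range.2 (by omega)) h),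
          if_neg (by simp), if_pos ⟨by omega, by simp; omega⟩, if_neg (fun h => by simp at h; omega),
          if_neg (fun h => by simp at h; omega)]
        omega

theorem list_weight {n : ℕ} : ∀ T : List Blk, (∀ U ∈ T, 0 < U.wt ∧ U.wt ≤ n) →
    (∑ i ∈ Finset.range n, (T.count (.V (i + 1)) * (i + 1) +
      (if i = 0 then 0 else T.count (.W (i + i + 1))) * (i + i + 1) + T.count (.W (i + i + 2)) * (i + i + 2))) +
      T.count (.W 1) = (T.map Blk.wt).sum
  | [], _ => by simp
  | U :: T, h => by
    have hU := blk_weight U (h U List.mem_cons_self).1 (h U List.mem_cons_self).2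
    have ih := list_weight T fun X hX => h X (List.mem_cons_of_mem _ hX)
    rw [List.map_cons, List.sum_cons, ← hU, ← ih]
    simp only [List.count_cons, beq_iff_eq]
    rw [add_add_add_comm, ← Finset.sum_add_distrib, add_comm (List.count _ T)]
    congr 1
    refine Finset.sum_congr rfl fun i _ => ?_
    rcases eq_or_ne i 0 with rfl | hi
    · simp only [ne_eq, not_true_eq_false, false_and, if_false, if_true, Nat.zero_add, add_zero, mul_one]
      split_ifs <;> omega
    · simp only [ne_eq, hi, not_false_eq_true, true_and, if_false]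
      split_ifs <;> ring1

section Geometry

variable {F : Type*} [Field F] [CharP F 2] [Fintype F] {V : Type*} [AddCommGroup V] [Module F V]
  [FiniteDimensional F V] {B : LinearMap.BilinForm F V} {T : V →ₗ[F] V}

theorem ker_sq_pow_two : LinearMap.ker ((T * T - 1) ^ finrank F V) = part T 1 := by
  have h1 : T * T - 1 = (T - (1 : F) • 1) ^ 2 := by
    rw [sq_sub_one, CharTwo.neg_eq, pow_two]
  rw [part, h1, ← pow_mul, Module.End.ker_pow_eq_ker_pow_finrank_of_le (Nat.le_mul_of_pos_left _ two_pos)]

theorem isCompl_parts : IsCompl (part T 1) (rest T) := ker_sq_pow_two (T := T) ▸ isCompl_rest (T := T)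

theorem isForm_part (hB : IsForm (1 : F) B) (hT : IsIsom B T) :
    IsForm (1 : F) (B.restrict (part T 1)) ∧ IsForm (1 : F) (B.restrict (rest T)) :=
  ⟨hB.restrict (isCompl_parts (T := T)).sup_eq_top fun _ hx _ hy => part_orth_rest hT (Or.inl rfl) hx hy,
    hB.restrict (isCompl_parts (T := T)).symm.sup_eq_top fun x hx y hy => by
      rw [hB.swap y x, part_orth_rest hT (Or.inl rfl) hy hx, mul_zero]⟩

/-- Similar parts give similar pairs. -/
theorem similar_two {B' : LinearMap.BilinForm F V} {T' : V →ₗ[F] V} (hB : IsForm (1 : F) B)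
    (hB' : IsForm (1 : F) B') (hT : IsIsom B T) (hT' : IsIsom B' T')
    (h1 : Similar (B.restrict (part T 1)) (resT T (part_inv 1)) (B'.restrict (part T' 1)) (resT T' (part_inv 1)))
    (h2 : Similar (B.restrict (rest T)) (resT T rest_inv) (B'.restrict (rest T')) (resT T' rest_inv)) :
    Similar B T B' T' := by
  obtain ⟨e1, c1, i1⟩ := h1
  obtain ⟨e2, c2, i2⟩ := h2
  let P := Submodule.prodEquivOfIsCompl _ _ (isCompl_parts (T := T))
  let P' := Submodule.prodEquivOfIsCompl _ _ (isCompl_parts (T := T'))
  let e := (P.symm.trans (e1.prodCongr e2)).trans P'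
  have he : ∀ (a : part T 1) (b : rest T), e ((a : V) + b) = (e1 a : V) + e2 b := by
    intro a b
    have : P.symm ((a : V) + b) = (a, b) := (LinearEquiv.symm_apply_eq P).2 rfl
    simp only [e, LinearEquiv.trans_apply, this]
    rfl
  have hsplit : ∀ x : V, ∃ (a : part T 1) (b : rest T), x = (a : V) + b := fun x =>
    ⟨(P.symm x).1, (P.symm x).2, (P.apply_symm_apply x).symm⟩
  refine ⟨e, fun x => ?_, fun x y => ?_⟩
  · obtain ⟨a, b, rfl⟩ := hsplit x
    rw [show T ((a : V) + b) = ((resT T (part_inv 1) a : part T 1) : V) + (resT T rest_inv b : rest T) from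
      map_add T _ _, he, he, c1, c2, map_add T']
    rfl
  · obtain ⟨a, b, rfl⟩ := hsplit x
    obtain ⟨a', b', rfl⟩ := hsplit y
    rw [he, he]
    have k1 : B' (e1 a : V) (e1 a' : V) = B (a : V) a' := i1 a a'
    have k2 : B' (e2 b : V) (e2 b' : V) = B (b : V) b' := i2 b b'
    have o : ∀ (a : part T 1) (b : rest T), B (a : V) b = 0 ∧ B (b : V) a = 0 := fun a b =>
      ⟨part_orth_rest hT (Or.inl rfl) a.2 b.2,
        by rw [hB.swap a b, part_orth_rest hT (Or.inl rfl) a.2 b.2, mul_zero]⟩
    have o' : ∀ (a : part T' 1) (b : rest T'), B' (a : V) b = 0 ∧ B' (b : V) a = 0 := fun a b =>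
      ⟨part_orth_rest hT' (Or.inl rfl) a.2 b.2,
        by rw [hB'.swap a b, part_orth_rest hT' (Or.inl rfl) a.2 b.2, mul_zero]⟩
    simp only [map_add, LinearMap.add_apply, k1, k2, (o a b').1, (o a' b).2, (o' (e1 a) (e2 b')).1,
      (o' (e1 a') (e2 b)).2]

theorem uni_part (hT : IsIsom B T) (halt : ∀ x, B x x = 0) {M : ℕ} (hM : finrank F V = M) :
    Uni M (B.restrict (part T 1)) (resT T (part_inv 1) - 1) := by
  refine ⟨fun x => halt (x : V), fun x y => ?_, ?_⟩
  · have he : ∀ z : part T 1, z + (resT T (part_inv 1) - 1 : part T 1 →ₗ[F] part T 1) z = resT T (part_inv 1) z :=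
      fun z => by rw [LinearMap.sub_apply, Module.End.one_apply, add_sub_cancel]
    rw [he, he]
    exact hT (x : V) (y : V)
  · have h := resT_part_nilpotent (T := T) (1 : F)
    rw [one_smul] at h
    rw [← hM]; exact h

end Geometry

/-! ## The symplectic group -/

section Sp

variable {F : Type*} [Field F] [CharP F 2] [Fintype F] {n : ℕ}

open CfsgLib.Dye

theorem isForm_sB : IsForm (1 : F) (sB (F := F) (l := Fin n)) :=
  ⟨one_mul 1, fun x y => by rw [one_mul, sB_apply, sB_apply, CfsgLib.Symp.form_swap, CharTwo.neg_eq],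
    sB_nondeg.1⟩

/-- The map of a class. -/
noncomputable def tOf (c : ConjClasses (Matrix.symplecticGroup (Fin n) F)) :
    (Fin n ⊕ Fin n → F) →ₗ[F] (Fin n ⊕ Fin n → F) := (spHom (Quotient.out c)).toLinearMap

theorem isIsom_tOf (c : ConjClasses (Matrix.symplecticGroup (Fin n) F)) : IsIsom sB (tOf c) :=
  spHom_preserves _

theorem eq_of_similar {c d : ConjClasses (Matrix.symplecticGroup (Fin n) F)}
    (h : Similar sB (tOf c) sB (tOf d)) : c = d := by
  obtain ⟨e, he, hiso⟩ := h
  obtain ⟨g, hg⟩ := exists_spHom_eq e hiso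
  rw [← Quotient.out_eq c, ← Quotient.out_eq d]
  refine Quotient.sound (?_ : IsConj (Quotient.out c) (Quotient.out d))
  refine isConj_iff.2 ⟨g, ?_⟩
  rw [mul_inv_eq_iff_eq_mul]
  apply spHom_injective
  rw [map_mul, map_mul, hg]
  exact LinearEquiv.ext he

theorem finrank_space : finrank F (Fin n ⊕ Fin n → F) = n + n := by
  rw [finrank_fintype_fun_eq_card, Fintype.card_sum, Fintype.card_fin]

theorem uni_tOf (c : ConjClasses (Matrix.symplecticGroup (Fin n) F)) :
    Uni (n + n) ((sB (F := F) (l := Fin n)).restrict (part (tOf c) 1)) (resT (tOf c) (part_inv 1) - 1) :=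
  uni_part (isIsom_tOf c) (fun x => sB_isAlt x) finrank_space

theorem exists_lab (c : ConjClasses (Matrix.symplecticGroup (Fin n) F)) :
    ∃ L : List (Blk × Bool),
      Has ((sB (F := F) (l := Fin n)).restrict (part (tOf c) 1))
        (StdBlk (n + n) ((sB (F := F) (l := Fin n)).restrict (part (tOf c) 1)) (resT (tOf c) (part_inv 1) - 1))
        L ⊤ ∧
      (∀ U, (U, true) ∈ L → Allowed (L.map Prod.fst) U) ∧ (∀ U, L.count (U, true) ≤ 1) ∧
      ∀ l, (L.map Prod.fst).count (.V l) ≤ 2 := by
  have hU := uni_tOf c
  obtain ⟨T, hT, hc⟩ := exists_decomp hU (W := ⊤) rfl (fun z _ => Submodule.mem_top)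
    fun z _ h => (isForm_part isForm_sB (isIsom_tOf c)).1.nd z fun y => h y Submodule.mem_top
  obtain ⟨L, hp, hL, hall, h1⟩ := exists_canon hU hT
  exact ⟨L, hL, fun U h => ⟨(hall U h).1, fun X hX => (hall U h).2 X (hp.mem_iff.1 hX)⟩, h1,
    fun l => by rw [hp.count_eq]; exact hc l⟩

/-- The canonical list of the unipotent part of a class. -/
noncomputable def labOf (c : ConjClasses (Matrix.symplecticGroup (Fin n) F)) : List (Blk × Bool) :=
  (exists_lab c).choose

variable [DecidableEq F]

/-- The layers of the rest of a class. -/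
noncomputable def layOf (c : ConjClasses (Matrix.symplecticGroup (Fin n) F)) (j : ℕ) : Polynomial F :=
  CfsgLib.Geo.FormClasses.layer (resT (tOf c) rest_inv) j

theorem isLay_layOf (c : ConjClasses (Matrix.symplecticGroup (Fin n) F)) (j : ℕ) : IsLay (layOf c j) :=
  isLay_layer (isForm_part isForm_sB (isIsom_tOf c)).2 (isIsom_res (isIsom_tOf c) rest_inv) rest_no_eigen j

/-- The key of a class. -/
noncomputable def keyOf (c : ConjClasses (Matrix.symplecticGroup (Fin n) F)) :
    (ℕ → Dat) × (ℕ → Polynomial F) × Polynomial F :=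
  (datOf (labOf c), fun i => layOf c (i + 2), layOf c 1)

theorem dims (c : ConjClasses (Matrix.symplecticGroup (Fin n) F)) :
    (∀ U ∈ (labOf c).map Prod.fst, 0 < U.wt ∧ U.wt ≤ n) ∧
      (∑ i ∈ Finset.range n, (datOf (labOf c) i).weight i) + ((labOf c).map Prod.fst).count (.W 1) +
        (∑ i ∈ Finset.range (n + n), (i + 2) * ((layOf c (i + 2)).natDegree / 2)) +
          (layOf c 1).natDegree / 2 = n := by
  have hU := uni_tOf c
  have hL := (exists_lab c).choose_spec.1
  have hd := has_dim hU hL
  rw [finrank_top] at hd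
  have hc := Submodule.finrank_add_eq_of_isCompl (isCompl_parts (T := tOf c))
  rw [finrank_space] at hc
  have hle : finrank F (rest (tOf c)) ≤ n + n + 1 := by omega
  have hr : ∑ i ∈ Finset.range (n + n + 1), (i + 1) * (layOf c (i + 1)).natDegree = finrank F (rest (tOf c)) := by
    rw [← Fin.sum_univ_eq_sum_range (fun i => (i + 1) * (layOf c (i + 1)).natDegree)]
    exact sum_layers hle
  rw [Finset.sum_range_succ'] at hr
  simp only [Nat.zero_add, one_mul] at hr
  have hev : ∀ j, (layOf c j).natDegree = 2 * ((layOf c j).natDegree / 2) := fun j => by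
    obtain ⟨r, hr⟩ := (isLay_layOf c j).even
    omega
  rw [Finset.sum_congr rfl fun i _ => by
    rw [show i + 1 + 1 = i + 2 by omega, hev (i + 2), Nat.mul_left_comm], ← Finset.mul_sum, hev 1] at hr
  have hpos : ∀ U ∈ (labOf c).map Prod.fst, 0 < U.wt := by
    intro U hU'
    obtain ⟨p, hp, rfl⟩ := List.mem_map.1 hU'
    have h : ∀ {L : List (Blk × Bool)} {W}, Has ((sB (F := F) (l := Fin n)).restrict (part (tOf c) 1))
        (StdBlk (n + n) ((sB (F := F) (l := Fin n)).restrict (part (tOf c) 1)) (resT (tOf c) (part_inv 1) - 1))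
        L W → p ∈ L → 0 < p.1.wt := by
      intro L
      induction L with
      | nil => intro W _ h; simp at h
      | cons q L ih =>
        rintro W ⟨S, -, hS, hL'⟩ hmem
        rcases List.mem_cons.1 hmem with rfl | hmem
        · obtain ⟨r, k, x, hG, -, hrk⟩ := (hS.gblk hU).gens
          rcases p with ⟨l | m, b⟩
          · obtain ⟨x, hG, -⟩ := hS; have := hG.pos; simp only [Blk.wt]; omega
          · obtain ⟨x, hG, -⟩ := hS; exact hG.pos
        · exact ih hL' hmem
    exact h hL hp
  have hwt : ((labOf c).map fun p => p.1.wt) = ((labOf c).map Prod.fst).map Blk.wt := by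
    rw [List.map_map]; rfl
  have hle' : ∀ U ∈ (labOf c).map Prod.fst, U.wt ≤ n := by
    intro U hU'
    have h1 : U.wt ≤ (((labOf c).map Prod.fst).map Blk.wt).sum :=
      List.single_le_sum (fun x _ => Nat.zero_le x) _ (List.mem_map.2 ⟨U, hU', rfl⟩)
    rw [← hwt] at h1
    unfold labOf at h1
    omega
  refine ⟨fun U h => ⟨hpos U h, hle' U h⟩, ?_⟩
  have hw := list_weight ((labOf c).map Prod.fst) fun U h => ⟨hpos U h, hle' U h⟩
  rw [← hwt] at hw
  have hsum : ∑ i ∈ Finset.range n, (datOf (labOf c) i).weight i = ∑ i ∈ Finset.range n,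
      (((labOf c).map Prod.fst).count (.V (i + 1)) * (i + 1) +
        (if i = 0 then 0 else ((labOf c).map Prod.fst).count (.W (i + i + 1))) * (i + i + 1) +
        ((labOf c).map Prod.fst).count (.W (i + i + 2)) * (i + i + 2)) :=
    Finset.sum_congr rfl fun i _ => rfl
  rw [hsum]
  unfold labOf at hw ⊢
  omega

theorem dat_zero (c : ConjClasses (Matrix.symplecticGroup (Fin n) F)) {i : ℕ} (hi : n ≤ i) :
    datOf (labOf c) i = Dat.zero := by
  have h := (dims c).1
  have hnot : ∀ U : Blk, n < U.wt → U ∉ (labOf c).map Prod.fst := fun U hU hm => by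
    have := (h U hm).2; omega
  have hnot' : ∀ U : Blk, n < U.wt → (U, true) ∉ labOf c := fun U hU hm =>
    hnot U hU (List.mem_map.2 ⟨_, hm, rfl⟩)
  simp only [datOf, Dat.zero, Dat.mk.injEq]
  refine ⟨List.count_eq_zero.2 (hnot _ (by simp [Blk.wt]; omega)), decide_eq_false (hnot' _ (by simp [Blk.wt]; omega)),
    ?_, decide_eq_false (fun hh => hnot' _ (by simp [Blk.wt]; omega) hh.2),
    List.count_eq_zero.2 (hnot _ (by simp [Blk.wt]; omega))⟩
  split_ifs
  · rfl
  · exact List.count_eq_zero.2 (hnot _ (by simp [Blk.wt]; omega))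

theorem dat_ok (c : ConjClasses (Matrix.symplecticGroup (Fin n) F)) (i : ℕ) :
    (datOf (labOf c) i).Ok i (flag i (datOf (labOf c))) := by
  obtain ⟨-, hall, -, hv⟩ := (exists_lab c).choose_spec
  refine ⟨hv _, fun h => if_pos h, fun h => ?_, fun h => ?_⟩
  · have hm : (Blk.V (i + 1), true) ∈ labOf c := of_decide_eq_true h
    obtain ⟨hn, hlow⟩ := hall _ hm
    have hi : 0 < i := by simp only [Node] at hn; omega
    refine ⟨fun h0 => List.count_eq_zero.1 h0 (List.mem_map.2 ⟨_, hm, rfl⟩), hi, ?_, ?_⟩
    · show (if i = 0 then 0 else _) = 0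
      rw [if_neg hi.ne', List.count_eq_zero]
      intro hW
      exact hlow _ hW (Or.inr (by congr 1; omega))
    · rw [flag, decide_eq_false_iff_not]
      rintro ⟨-, h0⟩
      refine h0 (List.count_eq_zero.2 fun hV => hlow _ ?_ (Or.inl rfl))
      rwa [show i + 1 - 1 = i - 1 + 1 by omega]
  · obtain ⟨hi, hm⟩ : 0 < i ∧ (Blk.W (i + i + 1), true) ∈ labOf c := of_decide_eq_true h
    obtain ⟨-, hlow⟩ := hall _ hm
    refine ⟨fun h0 => ?_, hi, ?_⟩
    · have h1 : (if i = 0 then 0 else ((labOf c).map Prod.fst).count (.W (i + i + 1))) = 0 := h0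
      rw [if_neg hi.ne', List.count_eq_zero] at h1
      exact h1 (List.mem_map.2 ⟨_, hm, rfl⟩)
    · rw [flag, decide_eq_false_iff_not]
      rintro ⟨-, h0⟩
      refine h0 (List.count_eq_zero.2 fun hV => hlow _ hV ⟨i, rfl, ?_⟩)
      congr 1; omega

theorem key_injective : Function.Injective (keyOf (F := F) (n := n)) := by
  intro c d h
  have hdat : datOf (labOf c) = datOf (labOf d) := congrArg Prod.fst h
  have hg : ∀ i, layOf c (i + 2) = layOf d (i + 2) := congrFun (congrArg (fun x => x.2.1) h)
  have h1 : layOf c 1 = layOf d 1 := congrArg (fun x => x.2.2) h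
  have hW1 : ((labOf c).map Prod.fst).count (.W 1) = ((labOf d).map Prod.fst).count (.W 1) := by
    have a := (dims c).2
    have b := (dims d).2
    simp only [hdat, h1, hg] at a
    omega
  obtain ⟨hLc, hallc, hc1, -⟩ := (exists_lab c).choose_spec
  obtain ⟨hLd, halld, hd1, -⟩ := (exists_lab d).choose_spec
  have hfst : ∀ U : Blk, ((labOf c).map Prod.fst).count U = ((labOf d).map Prod.fst).count U := by
    intro U
    have hz : ∀ (e : ConjClasses (Matrix.symplecticGroup (Fin n) F)) (U : Blk), U.wt = 0 →
        ((labOf e).map Prod.fst).count U = 0 := fun e U h0 =>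
      List.count_eq_zero.2 fun hm => by have := ((dims e).1 U hm).1; omega
    cases U with
    | V l =>
      rcases Nat.eq_zero_or_pos l with rfl | hl
      · rw [hz c _ rfl, hz d _ rfl]
      · have := congrArg (fun f => (f (l - 1)).v) hdat
        simpa [datOf, show l - 1 + 1 = l by omega] using this
    | W m =>
      rcases Nat.even_or_odd' m with ⟨i, rfl | rfl⟩
      · rcases Nat.eq_zero_or_pos i with rfl | hi
        · rw [hz c _ rfl, hz d _ rfl]
        · have := congrArg (fun f => (f (i - 1)).e) hdat
          simpa [datOf, show i - 1 + (i - 1) + 2 = 2 * i by omega] using this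
      · rcases Nat.eq_zero_or_pos i with rfl | hi
        · exact hW1
        · have := congrArg (fun f => (f i).r) hdat
          simpa [datOf, hi.ne', show i + i + 1 = 2 * i + 1 by omega] using this
  have hmem : ∀ U : Blk, (U, true) ∈ labOf c ↔ (U, true) ∈ labOf d := by
    intro U
    by_cases hn : Node U
    swap
    · exact iff_of_false (fun hm => hn (hallc U hm).1) (fun hm => hn (halld U hm).1)
    cases U with
    | V l =>
      have := congrArg (fun f => (f (l - 1)).bv) hdat
      simp only [Node] at hn
      simpa [datOf, show l - 1 + 1 = l by omega] using this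
    | W m =>
      obtain ⟨i, rfl⟩ := hn
      have := congrArg (fun f => (f (i + 1)).bw) hdat
      simpa [datOf, show i + 1 + (i + 1) + 1 = i + i + 3 by omega] using this
  have htrue : ∀ U : Blk, (labOf c).count (U, true) = (labOf d).count (U, true) := by
    intro U
    have a : (labOf c).count (U, true) ≤ 1 := hc1 U
    have b : (labOf d).count (U, true) ≤ 1 := hd1 U
    have a' := List.count_pos_iff (a := (U, true)) (l := labOf c)
    have b' := List.count_pos_iff (a := (U, true)) (l := labOf d)
    have := hmem U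
    by_cases hm : (U, true) ∈ labOf c
    · have := a'.2 hm; have := b'.2 ((hmem U).1 hm); omega
    · rw [List.count_eq_zero.2 hm, List.count_eq_zero.2 (mt (hmem U).2 hm)]
  have hperm : (labOf c).Perm (labOf d) := by
    refine List.perm_iff_count.2 fun p => ?_
    obtain ⟨U, _ | _⟩ := p
    · have a := count_fst U (labOf c)
      have b := count_fst U (labOf d)
      have := hfst U; have := htrue U
      omega
    · exact htrue U
  refine eq_of_similar (similar_two isForm_sB isForm_sB (isIsom_tOf c) (isIsom_tOf d) ?_ ?_)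
  · obtain ⟨e, he, hiso⟩ := (has_sameData (uni_tOf c) (uni_tOf d) (Has.perm (uni_tOf c) hperm hLc) hLd).equiv
      (isForm_part isForm_sB (isIsom_tOf c)).1.nd (isForm_part isForm_sB (isIsom_tOf d)).1.nd
    refine ⟨e, fun x => ?_, hiso⟩
    have h := he x
    simp only [LinearMap.sub_apply, Module.End.one_apply, map_sub] at h
    exact sub_left_injective h
  · have hV : finrank F (rest (tOf c)) = finrank F (rest (tOf d)) := by
      have a := has_dim (uni_tOf c) hLc
      have b := has_dim (uni_tOf d) hLd
      rw [finrank_top] at a b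
      have a' := Submodule.finrank_add_eq_of_isCompl (isCompl_parts (T := tOf c))
      have b' := Submodule.finrank_add_eq_of_isCompl (isCompl_parts (T := tOf d))
      have he := (hperm.map fun p => p.1.wt).sum_eq
      unfold labOf at he
      omega
    obtain ⟨e, he⟩ := equiv_of_layers (T := resT (tOf c) rest_inv) (T' := resT (tOf d) rest_inv) hV fun j => by
      rcases j with _ | _ | j
      · rw [layer_zero (isForm_part isForm_sB (isIsom_tOf c)).2 (isIsom_res (isIsom_tOf c) rest_inv),
          layer_zero (isForm_part isForm_sB (isIsom_tOf d)).2 (isIsom_res (isIsom_tOf d) rest_inv)]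
      · exact h1
      · exact hg j
    exact similar_of_linear (isForm_part isForm_sB (isIsom_tOf c)).2 (isForm_part isForm_sB (isIsom_tOf d)).2
      (isIsom_res (isIsom_tOf c) rest_inv) (isIsom_res (isIsom_tOf d) rest_inv) rest_no_eigen e he

/-- The upper bound. -/
theorem card_classes_le :
    5 * Nat.card (ConjClasses (Matrix.symplecticGroup (Fin n) F)) ≤ 76 * Fintype.card F ^ n := by
  classical
  set q := Fintype.card F with hq
  let K : ℕ → ℕ → Finset ((ℕ → Dat) × (ℕ → Polynomial F) × Polynomial F) := fun j R =>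
    (labs n j false ∪ labs n j true) ×ˢ
      (rests (lays F) 1 (n + n) R ×ˢ (Finset.range (n - j - R + 1)).biUnion (lays F))
  let Tot := (Finset.range (n + 1)).biUnion fun j => (Finset.range (n + 1 - j)).biUnion (K j)
  have hmem : ∀ c : ConjClasses (Matrix.symplecticGroup (Fin n) F), keyOf c ∈ Tot := by
    intro c
    have hw := (dims c).2
    refine Finset.mem_biUnion.2 ⟨∑ i ∈ Finset.range n, (datOf (labOf c) i).weight i,
      Finset.mem_range.2 (by omega), Finset.mem_biUnion.2
      ⟨∑ i ∈ Finset.range (n + n), (i + 2) * ((layOf c (i + 2)).natDegree / 2), Finset.mem_range.2 (by omega),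
        Finset.mem_product.2 ⟨?_, Finset.mem_product.2 ⟨?_, ?_⟩⟩⟩⟩
    · have h := mem_labs n (datOf (labOf c)) (fun i hi => dat_zero c hi) fun i _ => dat_ok c i
      rcases hf : flag n (datOf (labOf c)) with _ | _
      · rw [hf] at h; exact Finset.mem_union_left _ h
      · rw [hf] at h; exact Finset.mem_union_right _ h
    · refine mem_rests (lays F) 1 (fun f => f.natDegree / 2) (n + n) (fun i => layOf c (i + 2)) (fun i hi => ?_)
        fun i _ => mem_lays (isLay_layOf c _)
      refine layer_of_lt ?_
      have := Submodule.finrank_le (rest (tOf c))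
      rw [finrank_space] at this
      omega
    · exact Finset.mem_biUnion.2 ⟨(layOf c 1).natDegree / 2, Finset.mem_range.2 (by omega), mem_lays (isLay_layOf c 1)⟩
  have hle : Nat.card (ConjClasses (Matrix.symplecticGroup (Fin n) F)) ≤ Tot.card := by
    rw [← Nat.card_eq_finsetCard Tot]
    exact Nat.card_le_card_of_injective (fun c => (⟨keyOf c, hmem c⟩ : Tot))
      fun c d h => key_injective (congrArg Subtype.val h)
  refine le_trans (Nat.mul_le_mul_left 5 (hle.trans ?_)) (total_le (q := q) Fintype.one_lt_card n n (n + n))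
  refine Finset.card_biUnion_le.trans (Finset.sum_le_sum fun j _ => Finset.card_biUnion_le.trans
    (Finset.sum_le_sum fun R _ => ?_))
  rw [Finset.card_product, Finset.card_product]
  exact Nat.mul_le_mul ((Finset.card_union_le _ _).trans (Nat.add_le_add (card_labs n j false) (card_labs n j true)))
    (Nat.mul_le_mul (card_rests card_lays _ _)
      (Finset.card_biUnion_le.trans (Finset.sum_le_sum fun e _ => card_lays e)))

end Sp

end CfsgLib.SpEven
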