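import Cfsg.Agent.SpEven.Numeric

/-!
# Counting level data for orthogonal groups

At level `0` only the bit of `W 1` is stored; `ecnt` counts data without blocks that may carry a bit.
-/

set_option autoImplicit false
set_option linter.unusedSectionVars false

namespace CfsgLib.SpEven

/-- Admissible data of level `i` after a level with flag `p`. -/
structure Dat.OOk (i : ℕ) (p : Bool) (d : Dat) : Prop where
  v_le : d.v ≤ 2
  low : i = 0 → d.r ≤ 1 ∧ (d.r ≠ 0 → d.v = 0 ∧ d.bw = true)
  bitV : d.bv = true → d.v ≠ 0 ∧ d.r = 0 ∧ p = false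
  bitW : d.bw = true → d.r ≠ 0 ∧ p = false

theorem Dat.OOk.low' {i : ℕ} {p : Bool} {d : Dat} (h : d.OOk i p) (hi : i = 0) :
    d.r ≤ 1 ∧ (d.r = 0 ∨ d.v = 0) :=
  ⟨(h.low hi).1, or_iff_not_imp_left.2 fun hr => ((h.low hi).2 hr).1⟩

/-- The admissible pairs of bits. -/
def obits (L r v : ℕ) (p : Bool) : Finset (Bool × Bool) :=
  if L = 0 ∧ r ≠ 0 then {(false, true)}
  else if p = false ∧ r ≠ 0 then {(false, false), (false, true)}
  else if p = false ∧ v ≠ 0 ∧ r = 0 then {(false, false), (true, false)}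
  else {(false, false)}

theorem obits_mem {L : ℕ} {p : Bool} {d : Dat} (h : d.OOk L p) : (d.bv, d.bw) ∈ obits L d.r d.v p := by
  obtain ⟨v, bv, r, bw, e⟩ := d
  obtain ⟨-, h0, h1, h2⟩ := h
  simp only [obits] at *
  rcases bv with _ | _ <;> rcases bw with _ | _
  · split_ifs with hc
    · exact Bool.noConfusion ((h0 hc.1).2 hc.2).2
    all_goals simp
  · obtain ⟨a, b⟩ := h2 rfl
    split_ifs <;> simp_all
  · obtain ⟨a, b, c⟩ := h1 rfl
    rw [if_neg (fun hh => hh.2 b), if_neg (fun hh => hh.2 b), if_pos ⟨c, a, b⟩]; simp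
  · exact absurd (h1 rfl).2.1 (h2 rfl).1

/-- The choices at level `L` inside weight `n` with flag `s`. -/
def ochoices (L n : ℕ) (s : Bool) : Finset (ℕ × ℕ × ℕ × Bool) :=
  ((Finset.range (n + 1)) ×ˢ ((Finset.range (n + 1)) ×ˢ ((Finset.range 3) ×ˢ (Finset.univ : Finset Bool)))).filter
    fun x => x.2.2.1 * (L + 1) + x.2.1 * (L + L + 1) + x.1 * (L + L + 2) ≤ n ∧
      (L = 0 → x.2.1 ≤ 1 ∧ (x.2.1 = 0 ∨ x.2.2.1 = 0)) ∧ decide (x.2.2.1 ≠ 0) = s

/-- The covering sets. -/
noncomputable def olabs : ℕ → ℕ → Bool → Finset (ℕ → Dat)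
  | 0, n, s => if n = 0 ∧ s = false then {fun _ => Dat.zero} else ∅
  | L + 1, n, s =>
    haveI : DecidableEq (ℕ → Dat) := Classical.decEq _
    (ochoices L n s).biUnion fun x =>
      ((obits L x.2.1 x.2.2.1 x.2.2.2) ×ˢ
        olabs L (n - (x.2.2.1 * (L + 1) + x.2.1 * (L + L + 1) + x.1 * (L + L + 2))) x.2.2.2).image
        fun y => Function.update y.2 L ⟨x.2.2.1, y.1.1, x.2.1, y.1.2, x.1⟩

/-- The bound for the size of `olabs`. -/
def ocnt : ℕ → ℕ → Bool → ℕ
  | 0, n, s => if n = 0 ∧ s = false then 1 else 0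
  | L + 1, n, s => ∑ x ∈ ochoices L n s, (obits L x.2.1 x.2.2.1 x.2.2.2).card *
      ocnt L (n - (x.2.2.1 * (L + 1) + x.2.1 * (L + L + 1) + x.1 * (L + L + 2))) x.2.2.2

theorem card_olabs : ∀ L n s, (olabs L n s).card ≤ ocnt L n s
  | 0, n, s => by rw [olabs, ocnt]; split_ifs <;> simp
  | L + 1, n, s => by
    classical
    rw [olabs, ocnt]
    refine Finset.card_biUnion_le.trans (Finset.sum_le_sum fun x _ => Finset.card_image_le.trans ?_)
    rw [Finset.card_product]
    exact Nat.mul_le_mul_left _ (card_olabs L _ _)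

theorem mem_olabs : ∀ (L : ℕ) (f : ℕ → Dat), (∀ i, L ≤ i → f i = Dat.zero) →
    (∀ i < L, (f i).OOk i (flag i f)) → f ∈ olabs L (∑ i ∈ Finset.range L, (f i).weight i) (flag L f)
  | 0, f, h0, _ => by
    rw [olabs]
    simp only [Finset.range_zero, Finset.sum_empty, flag, Nat.lt_irrefl, false_and, decide_false, and_self,
      if_true, Finset.mem_singleton]
    exact funext fun i => h0 i (Nat.zero_le i)
  | L + 1, f, h0, hok => by
    classical
    set g : ℕ → Dat := Function.update f L Dat.zero with hg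
    have hlt : ∀ i < L, g i = f i := fun i hi => Function.update_of_ne hi.ne _ _
    have hflag : ∀ i ≤ L, flag i g = flag i f := by
      intro i hi
      rcases Nat.eq_zero_or_pos i with rfl | hpos
      · simp [flag]
      · rw [flag, flag, hlt (i - 1) (by omega)]
    have hgm := mem_olabs L g (fun i hi => by
        rcases eq_or_ne i L with rfl | hne
        · exact Function.update_self ..
        · rw [hg, Function.update_of_ne hne]; exact h0 i (by omega))
      (fun i hi => by rw [hlt i hi, hflag i hi.le]; exact hok i (Nat.lt_succ_of_lt hi))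
    have hsum : ∑ i ∈ Finset.range L, (g i).weight i = ∑ i ∈ Finset.range L, (f i).weight i :=
      Finset.sum_congr rfl fun i hi => by rw [hlt i (Finset.mem_range.1 hi)]
    rw [hsum, hflag L le_rfl] at hgm
    have hL := hok L (Nat.lt_succ_self L)
    rw [olabs, Finset.mem_biUnion]
    refine ⟨((f L).e, (f L).r, (f L).v, flag L f), ?_, Finset.mem_image.2
      ⟨(((f L).bv, (f L).bw), g), Finset.mem_product.2 ⟨obits_mem hL, ?_⟩, ?_⟩⟩
    · have hw : (f L).weight L ≤ ∑ i ∈ Finset.range (L + 1), (f i).weight i :=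
        Finset.single_le_sum (f := fun i => (f i).weight i) (fun i _ => Nat.zero_le _) (Finset.self_mem_range_succ L)
      rw [ochoices, Finset.mem_filter]
      simp only [Finset.mem_product, Finset.mem_range, Finset.mem_univ, and_true]
      simp only [Dat.weight] at hw ⊢
      have he : (f L).e ≤ (f L).e * (L + L + 2) := Nat.le_mul_of_pos_right _ (by omega)
      have hr : (f L).r ≤ (f L).r * (L + L + 1) := Nat.le_mul_of_pos_right _ (by omega)
      refine ⟨⟨by omega, by omega, by have := hL.v_le; omega⟩, hw, hL.low', ?_⟩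
      simp [flag]
    · have hsub : ∑ i ∈ Finset.range (L + 1), (f i).weight i -
          ((f L).v * (L + 1) + (f L).r * (L + L + 1) + (f L).e * (L + L + 2)) =
          ∑ i ∈ Finset.range L, (f i).weight i := by
        rw [Finset.sum_range_succ]
        simp only [Dat.weight]
        omega
      rw [hsub]; exact hgm
    · show Function.update g L ⟨(f L).v, (f L).bv, (f L).r, (f L).bw, (f L).e⟩ = f
      rw [hg, Function.update_idem]
      exact Function.update_eq_self L f

/-- Bounds for the sums of `ocnt` without and with a top `V`. -/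
def OAB : ℕ → ℚ × ℚ
  | 0 => (1, 0)
  | L + 1 =>
    let E : ℚ := (1 / 2) ^ (L + L + 2)
    let w : ℚ := (1 / 2) ^ (L + L + 1) / (1 - (1 / 2) ^ (L + L + 1))
    let v : ℚ := (1 / 2) ^ (L + 1) + ((1 / 2) ^ (L + 1)) ^ 2
    if L = 0 then (((OAB L).1 + (OAB L).2) * (3 / 2) / (1 - E), v * (2 * (OAB L).1 + (OAB L).2) / (1 - E))
    else (((OAB L).1 * (1 + 2 * w) + (OAB L).2 * (1 + w)) / (1 - E),
      v * (1 + w) * (2 * (OAB L).1 + (OAB L).2) / (1 - E))

/-- One of the two bounds. -/
def oab (L : ℕ) (s : Bool) : ℚ := if s then (OAB L).2 else (OAB L).1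

theorem oab_nonneg : ∀ L, 0 ≤ (OAB L).1 ∧ 0 ≤ (OAB L).2
  | 0 => by simp [OAB]
  | L + 1 => by
    obtain ⟨ha, hb⟩ := oab_nonneg L
    have h1 : (1 / 2 : ℚ) ^ (L + L + 1) < 1 := pow_lt_one₀ (by norm_num) (by norm_num) (by omega)
    have h2 : (1 / 2 : ℚ) ^ (L + L + 2) < 1 := pow_lt_one₀ (by norm_num) (by norm_num) (by omega)
    have hw : 0 ≤ (1 / 2 : ℚ) ^ (L + L + 1) / (1 - (1 / 2) ^ (L + L + 1)) := div_nonneg (by positivity) (by linarith)
    have hE : (0 : ℚ) ≤ 1 - (1 / 2) ^ (L + L + 2) := by linarith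
    simp only [OAB]
    split_ifs <;> constructor <;> positivity

theorem obits_card (L r v : ℕ) (p : Bool) :
    (obits L r v p).card = if L = 0 ∧ r ≠ 0 then 1 else if p = false ∧ (r ≠ 0 ∨ v ≠ 0) then 2 else 1 := by
  unfold obits
  rcases eq_or_ne r 0 with rfl | hr <;> rcases eq_or_ne v 0 with rfl | hv <;> rcases p <;>
    rcases Nat.eq_zero_or_pos L with rfl | hL <;> simp_all [Nat.pos_iff_ne_zero]

theorem sum_ocnt_le : ∀ (L K : ℕ) (s : Bool),
    ∑ n ∈ Finset.range K, (ocnt L n s : ℚ) * (1 / 2) ^ n ≤ oab L s := by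
  intro L
  induction L with
  | zero =>
    intro K s
    rcases s with _ | _
    · rcases K with _ | K
      · simp [oab, OAB]
      · rw [Finset.sum_eq_single 0 (fun b _ hb => by simp [ocnt, hb]) (by simp)]
        simp [ocnt, oab, OAB]
    · simp [ocnt, oab, OAB]
  | succ L ih =>
    intro K s
    set h : ℚ := 1 / 2 with hh
    let U : Finset (ℕ × ℕ × ℕ × Bool) := ((Finset.range K) ×ˢ ((Finset.range K) ×ˢ
      ((Finset.range 3) ×ˢ (Finset.univ : Finset Bool)))).filter fun x =>
        (L = 0 → x.2.1 ≤ 1 ∧ (x.2.1 = 0 ∨ x.2.2.1 = 0)) ∧ decide (x.2.2.1 ≠ 0) = s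
    let wt : ℕ × ℕ × ℕ × Bool → ℕ := fun x => x.2.2.1 * (L + 1) + x.2.1 * (L + L + 1) + x.1 * (L + L + 2)
    let T : ℕ × ℕ × ℕ × Bool → ℚ := fun x => ((obits L x.2.1 x.2.2.1 x.2.2.2).card : ℚ)
    calc ∑ n ∈ Finset.range K, (ocnt (L + 1) n s : ℚ) * h ^ n
        ≤ ∑ n ∈ Finset.range K, ∑ x ∈ U, T x * (if wt x ≤ n then (ocnt L (n - wt x) x.2.2.2 : ℚ) * h ^ n else 0) := by
          refine Finset.sum_le_sum fun n hn => ?_
          rw [ocnt, Nat.cast_sum, Finset.sum_mul]
          have hn' := Finset.mem_range.1 hn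
          refine le_trans (Finset.sum_le_sum fun x hx => ?_)
            (Finset.sum_le_sum_of_subset_of_nonneg (s := ochoices L n s) ?_ fun x _ _ => by positivity)
          · have hx' := (Finset.mem_filter.1 hx).2.1
            simp only [T, wt, if_pos hx', Nat.cast_mul]
            exact le_of_eq (by ring)
          · intro x hx
            obtain ⟨hx1, -, hx2⟩ := Finset.mem_filter.1 hx
            simp only [Finset.mem_product, Finset.mem_range] at hx1
            simp only [U, Finset.mem_filter, Finset.mem_product, Finset.mem_range, Finset.mem_univ, and_true]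
            exact ⟨⟨by omega, by omega, hx1.2.2.1⟩, hx2⟩
      _ = ∑ x ∈ U, T x * ∑ n ∈ Finset.range K,
            (if wt x ≤ n then (ocnt L (n - wt x) x.2.2.2 : ℚ) * h ^ n else 0) := by
          rw [Finset.sum_comm]
          exact Finset.sum_congr rfl fun x _ => by rw [Finset.mul_sum]
      _ ≤ ∑ x ∈ U, T x * (h ^ wt x * oab L x.2.2.2) := by
          refine Finset.sum_le_sum fun x _ => mul_le_mul_of_nonneg_left ?_ (by positivity)
          exact (sum_shift_le (fun i => (ocnt L i x.2.2.2 : ℚ)) (fun i => by positivity) (by norm_num [hh]) _ K).trans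
            (mul_le_mul_of_nonneg_left (ih K x.2.2.2) (by positivity))
      _ ≤ oab (L + 1) s := ?_
    obtain ⟨ha, hb⟩ := oab_nonneg L
    have hx0 : (0 : ℚ) ≤ h ^ (L + L + 2) := by positivity
    have hx1 : h ^ (L + L + 2) < 1 := pow_lt_one₀ (by norm_num [hh]) (by norm_num [hh]) (by omega)
    have hy0 : (0 : ℚ) ≤ h ^ (L + L + 1) := by positivity
    have hy1 : h ^ (L + L + 1) < 1 := pow_lt_one₀ (by norm_num [hh]) (by norm_num [hh]) (by omega)
    have hE : ∀ C : ℚ, 0 ≤ C →
        (∑ e ∈ Finset.range K, (h ^ (L + L + 2)) ^ e) * C ≤ C / (1 - h ^ (L + L + 2)) := fun C hC => by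
      refine (mul_le_mul_of_nonneg_right (geom_le hx0 hx1 K) hC).trans (le_of_eq ?_)
      ring
    have hR : ∀ c : ℚ, 0 ≤ c →
        ∑ r ∈ Finset.range K, (if r = 0 then 1 else c) * (h ^ (L + L + 1)) ^ r ≤
          1 + c * (h ^ (L + L + 1) / (1 - h ^ (L + L + 1))) := fun c hc => geom_bit_le hy0 hy1 hc K
    have hpw : ∀ e r v : ℕ, h ^ (v * (L + 1) + r * (L + L + 1) + e * (L + L + 2)) =
        (h ^ (L + 1)) ^ v * (h ^ (L + L + 1)) ^ r * (h ^ (L + L + 2)) ^ e := fun e r v => by
      rw [← pow_mul, ← pow_mul, ← pow_mul, ← pow_add, ← pow_add]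
      congr 1; ring
    simp only [U, Finset.sum_filter, Finset.sum_product, Fintype.univ_bool, Finset.sum_insert
      (show true ∉ ({false} : Finset Bool) by simp), Finset.sum_singleton, T, wt, obits_card, hpw, oab,
      Finset.sum_range_succ (n := 2), Finset.sum_range_succ (n := 1), Finset.sum_range_succ (n := 0),
      Finset.sum_range_zero, zero_add]
    set a := (OAB L).1
    set b := (OAB L).2
    set W := h ^ (L + L + 1)
    set E := h ^ (L + L + 2)
    set Vv := h ^ (L + 1) with hVv
    have hV : 0 ≤ Vv + Vv ^ 2 := by positivity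
    have hw0 : 0 ≤ W / (1 - W) := div_nonneg hy0 (by linarith)
    rcases Nat.eq_zero_or_pos L with rfl | hL
    · have hr : ∀ (G : ℕ → ℕ → ℚ) (C D : ℚ), 0 ≤ C → 0 ≤ D → (∀ e, G e 0 = E ^ e * C) → (∀ e, G e 1 = E ^ e * D) →
          (∀ e r, 2 ≤ r → G e r = 0) →
          ∑ e ∈ Finset.range K, ∑ r ∈ Finset.range K, G e r ≤ (C + D) / (1 - E) := by
        intro G C D hC hD g0 g1 g2
        refine le_trans (Finset.sum_le_sum fun e _ => ?_)
          (le_of_eq_of_le (Finset.sum_mul _ _ _).symm (hE (C + D) (by positivity)))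
        have he : 0 ≤ E ^ e := by positivity
        rcases K with _ | _ | K
        · rw [Finset.sum_range_zero]; positivity
        · rw [Finset.sum_range_one, g0]; nlinarith
        · rw [Finset.sum_range_succ', Finset.sum_range_succ', Finset.sum_eq_zero fun r _ => g2 e _ (by omega),
            g0, g1]
          linarith
      rcases s with _ | _
      · refine (hr _ (a + b) ((a + b) * h) (by positivity) (by positivity) (fun e => ?_) (fun e => ?_)
          fun e r hr0 => ?_).trans (le_of_eq ?_)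
        · simp; ring
        · simp [W]; ring
        · simp [show ¬r ≤ 1 by omega]
        · simp only [OAB, if_true, Bool.false_eq_true, if_false, a, b, E, hh]; ring
      · refine (hr _ ((Vv + Vv ^ 2) * (2 * a + b)) 0 (by positivity) le_rfl (fun e => ?_) (fun e => ?_)
          fun e r hr0 => ?_).trans (le_of_eq ?_)
        · simp; ring
        · simp
        · simp [show ¬r ≤ 1 by omega]
        · simp only [OAB, if_true, a, b, E, hVv, hh]; ring
    · have hr : ∀ (G : ℕ → ℕ → ℚ) (ca cb : ℚ) (A' B' : ℚ), 0 ≤ ca → 0 ≤ cb → 0 ≤ A' → 0 ≤ B' →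
          (∀ e r, G e r = E ^ e * ((if r = 0 then 1 else ca) * W ^ r * A' + (if r = 0 then 1 else cb) * W ^ r * B')) →
          ∑ e ∈ Finset.range K, ∑ r ∈ Finset.range K, G e r ≤
            (A' * (1 + ca * (W / (1 - W))) + B' * (1 + cb * (W / (1 - W)))) / (1 - E) := by
        intro G ca cb A' B' hca hcb hA hB hG
        have hC : 0 ≤ A' * (1 + ca * (W / (1 - W))) + B' * (1 + cb * (W / (1 - W))) := by positivity
        refine le_trans ?_ (hE _ hC)
        rw [Finset.sum_mul]
        refine Finset.sum_le_sum fun e _ => ?_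
        simp only [hG, ← Finset.mul_sum, Finset.sum_add_distrib, ← Finset.sum_mul]
        refine mul_le_mul_of_nonneg_left (add_le_add ?_ ?_) (by positivity)
        · rw [mul_comm A']; exact mul_le_mul_of_nonneg_right (hR ca hca) hA
        · rw [mul_comm B']; exact mul_le_mul_of_nonneg_right (hR cb hcb) hB
      rcases s with _ | _
      · refine (hr _ 2 1 a b (by norm_num) (by norm_num) ha hb (fun e r => ?_)).trans (le_of_eq ?_)
        · rcases eq_or_ne r 0 with rfl | hr0 <;> simp_all [Nat.pos_iff_ne_zero] <;> ring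
        · simp only [OAB, if_neg hL.ne', Bool.false_eq_true, if_false, a, b, E, W, hh, one_mul]
      · refine (hr _ 1 1 ((Vv + Vv ^ 2) * (2 * a)) ((Vv + Vv ^ 2) * b) (by norm_num) (by norm_num) (by positivity)
          (by positivity) (fun e r => ?_)).trans (le_of_eq ?_)
        · rcases eq_or_ne r 0 with rfl | hr0 <;> simp_all [Nat.pos_iff_ne_zero] <;> ring
        · simp only [OAB, if_neg hL.ne', if_true, a, b, E, W, hVv, hh, one_mul]
          ring

theorem otail_step {L : ℕ} (hL : 10 ≤ L) : ((OAB (L + 1)).1 + (OAB (L + 1)).2) * (1 + 3 * (1 / 2) ^ (L + 1)) ≤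
    ((OAB L).1 + (OAB L).2) * (1 + 3 * (1 / 2) ^ L) := by
  obtain ⟨ha, hb⟩ := oab_nonneg L
  rw [OAB, if_neg (show ¬L = 0 by omega)]
  simp only
  have hw : (1 / 2 : ℚ) ^ (L + L + 1) = ((1 / 2) ^ L) ^ 2 * (1 / 2) := by rw [← pow_mul, pow_succ]; ring
  have he : (1 / 2 : ℚ) ^ (L + L + 2) = ((1 / 2) ^ L) ^ 2 * (1 / 4) := by rw [← pow_mul, pow_add]; ring
  rw [hw, he, pow_succ (1 / 2 : ℚ) L]
  have hx : (1 / 2 : ℚ) ^ L ≤ 1 / 1024 :=
    (pow_le_pow_of_le_one (by norm_num) (by norm_num) hL).trans (by norm_num)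
  have hx0 : (0 : ℚ) ≤ (1 / 2) ^ L := by positivity
  generalize (1 / 2 : ℚ) ^ L = x at hx hx0 ⊢
  generalize (OAB L).1 = a at ha ⊢
  generalize (OAB L).2 = b at hb ⊢
  have hxx : x ^ 2 ≤ x * (1 / 1024) := by rw [pow_two]; exact mul_le_mul_of_nonneg_left hx hx0
  have hden : (1023 / 1024 : ℚ) ≤ 1 - x ^ 2 * (1 / 2) := by nlinarith
  have hE : (0 : ℚ) < 1 - x ^ 2 * (1 / 4) := by nlinarith
  have hw1 : x ^ 2 * (1 / 2) / (1 - x ^ 2 * (1 / 2)) ≤ x * (1 / 1000) := by
    rw [div_le_iff₀ (by linarith)]; nlinarith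
  have hw0 : 0 ≤ x ^ 2 * (1 / 2) / (1 - x ^ 2 * (1 / 2)) := div_nonneg (by positivity) (by linarith)
  generalize x ^ 2 * (1 / 2) / (1 - x ^ 2 * (1 / 2)) = w at hw1 hw0 ⊢
  have hv : x * (1 / 2) + (x * (1 / 2)) ^ 2 ≤ x * (501 / 1000) := by nlinarith
  have hv0 : 0 ≤ x * (1 / 2) + (x * (1 / 2)) ^ 2 := by positivity
  generalize x * (1 / 2) + (x * (1 / 2)) ^ 2 = v at hv hv0 ⊢
  rw [← add_div, div_mul_eq_mul_div, div_le_iff₀ hE]
  have hf : a * (1 + 2 * w) + b * (1 + w) + v * (1 + w) * (2 * a + b) ≤ (a + b) * (1 + x * (11 / 10)) := by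
    have h1 : v * (1 + w) ≤ x * (52 / 100) := by nlinarith
    nlinarith [mul_nonneg ha hw0, mul_nonneg hb hw0, mul_le_mul_of_nonneg_left hw1 ha, mul_le_mul_of_nonneg_left hw1 hb,
      mul_le_mul_of_nonneg_left h1 ha, mul_le_mul_of_nonneg_left h1 hb]
  refine (mul_le_mul_of_nonneg_right hf (by positivity)).trans ?_
  rw [mul_assoc, mul_assoc]
  refine mul_le_mul_of_nonneg_left ?_ (by positivity)
  nlinarith [mul_nonneg hx0 hx0, mul_le_mul_of_nonneg_left hxx hx0]

theorem OAB_le (L : ℕ) : (OAB L).1 + (OAB L).2 ≤ 64 / 5 := by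
  have h11 : ((OAB 11).1 + (OAB 11).2) * (1 + 3 * (1 / 2) ^ 11) ≤ 64 / 5 := by norm_num [OAB]
  have hanti : ∀ i, ((OAB (11 + i)).1 + (OAB (11 + i)).2) * (1 + 3 * (1 / 2) ^ (11 + i)) ≤ 64 / 5 := by
    intro i
    induction i with
    | zero => exact h11
    | succ i ih => exact (otail_step (L := 11 + i) (by omega)).trans ih
  rcases Nat.lt_or_ge L 11 with h | h
  · interval_cases L <;> norm_num [OAB]
  · obtain ⟨i, rfl⟩ := Nat.exists_eq_add_of_le h
    refine le_trans ?_ (hanti i)
    have h0 := oab_nonneg (11 + i)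
    exact le_mul_of_one_le_right (by linarith [h0.1, h0.2]) (le_add_of_nonneg_right (by positivity))

/-! ## Data without blocks that may carry a bit -/

/-- The covering sets. -/
noncomputable def elabs : ℕ → ℕ → Finset (ℕ → Dat)
  | 0, n => if n = 0 then {fun _ => Dat.zero} else ∅
  | L + 1, n =>
    haveI : DecidableEq (ℕ → Dat) := Classical.decEq _
    (Finset.range (n / (L + L + 2) + 1)).biUnion fun e =>
      (elabs L (n - e * (L + L + 2))).image fun g => Function.update g L ⟨0, false, 0, false, e⟩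

/-- The bound for the size of `elabs`. -/
def ecnt : ℕ → ℕ → ℕ
  | 0, n => if n = 0 then 1 else 0
  | L + 1, n => ∑ e ∈ Finset.range (n / (L + L + 2) + 1), ecnt L (n - e * (L + L + 2))

theorem card_elabs : ∀ L n, (elabs L n).card ≤ ecnt L n
  | 0, n => by rw [elabs, ecnt]; split_ifs <;> simp
  | L + 1, n => by
    classical
    rw [elabs, ecnt]
    exact Finset.card_biUnion_le.trans (Finset.sum_le_sum fun e _ => Finset.card_image_le.trans (card_elabs L _))

theorem mem_elabs : ∀ (L : ℕ) (f : ℕ → Dat), (∀ i, L ≤ i → f i = Dat.zero) →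
    (∀ i, f i = ⟨0, false, 0, false, (f i).e⟩) → f ∈ elabs L (∑ i ∈ Finset.range L, (f i).weight i)
  | 0, f, h0, _ => by
    rw [elabs]
    simp only [Finset.range_zero, Finset.sum_empty, if_true, Finset.mem_singleton]
    exact funext fun i => h0 i (Nat.zero_le i)
  | L + 1, f, h0, hz => by
    classical
    have hgm := mem_elabs L (Function.update f L Dat.zero) (fun i hi => by
        rcases eq_or_ne i L with rfl | hne
        · exact Function.update_self ..
        · rw [Function.update_of_ne hne]; exact h0 i (by omega))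
      (fun i => by
        rcases eq_or_ne i L with rfl | hne
        · rw [Function.update_self]; rfl
        · rw [Function.update_of_ne hne]; exact hz i)
    rw [Finset.sum_congr rfl fun i hi => by rw [Function.update_of_ne (Finset.mem_range.1 hi).ne]] at hgm
    have hw : (f L).weight L = (f L).e * (L + L + 2) := by rw [hz L]; simp [Dat.weight]
    rw [elabs, Finset.mem_biUnion]
    refine ⟨(f L).e, ?_, Finset.mem_image.2 ⟨Function.update f L Dat.zero, ?_, ?_⟩⟩
    · rw [Finset.mem_range, Nat.lt_succ_iff, Nat.le_div_iff_mul_le (by omega), Finset.sum_range_succ, hw]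
      exact Nat.le_add_left _ _
    · rw [Finset.sum_range_succ, hw, Nat.add_sub_cancel]; exact hgm
    · rw [Function.update_idem, ← hz L, Function.update_eq_self]

theorem sum_ecnt_le : ∀ L K : ℕ, ∑ n ∈ Finset.range K, (ecnt L n : ℚ) * (1 / 2) ^ n ≤ (1 - (1 / 2) ^ (L + 1)) * 2 := by
  intro L
  induction L with
  | zero =>
    intro K
    rcases K with _ | K
    · simp; norm_num
    · rw [Finset.sum_eq_single 0 (fun b _ hb => by simp [ecnt, hb]) (by simp)]
      simp [ecnt]; norm_num
  | succ L ih =>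
    intro K
    set h : ℚ := 1 / 2 with hh
    have hx0 : (0 : ℚ) ≤ h ^ (L + 1) := by positivity
    have hx1 : h ^ (L + 1) < 1 := pow_lt_one₀ (by norm_num [hh]) (by norm_num [hh]) (by omega)
    have hsq : h ^ (L + L + 2) = (h ^ (L + 1)) ^ 2 := by rw [← pow_mul]; congr 1; omega
    have hE1 : h ^ (L + L + 2) < 1 := pow_lt_one₀ (by norm_num [hh]) (by norm_num [hh]) (by omega)
    calc ∑ n ∈ Finset.range K, (ecnt (L + 1) n : ℚ) * h ^ n
        ≤ ∑ n ∈ Finset.range K, ∑ e ∈ Finset.range K,
            (if e * (L + L + 2) ≤ n then (ecnt L (n - e * (L + L + 2)) : ℚ) * h ^ n else 0) := by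
          refine Finset.sum_le_sum fun n hn => ?_
          have hn' := Finset.mem_range.1 hn
          rw [ecnt, Nat.cast_sum, Finset.sum_mul]
          refine le_trans (Finset.sum_le_sum fun e he => ?_)
            (Finset.sum_le_sum_of_subset_of_nonneg (s := Finset.range (n / (L + L + 2) + 1)) ?_
              fun e _ _ => by positivity)
          · have he' := Nat.lt_succ_iff.1 (Finset.mem_range.1 he)
            rw [Nat.le_div_iff_mul_le (by omega)] at he'
            rw [if_pos he']
          · intro e he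
            have h1 := Finset.mem_range.1 he
            have h2 := Nat.div_le_self n (L + L + 2)
            exact Finset.mem_range.2 (by omega)
      _ = ∑ e ∈ Finset.range K, ∑ n ∈ Finset.range K,
            (if e * (L + L + 2) ≤ n then (ecnt L (n - e * (L + L + 2)) : ℚ) * h ^ n else 0) := Finset.sum_comm
      _ ≤ ∑ e ∈ Finset.range K, (h ^ (L + L + 2)) ^ e * ((1 - h ^ (L + 1)) * 2) := by
          refine Finset.sum_le_sum fun e _ => ?_
          refine (sum_shift_le (fun i => (ecnt L i : ℚ)) (fun i => by positivity) (by norm_num [hh]) _ K).trans ?_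
          rw [← pow_mul, mul_comm (L + L + 2) e]
          exact mul_le_mul_of_nonneg_left (ih K) (by positivity)
      _ ≤ 1 / (1 - h ^ (L + L + 2)) * ((1 - h ^ (L + 1)) * 2) := by
          rw [← Finset.sum_mul]
          exact mul_le_mul_of_nonneg_right (geom_le (by positivity) hE1 K) (by linarith)
      _ ≤ (1 - h ^ (L + 1 + 1)) * 2 := by
          rw [hsq] at hE1
          rw [hsq, pow_succ h (L + 1), show h ^ (L + 1) * h = h ^ (L + 1) / 2 by rw [hh]; ring, one_div_mul_eq_div,
            div_le_iff₀ (by linarith)]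
          generalize h ^ (L + 1) = x at *
          nlinarith [mul_nonneg hx0 (sq_nonneg (1 - x))]

theorem ototal_le {q : ℕ} (hq : 2 ≤ q) (n L J : ℕ) :
    ∑ j ∈ Finset.range (n + 1), ∑ R ∈ Finset.range (n + 1 - j),
        (ocnt L j false + ocnt L j true + ecnt L j) * (rcnt q J R * ∑ d ∈ Finset.range (n - j - R + 1), sdc q d) ≤
      30 * q ^ n := by
  have hq0 : (q : ℚ) ≠ 0 := by exact_mod_cast (show q ≠ 0 by omega)
  set t : ℚ := 1 / q with ht
  suffices hh : ((∑ j ∈ Finset.range (n + 1), ∑ R ∈ Finset.range (n + 1 - j),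
      (ocnt L j false + ocnt L j true + ecnt L j) *
        (rcnt q J R * ∑ d ∈ Finset.range (n - j - R + 1), sdc q d) : ℕ) : ℚ) ≤ ((30 * q ^ n : ℕ) : ℚ) by
    exact_mod_cast hh
  simp only [sum_sdc q (by omega)]
  rw [Nat.cast_mul, Nat.cast_pow, Nat.cast_sum]
  calc ∑ j ∈ Finset.range (n + 1), ((∑ R ∈ Finset.range (n + 1 - j),
        (ocnt L j false + ocnt L j true + ecnt L j) * (rcnt q J R * q ^ (n - j - R)) : ℕ) : ℚ)
      ≤ ∑ j ∈ Finset.range (n + 1), (q : ℚ) ^ n *
          (((ocnt L j false + ocnt L j true + ecnt L j : ℕ) : ℚ) * (1 / 2) ^ j * 2) := by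
        refine Finset.sum_le_sum fun j hj => ?_
        have hj' := Finset.mem_range.1 hj
        rw [Nat.cast_sum]
        have h1 : ∀ R ∈ Finset.range (n + 1 - j),
            (((ocnt L j false + ocnt L j true + ecnt L j) * (rcnt q J R * q ^ (n - j - R)) : ℕ) : ℚ) =
              (q : ℚ) ^ n *
                (((ocnt L j false + ocnt L j true + ecnt L j : ℕ) : ℚ) * t ^ j * ((rcnt q J R : ℚ) * t ^ R)) := by
          intro R hR
          have hR' := Finset.mem_range.1 hR
          rw [Nat.cast_mul, Nat.cast_mul, Nat.cast_pow, show (q : ℚ) ^ n = q ^ (n - j - R) * q ^ j * q ^ R by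
            rw [← pow_add, ← pow_add]; congr 1; omega, ht, one_div, inv_pow, inv_pow]
          field_simp
        rw [Finset.sum_congr rfl h1, ← Finset.mul_sum, ← Finset.mul_sum]
        refine mul_le_mul_of_nonneg_left (mul_le_mul ?_ ((sum_rcnt_le hq J _).trans ?_) (by positivity) (by positivity))
          (by positivity)
        · exact mul_le_mul_of_nonneg_left (pow_le_pow_left₀ (by positivity)
            (one_div_le_one_div_of_le (by norm_num) (by exact_mod_cast hq)) j) (by positivity)
        · exact mul_le_of_le_one_left (by norm_num) (sub_le_self _ (by positivity))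
    _ ≤ _ := by
        rw [← Finset.mul_sum, ← Finset.sum_mul, mul_comm ((30 : ℕ) : ℚ)]
        refine mul_le_mul_of_nonneg_left ?_ (by positivity)
        have h1 := sum_ocnt_le L (n + 1) false
        have h2 := sum_ocnt_le L (n + 1) true
        have h3 := (sum_ecnt_le L (n + 1)).trans (mul_le_of_le_one_left (by norm_num) (sub_le_self _ (by positivity)))
        have h4 := OAB_le L
        simp only [oab, Bool.false_eq_true, if_false, if_true] at h1 h2
        push_cast
        simp only [add_mul, Finset.sum_add_distrib]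
        linarith

end CfsgLib.SpEven
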