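import Cfsg.Agent.SpEven.OSign
import Cfsg.Agent.SpEven.OCount
import Cfsg.Agent.SpEven.Classes
import Cfsg.Agent.Geo.FormClasses.OrthClasses

/-!
# `k (O Q) ≤ 15 q ^ n` for a nondegenerate `Q` in dimension `2 n`, `q` even

`(class, b)` goes to the data of its canonical list with the designated bit changed by `b`; lists differing
in one bit have different signs, so this is injective.
-/

set_option autoImplicit false
set_option linter.unusedSectionVars false
set_option linter.style.haveILetI false

namespace CfsgLib.SpEven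

open Module Matrix CfsgLib.Geo.FormClasses

/-! ## Combinatorics of lists -/

/-- A place for a bit, from the multiplicities. -/
def OAllowF (f : Blk → ℕ) (U : Blk) : Prop := ONode U ∧ f U ≠ 0 ∧ ∀ X, Low U X → f X = 0

theorem exists_oallowF {f : Blk → ℕ} (hV : f (.V 0) = 0) (h : ∃ U, ONode U ∧ f U ≠ 0) : ∃ U, OAllowF f U := by
  suffices hh : ∀ p U, U.pos = p → ONode U → f U ≠ 0 → ∃ U, OAllowF f U by
    obtain ⟨U, h1, h2⟩ := h
    exact hh _ U rfl h1 h2
  intro p
  induction p using Nat.strong_induction_on with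
  | _ p ih =>
    intro U hp hn hf
    by_contra hne
    have : ∃ X, Low U X ∧ f X ≠ 0 := by
      by_contra h'
      push Not at h'
      exact hne ⟨U, hn, hf, h'⟩
    obtain ⟨X, hX, hfX⟩ := this
    refine hne (ih X.pos (hp ▸ hX.pos_lt' hn) X rfl ?_ hfX)
    cases U with
    | V l =>
      have hl : 1 ≤ l := hn
      rcases hX with rfl | rfl
      · by_contra h0
        simp only [ONode] at h0
        exact hfX (by rw [show l - 1 = 0 by omega]; exact hV)
      · exact ⟨l - 1, by omega⟩
    | W m =>
      obtain ⟨l, hl, rfl⟩ := hX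
      by_contra h0
      simp only [ONode] at h0
      exact hfX (by rw [show l = 0 by omega]; exact hV)

/-- The designated place. -/
noncomputable def des (f : Blk → ℕ) : Blk := @Classical.epsilon _ ⟨Blk.V 0⟩ (OAllowF f)

theorem des_spec {f : Blk → ℕ} (h : ∃ U, OAllowF f U) : OAllowF f (des f) := Classical.epsilon_spec h

/-- The bits, the designated one changed by `b`. -/
noncomputable def bitOf (L : List (Blk × Bool)) (b : Bool) (U : Blk) : Bool :=
  open Classical in
  if b = true ∧ (∃ X, OAllowF (fun X => (L.map Prod.fst).count X) X) ∧ U = des (fun X => (L.map Prod.fst).count X)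
  then !decide ((U, true) ∈ L) else decide ((U, true) ∈ L)

/-- Level data from multiplicities and bits. -/
def datB (f : Blk → ℕ) (bt : Blk → Bool) (i : ℕ) : Dat :=
  if i = 0 then
    ⟨f (.V 1), decide (f (.V 1) ≠ 0) && (bt (.V 1) || bt (.W 1)),
      if f (.V 1) = 0 ∧ bt (.W 1) = true then 1 else 0, decide (f (.V 1) = 0) && bt (.W 1), f (.W 2)⟩
  else ⟨f (.V (i + 1)), bt (.V (i + 1)), f (.W (i + i + 1)), bt (.W (i + i + 1)), f (.W (i + i + 2))⟩

theorem datB_v (f : Blk → ℕ) (bt : Blk → Bool) (i : ℕ) : (datB f bt i).v = f (.V (i + 1)) := by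
  rcases eq_or_ne i 0 with rfl | hi <;> simp [datB, *]

theorem datB_e (f : Blk → ℕ) (bt : Blk → Bool) (i : ℕ) : (datB f bt i).e = f (.W (i + i + 2)) := by
  rcases eq_or_ne i 0 with rfl | hi <;> simp [datB, *]

/-- The hypotheses on bits. -/
def GoodBits (f : Blk → ℕ) (bt : Blk → Bool) : Prop := ∀ U, bt U = true → OAllowF f U

theorem datB_ok {f : Blk → ℕ} {bt : Blk → Bool} (hv : ∀ l, f (.V l) ≤ 2) (hg : GoodBits f bt) (i : ℕ) :
    (datB f bt i).OOk i (flag i (datB f bt)) := by
  have hflag : ∀ j, 0 < j → f (.V j) = 0 → flag j (datB f bt) = false := fun j hj h => by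
    rw [flag, decide_eq_false_iff_not, datB_v, show j - 1 + 1 = j by omega]
    exact fun hh => hh.2 h
  rcases eq_or_ne i 0 with rfl | hi
  · refine ⟨by rw [datB_v]; exact hv _, fun _ => ?_, fun h => ?_, fun h => ?_⟩
    · simp only [datB, if_true]
      refine ⟨by split_ifs <;> omega, fun h => ?_⟩
      split_ifs at h with hh
      · exact ⟨hh.1, by simp [hh.1, hh.2]⟩
      · simp at h
    · simp only [datB, if_true, Bool.and_eq_true, decide_eq_true_eq] at h ⊢
      exact ⟨h.1, by rw [if_neg fun hh => h.1 hh.1], by simp [flag]⟩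
    · simp only [datB, if_true, Bool.and_eq_true, decide_eq_true_eq] at h ⊢
      exact ⟨by rw [if_pos h]; omega, by simp [flag]⟩
  · refine ⟨by rw [datB_v]; exact hv _, fun h => absurd h hi, fun h => ?_, fun h => ?_⟩
    · simp only [datB, if_neg hi] at h ⊢
      obtain ⟨-, h1, h2⟩ := hg _ h
      exact ⟨h1, h2 _ (Or.inr (by congr 1; omega)), hflag i (Nat.pos_of_ne_zero hi) (h2 _ (Or.inl rfl))⟩
    · simp only [datB, if_neg hi] at h ⊢
      obtain ⟨-, h1, h2⟩ := hg _ h
      exact ⟨h1, hflag i (Nat.pos_of_ne_zero hi) (h2 _ ⟨i, rfl, rfl⟩)⟩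

/-- The bits are determined by the data and the multiplicities. -/
theorem bits_eq_of_datB {f : Blk → ℕ} {bt bt' : Blk → Bool} (hg : GoodBits f bt) (hg' : GoodBits f bt')
    (h : datB f bt = datB f bt') (U : Blk) : bt U = bt' U := by
  have hfalse : ∀ {bt : Blk → Bool}, GoodBits f bt → ∀ U, ¬OAllowF f U → bt U = false := fun {bt} hg U hU => by
    rcases hb : bt U with _ | _
    · rfl
    · exact absurd (hg U hb) hU
  by_cases hU : OAllowF f U
  swap
  · rw [hfalse hg U hU, hfalse hg' U hU]
  obtain ⟨hn, hf, hlow⟩ := hU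
  cases U with
  | V l =>
    have hl : 1 ≤ l := hn
    rcases eq_or_ne l 1 with rfl | hl1
    · have h0 := congrArg (fun d => (d 0).bv) h
      have hW : f (.W 1) = 0 := hlow _ (Or.inr rfl)
      have k : ∀ {bt : Blk → Bool}, GoodBits f bt → bt (.W 1) = false := fun hg =>
        hfalse hg _ fun hh => hh.2.1 hW
      simpa [datB, hf, k hg, k hg'] using h0
    · have h0 := congrArg (fun d => (d (l - 1)).bv) h
      simpa [datB, show ¬l - 1 = 0 by omega, show l - 1 + 1 = l by omega] using h0
  | W m =>
    obtain ⟨i, rfl⟩ := hn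
    rcases eq_or_ne i 0 with rfl | hi
    · by_cases hv : f (.V 1) = 0
      · have h0 := congrArg (fun d => (d 0).bw) h
        simpa [datB, hv] using h0
      · have h0 := congrArg (fun d => (d 0).bv) h
        have k : ∀ {bt : Blk → Bool}, GoodBits f bt → bt (.V 1) = false := fun hg =>
          hfalse hg _ fun hh => hf (hh.2.2 _ (Or.inr rfl))
        simpa [datB, hv, k hg, k hg'] using h0
    · have h0 := congrArg (fun d => (d i).bw) h
      simpa [datB, hi] using h0

/-! ## Geometry -/

section Orth

variable {F : Type*} [Field F] [CharP F 2] [Fintype F] [DecidableEq F] {ι : Type} [Fintype ι] [DecidableEq ι]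
  {Q : QuadraticForm F (ι → F)} (hQ : (QuadraticMap.polarBilin Q).Nondegenerate)

theorem pol_apply (x y : ι → F) : Q (x + y) = Q x + Q y + (QuadraticMap.polarBilin Q) x y := by
  rw [QuadraticMap.polarBilin_apply_apply, QuadraticMap.polar]
  ring

theorem polar_alt (x : ι → F) : (QuadraticMap.polarBilin Q) x x = 0 := by
  rw [QuadraticMap.polarBilin_apply_apply, QuadraticMap.polar_self, two_smul]
  exact add_self_eq_zero' (F := F) _

/-- The map of a class. -/
noncomputable def oT (c : ConjClasses (Cfsg.isometryGroup F ⇑Q)) : (ι → F) →ₗ[F] (ι → F) :=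
  Matrix.toLin' ((Quotient.out c).1 : GL ι F).val

theorem isIsom_oT (c : ConjClasses (Cfsg.isometryGroup F ⇑Q)) : IsIsom (QuadraticMap.polarBilin Q) (oT c) := isIsom_lin Q (Quotient.out c)

theorem oT_Q (c : ConjClasses (Cfsg.isometryGroup F ⇑Q)) (x : ι → F) : Q (oT c x) = Q x := by
  rw [oT, Matrix.toLin'_apply]
  exact (Quotient.out c).2 x x

theorem eq_of_equiv {c d : ConjClasses (Cfsg.isometryGroup F ⇑Q)} (e : (ι → F) ≃ₗ[F] (ι → F))
    (he : ∀ x, e (oT c x) = oT d (e x)) (hQe : ∀ x, Q (e x) = Q x) : c = d := by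
  rw [← Quotient.out_eq c, ← Quotient.out_eq d]
  refine Quotient.sound (?_ : IsConj (Quotient.out c) (Quotient.out d))
  let P : GL ι F := ⟨LinearMap.toMatrix' e.toLinearMap, LinearMap.toMatrix' e.symm.toLinearMap,
    by rw [← LinearMap.toMatrix'_comp]; simp, by rw [← LinearMap.toMatrix'_comp]; simp⟩
  refine isConj_iff.2 ⟨⟨P, fun u v => ?_⟩, ?_⟩
  · show Q (LinearMap.toMatrix' e.toLinearMap *ᵥ u) = Q u
    rw [LinearMap.toMatrix'_mulVec]
    exact hQe u
  · rw [mul_inv_eq_iff_eq_mul]
    refine Subtype.ext (Units.ext (Matrix.ext_of_mulVec_single fun i => ?_))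
    show (LinearMap.toMatrix' e.toLinearMap * ((Quotient.out c).1 : GL ι F).val) *ᵥ Pi.single i 1 =
      (((Quotient.out d).1 : GL ι F).val * LinearMap.toMatrix' e.toLinearMap) *ᵥ Pi.single i 1
    rw [← Matrix.mulVec_mulVec, ← Matrix.mulVec_mulVec, LinearMap.toMatrix'_mulVec, LinearMap.toMatrix'_mulVec]
    have h1 := he (Pi.single i 1)
    simp only [oT, Matrix.toLin'_apply] at h1
    exact h1

variable (Q) in
/-- The form on the unipotent part. -/
noncomputable def qPart (T : (ι → F) →ₗ[F] (ι → F)) : QuadraticForm F (part T 1) := Q.comp (part T 1).subtype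

theorem ouni_part (c : ConjClasses (Cfsg.isometryGroup F ⇑Q)) :
    OUni (finrank F (ι → F)) (qPart Q (oT c)) (LinearMap.BilinForm.restrict (QuadraticMap.polarBilin Q) (part (oT c) 1))
      (resT (oT c) (part_inv 1) - 1) := by
  refine ⟨uni_part (isIsom_oT c) polar_alt rfl, fun x y => pol_apply (x : ι → F) y, fun x => ?_⟩
  rw [LinearMap.sub_apply, Module.End.one_apply, add_sub_cancel]
  exact oT_Q c (x : ι → F)

include hQ

theorem isForm_oT (c : ConjClasses (Cfsg.isometryGroup F ⇑Q)) :
    IsForm (1 : F) (LinearMap.BilinForm.restrict (QuadraticMap.polarBilin Q) (part (oT c) 1)) ∧ IsForm (1 : F) (LinearMap.BilinForm.restrict (QuadraticMap.polarBilin Q) (rest (oT c))) :=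
  isForm_part (isForm_polar Q hQ) (isIsom_oT c)

theorem exists_olab (c : ConjClasses (Cfsg.isometryGroup F ⇑Q)) :
    ∃ L : List (Blk × Bool),
      Has (LinearMap.BilinForm.restrict (QuadraticMap.polarBilin Q) (part (oT c) 1))
        (OStd (finrank F (ι → F)) (qPart Q (oT c)) (LinearMap.BilinForm.restrict (QuadraticMap.polarBilin Q) (part (oT c) 1)) (resT (oT c) (part_inv 1) - 1))
        L ⊤ ∧
      (∀ U, (U, true) ∈ L → OAllowed (L.map Prod.fst) U) ∧ (∀ U, L.count (U, true) ≤ 1) ∧
      ∀ l, (L.map Prod.fst).count (.V l) ≤ 2 := by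
  have hU := ouni_part c
  obtain ⟨T, hT, hc⟩ := exists_decomp hU.uni (W := ⊤) rfl (fun z _ => Submodule.mem_top)
    fun z _ h => (isForm_oT hQ c).1.nd z fun y => h y Submodule.mem_top
  obtain ⟨L, hp, hL, hall, h1⟩ := exists_ocanon hU hT
  exact ⟨L, hL, fun U h => ⟨(hall U h).1, fun X hX => (hall U h).2 X (hp.mem_iff.1 hX)⟩, h1,
    fun l => by rw [hp.count_eq]; exact hc l⟩

/-- The canonical list of a class. -/
noncomputable def olab (c : ConjClasses (Cfsg.isometryGroup F ⇑Q)) : List (Blk × Bool) := (exists_olab hQ c).choose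

/-- The multiplicities. -/
noncomputable def omul (c : ConjClasses (Cfsg.isometryGroup F ⇑Q)) (U : Blk) : ℕ :=
  ((olab hQ c).map Prod.fst).count U

/-- The layers of the rest of a class. -/
noncomputable def olay (c : ConjClasses (Cfsg.isometryGroup F ⇑Q)) (j : ℕ) : Polynomial F :=
  CfsgLib.Geo.FormClasses.layer (resT (oT c) rest_inv) j

omit hQ in
theorem olay_eq (c : ConjClasses (Cfsg.isometryGroup F ⇑Q)) (j : ℕ) :
    olay c j = CfsgLib.Geo.FormClasses.layer (resT (oT c) rest_inv) j := rfl

theorem isLay_olay (c : ConjClasses (Cfsg.isometryGroup F ⇑Q)) (j : ℕ) : IsLay (olay c j) :=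
  isLay_layer (isForm_oT hQ c).2 (isIsom_res (isIsom_oT c) rest_inv) rest_no_eigen j

theorem wt_pos (c : ConjClasses (Cfsg.isometryGroup F ⇑Q)) : ∀ U, omul hQ c U ≠ 0 → 0 < U.wt := by
  intro U hU
  obtain ⟨p, hp, rfl⟩ := List.mem_map.1 (List.count_pos_iff.1 (Nat.pos_of_ne_zero hU))
  have hS := ohas_std (exists_olab hQ c).choose_spec.1
  have h : ∀ {L : List (Blk × Bool)} {W}, Has (LinearMap.BilinForm.restrict (QuadraticMap.polarBilin Q) (part (oT c) 1))
      (StdBlk (finrank F (ι → F)) (LinearMap.BilinForm.restrict (QuadraticMap.polarBilin Q) (part (oT c) 1)) (resT (oT c) (part_inv 1) - 1))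
      L W → p ∈ L → 0 < p.1.wt := by
    intro L
    induction L with
    | nil => intro W _ h; simp at h
    | cons q L ih =>
      rintro W ⟨S, -, hS, hL'⟩ hmem
      rcases List.mem_cons.1 hmem with rfl | hmem
      · rcases p with ⟨l | m, b⟩
        · obtain ⟨x, hG, -⟩ := hS; have := hG.pos; simp only [Blk.wt]; omega
        · obtain ⟨x, hG, -⟩ := hS; exact hG.pos
      · exact ih hL' hmem
  exact h hS hp

variable {n : ℕ} (hcard : Fintype.card ι = n + n)
include hcard

theorem odims (c : ConjClasses (Cfsg.isometryGroup F ⇑Q)) :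
    (∀ U, omul hQ c U ≠ 0 → U.wt ≤ n) ∧
      (∑ i ∈ Finset.range n, (omul hQ c (.V (i + 1)) * (i + 1) +
          (if i = 0 then 0 else omul hQ c (.W (i + i + 1))) * (i + i + 1) +
          omul hQ c (.W (i + i + 2)) * (i + i + 2))) + omul hQ c (.W 1) +
        (∑ i ∈ Finset.range (n + n), (i + 2) * ((olay c (i + 2)).natDegree / 2)) +
          (olay c 1).natDegree / 2 = n := by
  have hdim : finrank F (ι → F) = n + n := by rw [finrank_fintype_fun_eq_card, hcard]
  have hU := (ouni_part c).uni
  have hd := has_dim hU (ohas_std (exists_olab hQ c).choose_spec.1)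
  rw [finrank_top] at hd
  have hc := Submodule.finrank_add_eq_of_isCompl (isCompl_parts (T := oT c))
  rw [hdim] at hc
  have hle : finrank F (rest (oT c)) ≤ n + n + 1 := by omega
  have hr : ∑ i ∈ Finset.range (n + n + 1), (i + 1) * (olay c (i + 1)).natDegree = finrank F (rest (oT c)) := by
    rw [← Fin.sum_univ_eq_sum_range (fun i => (i + 1) * (olay c (i + 1)).natDegree)]
    exact sum_layers hle
  rw [Finset.sum_range_succ'] at hr
  simp only [Nat.zero_add, one_mul] at hr
  have hev : ∀ j, (olay c j).natDegree = 2 * ((olay c j).natDegree / 2) := fun j => by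
    obtain ⟨r, hr⟩ := (isLay_olay hQ c j).even
    omega
  rw [Finset.sum_congr rfl fun i _ => by
    rw [show i + 1 + 1 = i + 2 by omega, hev (i + 2), Nat.mul_left_comm], ← Finset.mul_sum, hev 1] at hr
  have hwt : ((olab hQ c).map fun p => p.1.wt) = ((olab hQ c).map Prod.fst).map Blk.wt := by rw [List.map_map]; rfl
  have hsum : finrank F (part (oT c) 1) = 2 * ((olab hQ c).map fun p => p.1.wt).sum := hd
  have hle' : ∀ U, omul hQ c U ≠ 0 → U.wt ≤ n := by
    intro U hU'
    have h1 : U.wt ≤ (((olab hQ c).map Prod.fst).map Blk.wt).sum :=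
      List.single_le_sum (fun x _ => Nat.zero_le x) _
        (List.mem_map.2 ⟨U, List.count_pos_iff.1 (Nat.pos_of_ne_zero hU'), rfl⟩)
    rw [← hwt] at h1
    omega
  refine ⟨hle', ?_⟩
  have hw := list_weight (n := n) ((olab hQ c).map Prod.fst) fun U h =>
    ⟨wt_pos hQ c U (Nat.pos_iff_ne_zero.1 (List.count_pos_iff.2 h)),
      hle' U (Nat.pos_iff_ne_zero.1 (List.count_pos_iff.2 h))⟩
  rw [← hwt] at hw
  unfold omul
  omega

omit hcard

/-- Whether some block may carry a bit. -/
def HasNode (c : ConjClasses (Cfsg.isometryGroup F ⇑Q)) : Prop := ∃ U, OAllowF (omul hQ c) U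

open Classical in
/-- The key of a pair. -/
noncomputable def okey (x : ConjClasses (Cfsg.isometryGroup F ⇑Q) × Bool) :
    (Bool × (ℕ → Dat)) × (ℕ → Polynomial F) × Polynomial F :=
  ((if HasNode hQ x.1 then false else x.2, datB (omul hQ x.1) (bitOf (olab hQ x.1) x.2)),
    fun i => olay x.1 (i + 2), olay x.1 1)

theorem good_bits (c : ConjClasses (Cfsg.isometryGroup F ⇑Q)) (b : Bool) :
    GoodBits (omul hQ c) (bitOf (olab hQ c) b) := by
  classical
  intro U hU
  obtain ⟨-, hall, -, -⟩ := (exists_olab hQ c).choose_spec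
  unfold bitOf at hU
  split_ifs at hU with h
  · exact h.2.2 ▸ des_spec (f := omul hQ c) h.2.1
  · have hm : (U, true) ∈ olab hQ c := of_decide_eq_true hU
    obtain ⟨h1, h2⟩ := hall U hm
    refine ⟨h1, Nat.pos_iff_ne_zero.1 (List.count_pos_iff.2 (List.mem_map.2 ⟨_, hm, rfl⟩)), fun X hX => ?_⟩
    exact List.count_eq_zero.2 fun hXm => h2 X hXm hX

theorem omul_V0 (c : ConjClasses (Cfsg.isometryGroup F ⇑Q)) : omul hQ c (.V 0) = 0 := by
  by_contra h
  exact absurd (wt_pos hQ c _ h) (by simp [Blk.wt])

theorem no_node {c : ConjClasses (Cfsg.isometryGroup F ⇑Q)} (h : ¬HasNode hQ c) {U : Blk} (hn : ONode U) :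
    omul hQ c U = 0 := by
  by_contra hne
  exact h (exists_oallowF (omul_V0 hQ c) ⟨U, hn, hne⟩)

/-- The signs of classes with similar rests. -/
theorem parity_eq {c d : ConjClasses (Cfsg.isometryGroup F ⇑Q)} (e : rest (oT c) ≃ₗ[F] rest (oT d))
    (he : ∀ x : rest (oT c), Q (e x : ι → F) = Q (x : ι → F)) :
    (-1 : ℤ) ^ ((olab hQ c).map Prod.snd).count true = (-1) ^ ((olab hQ d).map Prod.snd).count true := by
  have key : ∀ c : ConjClasses (Cfsg.isometryGroup F ⇑Q),
      0 < (-1 : ℤ) ^ ((olab hQ c).map Prod.snd).count true * gs Q (part (oT c) 1) ∧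
        gs Q ⊤ = gs Q (part (oT c) 1) * gs Q (rest (oT c)) ∧ gs Q (rest (oT c)) ≠ 0 := by
    intro c
    obtain ⟨hL, hall, -, -⟩ := (exists_olab hQ c).choose_spec
    refine ⟨?_, ?_, ?_⟩
    · rw [← gs_restrict]
      exact gs_has (ouni_part c) hL fun p hp hb => (hall p.1 (by
        have h2 : p = (p.1, true) := Prod.ext rfl hb
        rw [← h2]; exact hp)).1
    · rw [← gs_sup pol_apply (disjoint_iff.1 (isCompl_parts (T := oT c)).disjoint) fun a ha b hb =>
        part_orth_rest (isIsom_oT c) (Or.inl rfl) ha hb, (isCompl_parts (T := oT c)).sup_eq_top]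
    · rw [← gs_restrict]
      exact gs_ne_zero (B := LinearMap.BilinForm.restrict (QuadraticMap.polarBilin Q) (rest (oT c))) (fun x y => pol_apply (x : ι → F) y) (isForm_oT hQ c).2.nd
  obtain ⟨c1, c2, c3⟩ := key c
  obtain ⟨d1, d2, -⟩ := key d
  have hre : gs Q (rest (oT c)) = gs Q (rest (oT d)) := by
    exact (gs_restrict _).symm.trans
      ((gs_map (Q := Q.comp (rest (oT c)).subtype) (Q' := Q.comp (rest (oT d)).subtype) e he).trans (gs_restrict _))
  rw [d2, hre] at c2
  rw [hre] at c3
  have hp := mul_right_cancel₀ c3 c2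
  rw [← hp] at c1
  rcases neg_one_pow_eq_or ℤ (((olab hQ c).map Prod.snd).count true) with h | h <;>
    rcases neg_one_pow_eq_or ℤ (((olab hQ d).map Prod.snd).count true) with h' | h' <;>
    rw [h] at c1 ⊢ <;> rw [h'] at d1 ⊢ <;> omega

include hcard

theorem dat_sum (c : ConjClasses (Cfsg.isometryGroup F ⇑Q)) (b : Bool) :
    (∀ i, n ≤ i → datB (omul hQ c) (bitOf (olab hQ c) b) i = Dat.zero) ∧
    (∑ i ∈ Finset.range n, (datB (omul hQ c) (bitOf (olab hQ c) b) i).weight i) + omul hQ c (.W 1) +
        (∑ i ∈ Finset.range (n + n), (i + 2) * ((olay c (i + 2)).natDegree / 2)) +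
          (olay c 1).natDegree / 2 = n + (datB (omul hQ c) (bitOf (olab hQ c) b) 0).r ∧
    (datB (omul hQ c) (bitOf (olab hQ c) b) 0).r ≤ omul hQ c (.W 1) := by
  obtain ⟨hle, hsum⟩ := odims hQ hcard c
  have hg := good_bits hQ c b
  set f := omul hQ c
  set bt := bitOf (olab hQ c) b
  have hr : (datB f bt 0).r ≤ f (.W 1) := by
    simp only [datB, if_true]
    split_ifs with h
    · exact Nat.one_le_iff_ne_zero.2 (hg _ h.2).2.1
    · exact Nat.zero_le _
  refine ⟨fun i hi => ?_, ?_, hr⟩
  · have h0 : ∀ U : Blk, n < U.wt → f U = 0 ∧ bt U = false := fun U hU => by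
      have hf : f U = 0 := by by_contra h; have := hle U h; omega
      refine ⟨hf, ?_⟩
      rcases hb : bt U with _ | _
      · rfl
      · exact absurd hf (hg U hb).2.1
    obtain ⟨a1, a2⟩ := h0 (.V (i + 1)) (by simp [Blk.wt]; omega)
    obtain ⟨b1, b2⟩ := h0 (.W (i + i + 1)) (by simp [Blk.wt]; omega)
    obtain ⟨c1, -⟩ := h0 (.W (i + i + 2)) (by simp [Blk.wt]; omega)
    rcases eq_or_ne i 0 with rfl | hi0
    · simp [datB, Dat.zero, a1, b2, c1]
    · simp [datB, hi0, Dat.zero, a1, a2, b1, b2, c1]
  · have hw : ∀ i ∈ Finset.range n, (datB f bt i).weight i = (f (.V (i + 1)) * (i + 1) +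
        (if i = 0 then 0 else f (.W (i + i + 1))) * (i + i + 1) + f (.W (i + i + 2)) * (i + i + 2)) +
          if i = 0 then (datB f bt 0).r else 0 := by
      intro i _
      rcases eq_or_ne i 0 with rfl | hi
      · simp only [Dat.weight, datB, if_true]; ring
      · simp only [Dat.weight, datB, if_neg hi, add_zero]
    rw [Finset.sum_congr rfl hw, Finset.sum_add_distrib, Finset.sum_ite_eq']
    simp only [Finset.mem_range]
    split_ifs with h0
    · omega
    · obtain rfl : n = 0 := by omega
      omega

theorem okey_injective : Function.Injective (okey hQ) := by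
  classical
  rintro ⟨c, b⟩ ⟨d, b'⟩ h
  simp only [okey, Prod.mk.injEq] at h
  obtain ⟨⟨hside, hdat⟩, hg, h1⟩ := h
  have hg' : ∀ i, olay c (i + 2) = olay d (i + 2) := congrFun hg
  have hW1 : omul hQ c (.W 1) = omul hQ d (.W 1) := by
    have a := dat_sum hQ hcard c b
    have a' := dat_sum hQ hcard d b'
    have a1 := a.2.1
    simp only [hdat, h1, hg'] at a1
    have := a'.2.1
    omega
  have hf : omul hQ c = omul hQ d := by
    funext U
    cases U with
    | V l =>
      rcases Nat.eq_zero_or_pos l with rfl | hl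
      · rw [omul_V0, omul_V0]
      · have := congrArg (fun f => (f (l - 1)).v) hdat
        simpa [datB_v, show l - 1 + 1 = l by omega] using this
    | W m =>
      rcases Nat.even_or_odd' m with ⟨i, rfl | rfl⟩
      · rcases Nat.eq_zero_or_pos i with rfl | hi
        · have hz : ∀ e, omul hQ e (.W (2 * 0)) = 0 := fun e => by
            by_contra h; exact absurd (wt_pos hQ e _ h) (by simp [Blk.wt])
          rw [hz c, hz d]
        · have := congrArg (fun f => (f (i - 1)).e) hdat
          simpa [datB_e, show i - 1 + (i - 1) + 2 = 2 * i by omega] using this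
      · rcases Nat.eq_zero_or_pos i with rfl | hi
        · exact hW1
        · have := congrArg (fun f => (f i).r) hdat
          simpa [datB, hi.ne', show i + i + 1 = 2 * i + 1 by omega] using this
  have hgd : GoodBits (omul hQ c) (bitOf (olab hQ d) b') := hf ▸ good_bits hQ d b'
  have hbits := bits_eq_of_datB (good_bits hQ c b) hgd (by rw [hdat, hf])
  obtain ⟨hLc, hallc, hc1, -⟩ := (exists_olab hQ c).choose_spec
  obtain ⟨hLd, halld, hd1, -⟩ := (exists_olab hQ d).choose_spec
  have hV : finrank F (rest (oT c)) = finrank F (rest (oT d)) := by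
    have a := has_dim (ouni_part c).uni (ohas_std hLc)
    have b := has_dim (ouni_part d).uni (ohas_std hLd)
    rw [finrank_top] at a b
    have a' := Submodule.finrank_add_eq_of_isCompl (isCompl_parts (T := oT c))
    have b' := Submodule.finrank_add_eq_of_isCompl (isCompl_parts (T := oT d))
    have hp : ((olab hQ c).map Prod.fst).Perm ((olab hQ d).map Prod.fst) := List.perm_iff_count.2 (congrFun hf)
    have he := (hp.map Blk.wt).sum_eq
    rw [List.map_map, List.map_map] at he
    change ((olab hQ c).map fun p => p.1.wt).sum = ((olab hQ d).map fun p => p.1.wt).sum at he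
    unfold olab at he
    omega
  -- the rests are isometric
  have hBc := (isForm_oT hQ c).2
  have hBd := (isForm_oT hQ d).2
  have hne : ∀ c : ConjClasses (Cfsg.isometryGroup F ⇑Q), ∀ x : rest (oT c),
      resT (oT c) rest_inv x = x → x = 0 := fun c x h => rest_no_eigen x (by rw [h, h])
  obtain ⟨e0, he0⟩ := equiv_of_layers (T := resT (oT c) rest_inv) (T' := resT (oT d) rest_inv) hV fun j => by
    rcases j with _ | _ | j
    · rw [layer_zero hBc (isIsom_res (isIsom_oT c) rest_inv), layer_zero hBd (isIsom_res (isIsom_oT d) rest_inv)]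
    · exact h1
    · exact hg' j
  obtain ⟨e2, c2, i2⟩ := similar_of_linear hBc hBd (isIsom_res (isIsom_oT c) rest_inv)
    (isIsom_res (isIsom_oT d) rest_inv) rest_no_eigen e0 he0
  have hQ2 : ∀ x : rest (oT c), Q (e2 x : ι → F) = Q (x : ι → F) := by
    intro x
    set T := resT (oT c) rest_inv with hT
    have hinj : Function.Injective ⇑(T - 1 : rest (oT c) →ₗ[F] rest (oT c)) := (injective_iff_map_eq_zero _).2 fun z hz => hne c z (sub_eq_zero.1 hz)
    obtain ⟨z, rfl⟩ := LinearMap.surjective_of_injective hinj x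
    have hTz : Q ((e2 (T z) : rest (oT d)) : ι → F) = Q ((e2 z : rest (oT d)) : ι → F) := by
      rw [c2]; exact oT_Q d _
    have hTz' : Q ((T z : rest (oT c)) : ι → F) = Q (z : ι → F) := oT_Q c _
    have h2 : ∀ u w : rest (oT c), Q ((e2 (u + w) : rest (oT d)) : ι → F) + Q ((u + w : rest (oT c)) : ι → F) =
        (Q ((e2 u : rest (oT d)) : ι → F) + Q (u : ι → F)) + (Q ((e2 w : rest (oT d)) : ι → F) + Q (w : ι → F)) := by
      intro u w
      rw [map_add, Submodule.coe_add, Submodule.coe_add, pol_apply, pol_apply]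
      have := i2 u w
      change (QuadraticMap.polarBilin Q) ((e2 u : rest (oT d)) : ι → F) ((e2 w : rest (oT d)) : ι → F) =
        (QuadraticMap.polarBilin Q) (u : ι → F) (w : ι → F) at this
      rw [this]
      linear_combination add_self_eq_zero' (F := F) ((QuadraticMap.polarBilin Q) (u : ι → F) (w : ι → F))
    refine eq_of_add_eq_zero' (F := F) ?_
    have h3 := h2 ((T - 1 : rest (oT c) →ₗ[F] rest (oT c)) z) z
    rw [show (T - 1 : rest (oT c) →ₗ[F] rest (oT c)) z + z = T z by simp, hTz, hTz'] at h3
    linear_combination -h3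
  -- the bits
  have hbc : ∀ U, (U, true) ∈ olab hQ c ↔ bitOf (olab hQ c) false U = true := fun U => by simp [bitOf]
  have hex : ∀ U, decide ((U, true) ∈ olab hQ c) =
      if b ≠ b' ∧ HasNode hQ c ∧ U = des (omul hQ c) then !decide ((U, true) ∈ olab hQ d)
      else decide ((U, true) ∈ olab hQ d) := by
    intro U
    have h := hbits U
    unfold bitOf at h
    rw [show (fun X => ((olab hQ d).map Prod.fst).count X) = omul hQ c from hf.symm,
      show (fun X => ((olab hQ c).map Prod.fst).count X) = omul hQ c from rfl] at h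
    change (if b = true ∧ HasNode hQ c ∧ U = des (omul hQ c) then _ else _) =
      (if b' = true ∧ HasNode hQ c ∧ U = des (omul hQ c) then _ else _) at h
    by_cases hU : HasNode hQ c ∧ U = des (omul hQ c)
    · rcases b <;> rcases b' <;> simp [hU] at h ⊢ <;> simp [h]
    · rw [if_neg fun hh => hU hh.2, if_neg fun hh => hU hh.2] at h
      rw [if_neg fun hh => hU hh.2]
      exact h
  have htrue : ∀ U : Blk, (olab hQ c).count (U, true) = if (U, true) ∈ olab hQ c then 1 else 0 := fun U => by
    have a : (olab hQ c).count (U, true) ≤ 1 := hc1 U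
    split_ifs with hm
    · have := List.count_pos_iff.2 hm; omega
    · exact List.count_eq_zero.2 hm
  have htrue' : ∀ U : Blk, (olab hQ d).count (U, true) = if (U, true) ∈ olab hQ d then 1 else 0 := fun U => by
    have a : (olab hQ d).count (U, true) ≤ 1 := hd1 U
    split_ifs with hm
    · have := List.count_pos_iff.2 hm; omega
    · exact List.count_eq_zero.2 hm
  have hcnt : ∀ U : Blk, (olab hQ c).count (U, true) + (olab hQ c).count (U, false) =
      (olab hQ d).count (U, true) + (olab hQ d).count (U, false) := fun U => by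
    rw [← count_fst, ← count_fst]; exact congrFun hf U
  have hperm : b ≠ b' ∧ HasNode hQ c → False := by
    rintro ⟨hb, hnode⟩
    have key : ∀ (A A' : List (Blk × Bool)), (∀ U, A.count (U, true) + A.count (U, false) =
        A'.count (U, true) + A'.count (U, false)) → (∀ U, U ≠ des (omul hQ c) → A.count (U, true) = A'.count (U, true)) →
        A.count (des (omul hQ c), true) = A'.count (des (omul hQ c), true) + 1 →
        (A.map Prod.snd).count true = (A'.map Prod.snd).count true + 1 := by
      intro A A' h0 h1 h2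
      set D := des (omul hQ c)
      have hm : (D, false) ∈ A' := List.count_pos_iff.1 (by have := h0 D; omega)
      have hp : A.Perm ((D, true) :: A'.erase (D, false)) := by
        refine List.perm_iff_count.2 fun p => ?_
        obtain ⟨U, u⟩ := p
        rw [List.count_cons]
        rcases eq_or_ne U D with rfl | hU
        · rcases u with _ | _
          · rw [List.count_erase_self]
            simp only [beq_iff_eq, Prod.mk.injEq, Bool.true_eq_false, and_false, if_false, add_zero]
            have := h0 D; omega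
          · rw [List.count_erase_of_ne (by simp), if_pos (by simp)]; exact h2
        · rw [List.count_erase_of_ne (by simp [hU]), if_neg (by simp [Ne.symm hU]), add_zero]
          rcases u with _ | _
          · have := h0 U; have := h1 U hU; omega
          · exact h1 U hU
      rw [(hp.map Prod.snd).count_eq, ((List.perm_cons_erase hm).map Prod.snd).count_eq]
      simp
    have hoff : ∀ U, U ≠ des (omul hQ c) → (olab hQ c).count (U, true) = (olab hQ d).count (U, true) := fun U hU => by
      have h := hex U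
      rw [if_neg fun hh => hU hh.2.2, decide_eq_decide] at h
      simp only [htrue, htrue', h]
    have hon := hex (des (omul hQ c))
    rw [if_pos ⟨hb, hnode, rfl⟩] at hon
    have hpar := parity_eq hQ e2 hQ2
    rcases hd : decide ((des (omul hQ c), true) ∈ olab hQ d) with _ | _ <;> rw [hd] at hon
    · have h := key _ _ hcnt hoff (by
        rw [htrue, htrue', if_pos (of_decide_eq_true hon), if_neg (of_decide_eq_false hd)])
      rw [h, pow_succ] at hpar
      rcases neg_one_pow_eq_or ℤ (((olab hQ d).map Prod.snd).count true) with h' | h' <;> rw [h'] at hpar <;> omega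
    · have h := key _ _ (fun U => (hcnt U).symm) (fun U hU => (hoff U hU).symm) (by
        rw [htrue, htrue', if_pos (of_decide_eq_true hd), if_neg (of_decide_eq_false hon)])
      rw [h, pow_succ] at hpar
      rcases neg_one_pow_eq_or ℤ (((olab hQ c).map Prod.snd).count true) with h' | h' <;> rw [h'] at hpar <;> omega
  have hbb : b = b' := by
    by_contra hb
    have hn : HasNode hQ c ↔ HasNode hQ d := by unfold HasNode; rw [hf]
    by_cases hnode : HasNode hQ c
    · exact hperm ⟨hb, hnode⟩
    · rw [if_neg hnode, if_neg (mt hn.2 hnode)] at hside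
      exact hb hside
  refine Prod.ext ?_ hbb
  have hperm' : (olab hQ c).Perm (olab hQ d) := by
    refine List.perm_iff_count.2 fun p => ?_
    obtain ⟨U, u⟩ := p
    have h := hex U
    rw [if_neg fun hh => hh.1 hbb, decide_eq_decide] at h
    have := hcnt U
    have hh : (olab hQ c).count (U, true) = (olab hQ d).count (U, true) := by simp only [htrue, htrue', h]
    rcases u with _ | _ <;> omega
  obtain ⟨e1, he1, i1, q1⟩ := (ohas_same (ouni_part c) (ouni_part d)
    (Has.perm (ouni_part c).uni hperm' hLc) hLd).equiv (ouni_part c) (ouni_part d) (isForm_oT hQ c).1.nd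
    (isForm_oT hQ d).1.nd
  have he1' : ∀ x, e1 (resT (oT c) (part_inv 1) x) = resT (oT d) (part_inv 1) (e1 x) := fun x => by
    have h := he1 x
    simp only [LinearMap.sub_apply, Module.End.one_apply, map_sub] at h
    exact sub_left_injective h
  let P := Submodule.prodEquivOfIsCompl _ _ (isCompl_parts (T := oT c))
  let P' := Submodule.prodEquivOfIsCompl _ _ (isCompl_parts (T := oT d))
  let e := (P.symm.trans (e1.prodCongr e2)).trans P'
  have he : ∀ (a : part (oT c) 1) (r : rest (oT c)), e ((a : ι → F) + r) = (e1 a : ι → F) + e2 r := by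
    intro a r
    have : P.symm ((a : ι → F) + r) = (a, r) := (LinearEquiv.symm_apply_eq P).2 rfl
    simp only [e, LinearEquiv.trans_apply, this]
    rfl
  have hsplit : ∀ x : ι → F, ∃ (a : part (oT c) 1) (r : rest (oT c)), x = (a : ι → F) + r := fun x =>
    ⟨(P.symm x).1, (P.symm x).2, (P.apply_symm_apply x).symm⟩
  refine eq_of_equiv e (fun x => ?_) fun x => ?_
  · obtain ⟨a, r, rfl⟩ := hsplit x
    rw [show oT c ((a : ι → F) + r) = ((resT (oT c) (part_inv 1) a : part (oT c) 1) : ι → F) +
      (resT (oT c) rest_inv r : rest (oT c)) from map_add (oT c) _ _, he, he, he1', c2, map_add (oT d)]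
    rfl
  · obtain ⟨a, r, rfl⟩ := hsplit x
    rw [he, pol_apply, pol_apply, hQ2]
    rw [part_orth_rest (isIsom_oT d) (Or.inl rfl) (e1 a).2 (e2 r).2,
      part_orth_rest (isIsom_oT c) (Or.inl rfl) a.2 r.2]
    have h : Q (e1 a : ι → F) = Q (a : ι → F) := q1 a
    rw [h]

/-- The upper bound. -/
theorem card_oclasses_le : Nat.card (ConjClasses (Cfsg.isometryGroup F ⇑Q)) ≤ 15 * Fintype.card F ^ n := by
  classical
  let K : ℕ → ℕ → Finset ((Bool × (ℕ → Dat)) × (ℕ → Polynomial F) × Polynomial F) := fun j R =>
    (({false} : Finset Bool) ×ˢ (olabs n j false ∪ olabs n j true) ∪ ({true} : Finset Bool) ×ˢ elabs n j) ×ˢ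
      (rests (lays F) 1 (n + n) R ×ˢ (Finset.range (n - j - R + 1)).biUnion (lays F))
  let Tot := (Finset.range (n + 1)).biUnion fun j => (Finset.range (n + 1 - j)).biUnion (K j)
  have hdim : finrank F (ι → F) = n + n := by rw [finrank_fintype_fun_eq_card, hcard]
  have hmem : ∀ x : ConjClasses (Cfsg.isometryGroup F ⇑Q) × Bool, okey hQ x ∈ Tot := by
    rintro ⟨c, b⟩
    obtain ⟨hz, hw, hr⟩ := dat_sum hQ hcard c b
    obtain ⟨-, -, -, hv⟩ := (exists_olab hQ c).choose_spec
    refine Finset.mem_biUnion.2 ⟨∑ i ∈ Finset.range n, (datB (omul hQ c) (bitOf (olab hQ c) b) i).weight i,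
      Finset.mem_range.2 (by omega), Finset.mem_biUnion.2
      ⟨∑ i ∈ Finset.range (n + n), (i + 2) * ((olay c (i + 2)).natDegree / 2), Finset.mem_range.2 (by omega),
        Finset.mem_product.2 ⟨?_, Finset.mem_product.2 ⟨?_, ?_⟩⟩⟩⟩
    · have hl := mem_olabs n (datB (omul hQ c) (bitOf (olab hQ c) b)) hz
        fun i _ => datB_ok hv (good_bits hQ c b) i
      have hl' : datB (omul hQ c) (bitOf (olab hQ c) b) ∈
          olabs n (∑ i ∈ Finset.range n, (datB (omul hQ c) (bitOf (olab hQ c) b) i).weight i) false ∪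
          olabs n (∑ i ∈ Finset.range n, (datB (omul hQ c) (bitOf (olab hQ c) b) i).weight i) true := by
        rcases hf : flag n (datB (omul hQ c) (bitOf (olab hQ c) b)) with _ | _
        · rw [hf] at hl; exact Finset.mem_union_left _ hl
        · rw [hf] at hl; exact Finset.mem_union_right _ hl
      simp only [okey]
      by_cases hn : HasNode hQ c
      · rw [if_pos hn]
        exact Finset.mem_union_left _ (Finset.mem_product.2 ⟨Finset.mem_singleton.2 rfl, hl'⟩)
      · rw [if_neg hn]
        rcases b with _ | _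
        · exact Finset.mem_union_left _ (Finset.mem_product.2 ⟨Finset.mem_singleton.2 rfl, hl'⟩)
        · refine Finset.mem_union_right _ (Finset.mem_product.2 ⟨Finset.mem_singleton.2 rfl,
            mem_elabs n _ hz fun i => ?_⟩)
          have hb : ∀ U, bitOf (olab hQ c) true U = false := fun U => by
            rcases hb : bitOf (olab hQ c) true U with _ | _
            · rfl
            · exact absurd ⟨U, good_bits hQ c true U hb⟩ hn
          have a := no_node hQ hn (U := .V (i + 1)) (Nat.le_add_left 1 i)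
          have a' := no_node hQ hn (U := .W (i + i + 1)) ⟨i, rfl⟩
          rcases eq_or_ne i 0 with rfl | hi
          · simp [datB, hb, a]
          · simp [datB, hi, hb, a, a']
    · refine mem_rests (lays F) 1 (fun f => f.natDegree / 2) (n + n) (fun i => olay c (i + 2)) (fun i hi => ?_)
        fun i _ => mem_lays (isLay_olay hQ c _)
      refine layer_of_lt ?_
      have := Submodule.finrank_le (rest (oT c))
      rw [hdim] at this
      omega
    · exact Finset.mem_biUnion.2 ⟨(olay c 1).natDegree / 2, Finset.mem_range.2 (by omega),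
        mem_lays (isLay_olay hQ c 1)⟩
  have hle : Nat.card (ConjClasses (Cfsg.isometryGroup F ⇑Q)) * 2 ≤ Tot.card := by
    rw [← Nat.card_eq_finsetCard Tot, show 2 = Nat.card Bool by simp, ← Nat.card_prod]
    exact Nat.card_le_card_of_injective (fun x => (⟨okey hQ x, hmem x⟩ : Tot))
      fun x y h => okey_injective hQ hcard (congrArg Subtype.val h)
  have hT : Tot.card ≤ 30 * Fintype.card F ^ n := by
    refine le_trans ?_ (ototal_le (q := Fintype.card F) Fintype.one_lt_card n n (n + n))
    refine Finset.card_biUnion_le.trans (Finset.sum_le_sum fun j _ => Finset.card_biUnion_le.trans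
      (Finset.sum_le_sum fun R _ => ?_))
    rw [Finset.card_product, Finset.card_product]
    refine Nat.mul_le_mul ((Finset.card_union_le _ _).trans (Nat.add_le_add ?_ ?_))
      (Nat.mul_le_mul (card_rests card_lays _ _)
        (Finset.card_biUnion_le.trans (Finset.sum_le_sum fun e _ => card_lays e)))
    · rw [Finset.card_product, Finset.card_singleton, one_mul]
      exact (Finset.card_union_le _ _).trans (Nat.add_le_add (card_olabs n j false) (card_olabs n j true))
    · rw [Finset.card_product, Finset.card_singleton, one_mul]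
      exact card_elabs n j
  omega

end Orth

end CfsgLib.SpEven
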