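import Cfsg.Agent.SpEven.OInv
import Cfsg.Agent.Geo.OSemisimple
import Cfsg.Agent.Geo.SpSemiClasses
import Cfsg.Agent.GLClass.SymplecticClasses
import Cfsg.Agent.Geo.FormClasses.OrthLower

/-!
# Classes of orthogonal groups of even dimension, `q` even: the lower bound

A self-dual polynomial with root `1` is a characteristic polynomial for both types, one without for the type
`sgn (aInv f)`.
-/

set_option autoImplicit false
set_option linter.unusedSectionVars false
set_option linter.style.haveILetI false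

namespace CfsgLib.SpEven

open Matrix Polynomial CfsgLib.Geo.USemi CfsgLib.Geo.OCounts
open CfsgLib.Geo.OSemi (IsQuad RealQ RealE)
open CfsgLib.Geo.FormClasses (SDP finite_sdp sdp_sym)

/-- The matrix form. -/
local notation "qM" => CfsgLib.Geo.OSemi.qf

variable {K : Type*} [Field K] [Fintype K] [CharP K 2]

/-- The Gauss sum of a matrix form. -/
noncomputable def gsum {n : ℕ} (M : Matrix (Fin n) (Fin n) K) : ℤ := ∑ v : Fin n → K, sgn (qM M v)

theorem sum_sgn : ∑ c : K, sgn c = (0 : ℤ) := by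
  have h1 := Equiv.sum_comp (Equiv.addRight (eps K)) fun a => sgn a
  simp only [Equiv.coe_addRight, sgn_add, sgn_eps, mul_neg, mul_one, Finset.sum_neg_distrib] at h1
  omega

theorem sgn_eq_one_or (a : K) : sgn a = 1 ∨ sgn a = -1 := by
  classical
  rw [sgn]
  split_ifs
  · exact Or.inl rfl
  · exact Or.inr rfl

/-- The sum of a form of type `ε`. -/
theorem sum_of_etype {V : Type*} [Fintype V] {Q : V → K} {k : ℕ} {ε : ℤ} (h : EType Q k ε) :
    ∑ v, sgn (Q v) = ε * (Nat.card K : ℤ) ^ k := by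
  classical
  have hq : (Nat.card K : ℤ) ≠ 0 := by exact_mod_cast Nat.card_pos.ne'
  have hfib : ∑ v, sgn (Q v) = ∑ c : K, sgn c * (Nat.card {v // Q v = c} : ℤ) := by
    rw [← Finset.sum_fiberwise Finset.univ Q]
    refine Finset.sum_congr rfl fun c _ => ?_
    rw [Finset.sum_congr rfl fun v hv => by rw [(Finset.mem_filter.1 hv).2], Finset.sum_const, nsmul_eq_mul,
      mul_comm, Nat.card_eq_fintype_card, Fintype.card_subtype]
  refine mul_left_cancel₀ hq ?_
  rw [hfib, Finset.mul_sum]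
  have e : ∀ c : K, (Nat.card K : ℤ) * (sgn c * (Nat.card {v // Q v = c} : ℤ)) =
      sgn c * ((Nat.card K : ℤ) ^ (2 * k) - ε * (Nat.card K : ℤ) ^ k) +
        if c = 0 then ε * (Nat.card K : ℤ) ^ (k + 1) else 0 := fun c => by
    rw [mul_left_comm]
    split_ifs with hc
    · rw [hc, h.2, sgn_zero]; ring
    · rw [h.1 c hc, add_zero]
  rw [Finset.sum_congr rfl fun c _ => e c, Finset.sum_add_distrib, ← Finset.sum_mul, sum_sgn, zero_mul, zero_add,
    Finset.sum_ite_eq', if_pos (Finset.mem_univ _), pow_succ]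
  ring

theorem gsum_blk {n m : ℕ} (M : Matrix (Fin n) (Fin n) K) (T : Matrix (Fin m) (Fin m) K) :
    gsum (CfsgLib.Geo.OSemi.blk M T) = gsum M * gsum T := by
  rw [gsum, gsum, gsum, Finset.sum_mul_sum, ← Fintype.sum_prod_type']
  refine Fintype.sum_equiv
    ((Equiv.arrowCongr finSumFinEquiv.symm (Equiv.refl K)).trans (Equiv.sumArrowEquivProdArrow _ _ K)) _ _ fun v => ?_
  rw [CfsgLib.Geo.OSemi.qf_blk, sgn_add]
  rfl

/-- A semisimple element with this polynomial fixes a form of sign `sgn (aInv f)`. -/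
def RealS (f : K[X]) : Prop :=
  ∃ (n : ℕ) (g : GL (Fin n) K) (M : Matrix (Fin n) (Fin n) K),
    (orderOf g).Coprime 2 ∧ g.val.charpoly = f ∧ IsQuad g M ∧ 0 < sgn (aInv f) * gsum M

theorem RealS.realQ {f : K[X]} (h : RealS f) : RealQ 2 f := by
  obtain ⟨n, g, M, h1, h2, h3, -⟩ := h
  exact ⟨n, g, M, h1, h2, h3⟩

theorem realS_one : RealS (1 : K[X]) := by
  refine ⟨0, 1, 0, by rw [orderOf_one]; exact Nat.coprime_one_left 2, by simp,
    ⟨Subsingleton.elim _ _, isUnit_of_subsingleton _⟩, ?_⟩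
  have h : gsum (0 : Matrix (Fin 0) (Fin 0) K) = 1 := by
    rw [gsum, Fintype.sum_unique, show (default : Fin 0 → K) = 0 from Subsingleton.elim _ _, QuadraticMap.map_zero,
      sgn_zero]
  rw [h, aInv, u, natDegree_one, hs_sum (d := 0) (by simp)]
  simp [sgn_zero]

theorem RealS.mul {f h : K[X]} (hf : RealS f) (hh : RealS h) (sf : IsSD f) (sh : IsSD h) (ef : Even f.natDegree)
    (eh : Even h.natDegree) : RealS (f * h) := by
  obtain ⟨n, g, M, hgo, hgc, hgq, hgs⟩ := hf
  obtain ⟨m, k, T, hko, hkc, hkq, hks⟩ := hh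
  refine ⟨n + m, emb (g, k), CfsgLib.Geo.OSemi.blk M T, coprime_emb 2 hgo hko, by rw [charpoly_emb, hgc, hkc],
    hgq.mul hkq, ?_⟩
  rw [aInv_mul sf sh ef eh, sgn_add, gsum_blk]
  have := mul_pos hgs hks
  linarith

theorem gsum_hyp (d : ℕ) :
    0 < gsum (Matrix.reindex finSumFinEquiv finSumFinEquiv
      (Matrix.fromBlocks (0 : Matrix (Fin d) (Fin d) K) (1 : Matrix (Fin d) (Fin d) K) 0 0)) := by
  classical
  have hq : ∀ v : Fin (d + d) → K, qM (Matrix.reindex finSumFinEquiv finSumFinEquiv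
      (Matrix.fromBlocks (0 : Matrix (Fin d) (Fin d) K) (1 : Matrix (Fin d) (Fin d) K) 0 0)) v =
      (fun i => v (finSumFinEquiv (Sum.inl i))) ⬝ᵥ fun i => v (finSumFinEquiv (Sum.inr i)) := by
    intro v
    rw [CfsgLib.Geo.OSemi.qf_apply]
    simp only [dotProduct, Matrix.mulVec, Matrix.reindex_apply, Matrix.submatrix_apply]
    rw [← Equiv.sum_comp finSumFinEquiv, Fintype.sum_sum_type]
    have e : ∀ i : Fin d ⊕ Fin d, (∑ j : Fin (d + d), (Matrix.fromBlocks (0 : Matrix (Fin d) (Fin d) K) (1 : Matrix (Fin d) (Fin d) K) 0 0)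
        (finSumFinEquiv.symm (finSumFinEquiv i)) (finSumFinEquiv.symm j) * v j) =
        Sum.elim (fun i => v (finSumFinEquiv (Sum.inr i))) 0 i := by
      intro i
      rw [← Equiv.sum_comp finSumFinEquiv, Fintype.sum_sum_type]
      simp only [Equiv.symm_apply_apply]
      rcases i with i | i <;> simp [Matrix.one_apply]
    simp only [e]
    simp
  rw [gsum, Fintype.sum_equiv
    ((Equiv.arrowCongr finSumFinEquiv.symm (Equiv.refl K)).trans (Equiv.sumArrowEquivProdArrow _ _ K))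
    _ (fun p : (Fin d → K) × (Fin d → K) => sgn (p.1 ⬝ᵥ p.2)) fun v => by rw [hq]; rfl, Fintype.sum_prod_type]
  have hinner : ∀ x : Fin d → K, ∑ y : Fin d → K, sgn (x ⬝ᵥ y) =
      if x = 0 then (Fintype.card (Fin d → K) : ℤ) else 0 := by
    intro x
    split_ifs with hx
    · simp [hx, sgn_zero]
    · obtain ⟨i, hi⟩ := Function.ne_iff.1 hx
      have h1 := Equiv.sum_comp (Equiv.addRight (Pi.single i (eps K / x i) : Fin d → K)) fun y => sgn (x ⬝ᵥ y)
      simp only [Equiv.coe_addRight, dotProduct_add, dotProduct_single, mul_div_cancel₀ _ hi, sgn_add, sgn_eps,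
        mul_neg, mul_one, Finset.sum_neg_distrib] at h1
      omega
  rw [Finset.sum_congr rfl fun x _ => hinner x, Finset.sum_ite_eq', if_pos (Finset.mem_univ _)]
  exact_mod_cast Fintype.card_pos

theorem realS_pair {f : K[X]} (hm : f.Monic) (h0 : f.coeff 0 ≠ 0) (h1 : f.eval 1 ≠ 0) :
    RealS (f * dual (RingHom.id K) f) := by
  obtain ⟨A, hA, hAc⟩ := CfsgLib.GLClass.exists_regular_charpoly 2
    (⟨f, hm, rfl, h0⟩ : CfsgLib.GLClass.GoodPoly K f.natDegree)
  have hstar : (star' (RingHom.id K) A).val = (A⁻¹).valᵀ := by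
    show CfsgLib.Unitary.adj _ _ = _
    rfl
  refine ⟨_, emb (A, star' (RingHom.id K) A),
    Matrix.reindex finSumFinEquiv finSumFinEquiv (Matrix.fromBlocks 0 1 0 0),
    coprime_emb 2 hA (hA.coprime_dvd_left (orderOf_map_dvd _ _)),
    by rw [charpoly_emb, charpoly_star', hAc], ⟨?_, ?_⟩, ?_⟩
  · rw [emb_val]
    simp only [Matrix.reindex_apply, Matrix.transpose_submatrix, Matrix.submatrix_mul_equiv,
      Matrix.fromBlocks_transpose, Matrix.fromBlocks_multiply, Matrix.transpose_zero, Matrix.mul_zero, Matrix.zero_mul,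
      add_zero, zero_add, mul_one, hstar]
    rw [← Matrix.transpose_mul, Units.inv_mul, Matrix.transpose_one]
  · refine IsUnit.of_mul_eq_one (Matrix.reindex finSumFinEquiv finSumFinEquiv (Matrix.fromBlocks 0 1 1 0)) ?_
    rw [Matrix.transpose_reindex, Matrix.fromBlocks_transpose]
    simp only [Matrix.reindex_apply, Matrix.transpose_zero, Matrix.transpose_one]
    rw [show ((Matrix.fromBlocks (0 : Matrix (Fin f.natDegree) (Fin f.natDegree) K) 1 0 0).submatrix
        finSumFinEquiv.symm finSumFinEquiv.symm + (Matrix.fromBlocks 0 0 1 0).submatrix finSumFinEquiv.symm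
        finSumFinEquiv.symm) = (Matrix.fromBlocks (0 : Matrix (Fin f.natDegree) (Fin f.natDegree) K) 1 0 0 +
        Matrix.fromBlocks 0 0 1 0).submatrix
        finSumFinEquiv.symm finSumFinEquiv.symm from rfl]
    simp [Matrix.fromBlocks_add, Matrix.submatrix_mul_equiv, Matrix.fromBlocks_multiply]
  · rw [sgn_aInv_pair hm h0 h1, one_mul]
    exact gsum_hyp _

/-- An irreducible isometry fixes only forms of minus type. -/
theorem realS_irreducible {P : K[X]} (hP : Irreducible P) (hS : IsSD P) : RealS P := by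
  classical
  obtain ⟨⟨d, hd⟩, hsgn⟩ := irreducible_props hP hS
  have hdpos : 0 < d := by have := hP.natDegree_pos; omega
  obtain ⟨n, g, M, hgo, hgc, hgq⟩ := CfsgLib.Geo.OSemi.realQ_irreducible 2 hS.monic hP hS.zero hS.dual (fun h => by
    rw [show (X : K[X]) ^ 2 - 1 = (X - C 1) * (X + C 1) by rw [C_1]; ring] at h
    rcases hP.prime.dvd_or_dvd h with h | h
    · have e := eq_of_monic_of_associated hS.monic (monic_X_sub_C 1) (hP.associated_of_dvd (irreducible_X_sub_C 1) h)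
      exact hS.one (by rw [e]; simp)
    · have e := eq_of_monic_of_associated hS.monic (monic_X_add_C 1)
        (hP.associated_of_dvd (by rw [← CharTwo.sub_eq_add]; exact irreducible_X_sub_C 1) h)
      refine hS.one ?_
      rw [e, eval_add, eval_X, eval_C]
      exact add_self_eq_zero' (F := K) _)
  have hn : n = d + d := by
    rw [← hd, ← hgc, Matrix.charpoly_natDegree_eq_dim, Fintype.card_fin]
  obtain ⟨ε, hε, hE⟩ := exists_etype (CfsgLib.Geo.OSemi.qf_nondeg hgq.2) (k := d)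
    (by rw [Module.finrank_fin_fun, hn, two_mul])
  suffices hm : ε = -1 by
    refine ⟨n, g, M, hgo, hgc, hgq, ?_⟩
    rw [hsgn, gsum, sum_of_etype hE, hm]
    have : (0 : ℤ) < (Nat.card K : ℤ) ^ d := pow_pos (by exact_mod_cast Nat.card_pos) _
    linarith
  refine hε.resolve_left fun he => ?_
  subst he
  have hA : aeval g.val P = 0 := hgc ▸ Matrix.aeval_self_charpoly g.val
  let S : Subgroup (GL (Fin n) K) :=
    { carrier := {h | ∀ v, qM M (h.val *ᵥ v) = qM M v}
      one_mem' := fun v => by simp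
      mul_mem' := fun {a b} ha hb v => by rw [Units.val_mul, ← Matrix.mulVec_mulVec, ha, hb]
      inv_mem' := fun {a} ha v => by
        conv_rhs => rw [← Matrix.one_mulVec v, ← Units.mul_inv a, ← Matrix.mulVec_mulVec, ha] }
  have hle : Subgroup.zpowers g ≤ S := Subgroup.zpowers_le.2 fun v => hgq.map_qf v
  let X' := {v : Fin n → K // qM M v = 1}
  letI : MulAction (Subgroup.zpowers g) X' :=
    { smul := fun h v => ⟨(h.1 : GL (Fin n) K).val *ᵥ v.1, (hle h.2 v.1).trans v.2⟩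
      one_smul := fun v => Subtype.ext (Matrix.one_mulVec _)
      mul_smul := fun a b v => Subtype.ext (by
        show ((a.1 * b.1 : GL (Fin n) K)).val *ᵥ v.1 = (a.1 : GL (Fin n) K).val *ᵥ ((b.1 : GL (Fin n) K).val *ᵥ v.1)
        rw [Units.val_mul, Matrix.mulVec_mulVec]) }
  have hfree : ∀ v : X', MulAction.stabilizer (Subgroup.zpowers g) v = ⊥ := by
    intro v
    rw [Subgroup.eq_bot_iff_forall]
    intro h hh
    have hv : (h.1 : GL (Fin n) K).val *ᵥ v.1 = v.1 := congrArg Subtype.val hh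
    have hv0 : v.1 ≠ 0 := fun h0 => by
      have := v.2; rw [h0, QuadraticMap.map_zero] at this; exact zero_ne_one this
    obtain ⟨k, hk⟩ := Subgroup.mem_zpowers_iff.1 h.2
    have hc : (h.1 : GL (Fin n) K).val * g.val = g.val * (h.1 : GL (Fin n) K).val := by
      rw [← Units.val_mul, ← Units.val_mul, ← hk, ((Commute.refl g).zpow_left k).eq]
    have htop : LinearMap.ker ((h.1 : GL (Fin n) K).val - 1).mulVecLin = ⊤ := by
      refine CfsgLib.Geo.SpSemi.invariant_eq_top hP (by rw [hd, hn]) hA (fun w hw => ?_)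
        (LinearMap.mem_ker.2 (by rw [Matrix.mulVecLin_apply, Matrix.sub_mulVec, hv, Matrix.one_mulVec, sub_self]))
        hv0
      rw [LinearMap.mem_ker, Matrix.mulVecLin_apply, Matrix.sub_mulVec, Matrix.one_mulVec, sub_eq_zero] at hw ⊢
      rw [Matrix.mulVec_mulVec, hc, ← Matrix.mulVec_mulVec, hw]
    refine Subtype.ext (Units.ext (Matrix.ext_of_mulVec_single fun i => ?_))
    have := LinearMap.mem_ker.1 (htop ▸ Submodule.mem_top : Pi.single i (1 : K) ∈ _)
    rwa [Matrix.mulVecLin_apply, Matrix.sub_mulVec, sub_eq_zero] at this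
  have hdvd : orderOf g ∣ Nat.card X' := by
    rw [Nat.card_congr (MulAction.selfEquivOrbitsQuotientProd hfree), Nat.card_prod, Nat.card_zpowers]
    exact dvd_mul_left _ _
  have h1 := hE.1 1 one_ne_zero
  have hN : Nat.card K * Nat.card X' = Nat.card K ^ d * (Nat.card K ^ d - 1) := by
    have hq1 : 1 ≤ Nat.card K ^ d := Nat.one_le_pow _ _ Nat.card_pos
    zify [hq1]
    rw [h1, two_mul, pow_add]
    ring
  have hcop : (orderOf g).Coprime (Nat.card K ^ d) := by
    obtain ⟨m, -, hm⟩ := FiniteField.card K 2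
    rw [Nat.card_eq_fintype_card, hm, ← pow_mul]
    exact hgo.pow_right _
  have hpow : g ^ (Nat.card K ^ d - 1) = 1 :=
    orderOf_dvd_iff_pow_eq_one.1 (hcop.dvd_of_dvd_mul_left (hN ▸ hdvd.mul_left _))
  have hz : aeval g.val ((X : K[X]) ^ Nat.card K ^ d - X) = 0 := by
    rw [map_sub, map_pow, aeval_X, ← Units.val_pow_eq_pow_val, sub_eq_zero]
    congr 1
    rw [← Nat.sub_add_cancel (Nat.one_le_pow d (Nat.card K) Nat.card_pos), pow_succ, hpow, one_mul]
  have hPd : P ∣ (X : K[X]) ^ Nat.card K ^ d - X := by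
    by_contra hdv
    obtain ⟨a, b, hab⟩ := (hP.coprime_iff_not_dvd).2 hdv
    have h4 := congrArg (aeval g.val) hab
    rw [map_add, map_mul, map_mul, hA, hz, mul_zero, mul_zero, add_zero, map_one] at h4
    haveI : Nonempty (Fin n) := ⟨⟨0, by omega⟩⟩
    exact zero_ne_one h4
  have := Nat.le_of_dvd hdpos (hP.natDegree_dvd_of_dvd_X_pow_card_pow_sub_X hPd)
  omega

theorem isSD_one : IsSD (1 : K[X]) :=
  ⟨monic_one, by simp, by rw [dual, coeff_one_zero, map_one, inv_one, map_one, one_mul, Polynomial.map_one, ← C_1,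
    reverse_C], by simp⟩

theorem realS_of_sd : ∀ d : ℕ, ∀ f : K[X], f.natDegree = d → IsSD f → Even d ∧ RealS f := by
  intro d
  induction d using Nat.strong_induction_on with
  | _ d ih =>
  intro f hfd hf
  by_cases hd : f.natDegree = 0
  · rw [hf.monic.natDegree_eq_zero.1 hd]
    exact ⟨by rw [← hfd, hd]; exact Even.zero, realS_one⟩
  obtain ⟨P, hPm, hPi, hPf⟩ := Polynomial.exists_monic_irreducible_factor f
    (not_isUnit_of_natDegree_pos f (Nat.pos_of_ne_zero hd))
  have hP0 : P.coeff 0 ≠ 0 := CfsgLib.GLClass.coeff_zero_ne_of_dvd hPf hf.zero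
  have hP1 : P.eval 1 ≠ 0 := fun h => hf.one (eval_eq_zero_of_dvd_of_eval_eq_zero hPf h)
  obtain ⟨B, hB, hBr, hBf, hBp, hBe⟩ : ∃ B : K[X], IsSD B ∧ RealS B ∧ B ∣ f ∧ 0 < B.natDegree ∧
      Even B.natDegree := by
    by_cases hPd : dual (RingHom.id K) P = P
    · exact ⟨P, ⟨hPm, hP0, hPd, hP1⟩, realS_irreducible hPi ⟨hPm, hP0, hPd, hP1⟩, hPf, hPi.natDegree_pos,
        (irreducible_props hPi ⟨hPm, hP0, hPd, hP1⟩).1⟩
    · have hQf : dual (RingHom.id K) P ∣ f := by
        obtain ⟨R', hR'⟩ := hPf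
        exact ⟨dual (RingHom.id K) R', by rw [← dual_mul, ← hR', hf.dual]⟩
      have hdvd : P * dual (RingHom.id K) P ∣ f := by
        refine IsCoprime.mul_dvd (hPi.coprime_iff_not_dvd.2 fun h => hPd ?_) hPf hQf
        exact eq_of_monic_of_dvd_of_natDegree_le hPm (monic_dual _ hP0) h (natDegree_dual _ hP0).le
      have hdeg : (P * dual (RingHom.id K) P).natDegree = P.natDegree + P.natDegree := by
        rw [hPm.natDegree_mul (monic_dual _ hP0), natDegree_dual _ hP0]
      refine ⟨_, ⟨hPm.mul (monic_dual _ hP0), CfsgLib.GLClass.coeff_zero_ne_of_dvd hdvd hf.zero,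
        by rw [dual_mul, dual_dual _ (fun a => rfl) hPm hP0, mul_comm],
        fun h => hf.one (eval_eq_zero_of_dvd_of_eval_eq_zero hdvd h)⟩, realS_pair hPm hP0 hP1, hdvd,
        by rw [hdeg]; have := hPi.natDegree_pos; omega, ⟨_, hdeg⟩⟩
  obtain ⟨h, rfl⟩ := hBf
  have hhm : h.Monic := hB.monic.of_mul_monic_left hf.monic
  have hdd := hB.monic.natDegree_mul hhm
  have hh : IsSD h := by
    refine ⟨hhm, CfsgLib.GLClass.coeff_zero_ne_of_dvd (dvd_mul_left h B) hf.zero, ?_,
      fun h1 => hf.one (by rw [eval_mul, h1, mul_zero])⟩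
    have h2 := hf.dual
    rw [dual_mul, hB.dual] at h2
    exact mul_left_cancel₀ hB.monic.ne_zero h2
  obtain ⟨he, hr⟩ := ih h.natDegree (by omega) h rfl hh
  exact ⟨by rw [← hfd, hdd]; exact hBe.add he, hBr.mul hr hB hh hBe he⟩

theorem isSD_of {f : K[X]} (hm : f.Monic) (h0 : f.coeff 0 = 1) (hd : dual (RingHom.id K) f = f) (h1 : f.eval 1 ≠ 0) :
    IsSD f := ⟨hm, by rw [h0]; exact one_ne_zero, hd, h1⟩

/-- Dividing out a double root `1`. -/
theorem exists_double_one {d : ℕ} {f : K[X]} (hm : f.Monic) (hd : f.natDegree = d) (hev : Even d)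
    (h0 : f.coeff 0 = 1) (hdual : dual (RingHom.id K) f = f) (hroot : f.eval 1 = 0) :
    ∃ h : K[X], h.Monic ∧ f = (X - C 1) ^ 2 * h ∧ h.natDegree + 2 = d ∧ h.coeff 0 = 1 ∧
      dual (RingHom.id K) h = h := by
  have step : ∀ f : K[X], f.Monic → f.coeff 0 = 1 → dual (RingHom.id K) f = f → f.eval 1 = 0 →
      ∃ g : K[X], g.Monic ∧ f = (X - C 1) * g ∧ g.natDegree + 1 = f.natDegree ∧ g.coeff 0 = 1 ∧
        dual (RingHom.id K) g = g := by
    intro f hm h0 hdual hroot
    obtain ⟨g, rfl⟩ := dvd_iff_isRoot.2 hroot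
    have hgm : g.Monic := (monic_X_sub_C 1).of_mul_monic_left hm
    refine ⟨g, hgm, rfl, ?_, ?_, ?_⟩
    · rw [(monic_X_sub_C 1).natDegree_mul hgm, natDegree_X_sub_C, add_comm]
    · rw [mul_coeff_zero, coeff_sub, coeff_X_zero, coeff_C_zero, CharTwo.sub_eq_add, zero_add, one_mul] at h0
      exact h0
    · rw [dual_mul, CfsgLib.GLClass.Symp.dual_X_sub_C (one_mul 1)] at hdual
      exact mul_left_cancel₀ (monic_X_sub_C 1).ne_zero hdual
  obtain ⟨g, hgm, hfg, hgd, hg0, hgdual⟩ := step f hm h0 hdual hroot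
  have hgroot : g.eval 1 = 0 := by
    by_contra h
    have := (realS_of_sd _ g rfl (isSD_of hgm hg0 hgdual h)).1
    obtain ⟨a, ha⟩ := this
    obtain ⟨b, hb⟩ := hev
    omega
  obtain ⟨h, hhm, hgh, hhd, hh0, hhdual⟩ := step g hgm hg0 hgdual hgroot
  exact ⟨h, hhm, by rw [hfg, hgh]; ring, by omega, hh0, hhdual⟩

theorem realQ_of_dual_two : ∀ d : ℕ, ∀ f : K[X], f.natDegree = d → f.Monic → f.coeff 0 = 1 →
    dual (RingHom.id K) f = f → Even d → RealQ 2 f := by
  intro d
  induction d using Nat.strong_induction_on with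
  | _ d ih =>
  intro f hfd hfm hf0 hfdual hev
  by_cases hroot : f.eval 1 = 0
  · obtain ⟨h, hhm, hfh, hhd, hh0, hhdual⟩ := exists_double_one hfm hfd hev hf0 hfdual hroot
    have hp := CfsgLib.Geo.OSemi.realQ_pair 2 (monic_X_sub_C (1 : K)) (by simp)
    rw [CfsgLib.GLClass.Symp.dual_X_sub_C (one_mul 1), ← sq] at hp
    rw [hfh]
    exact hp.mul 2 (ih h.natDegree (by omega) h rfl hhm hh0 hhdual
      (by rw [← hhd, Nat.even_add] at hev; exact hev.2 even_two))
  · exact (realS_of_sd d f hfd (isSD_of hfm hf0 hfdual hroot)).2.realQ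

theorem realE_of_root_two {n : ℕ} (f : SDP K n) (hroot : f.1.eval 1 = 0) {ε : ℤ} (hε : ε = 1 ∨ ε = -1) :
    RealE 2 f.1 n ε := by
  obtain ⟨h, hhm, hfh, hhd, hh0, hhdual⟩ :=
    exists_double_one f.2.1 f.2.2.1 ⟨n, rfl⟩ f.2.2.2.1 f.2.2.2.2 hroot
  obtain ⟨m, rfl⟩ : ∃ m, n = m + 1 := ⟨n - 1, by omega⟩
  obtain ⟨N, g, M, hgo, hgc, hgq⟩ := realQ_of_dual_two (m + m) h (by omega) hhm hh0 hhdual ⟨m, rfl⟩
  have hN : N = 2 * m := by
    have := hhd
    rw [← hgc, Matrix.charpoly_natDegree_eq_dim, Fintype.card_fin] at this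
    omega
  obtain ⟨δ, hδ, hE⟩ := exists_etype (CfsgLib.Geo.OSemi.qf_nondeg hgq.2) (k := m)
    (by rw [Module.finrank_fin_fun, hN])
  have := CfsgLib.Geo.OSemi.realE_padded 2 (⟨N, g, M, hN, hgo, hgc, hgq, hE⟩ : RealE 2 h m δ) 1 ε (by
    rcases hε with rfl | rfl <;> rcases hδ with rfl | rfl <;> simp)
  rw [mul_one] at this
  rwa [hfh, mul_comm]

theorem realE_of_sgn {n : ℕ} (f : SDP K n) (hne : f.1.eval 1 ≠ 0) {ε : ℤ} (hch : sgn (aInv f.1) = ε) :
    RealE 2 f.1 n ε := by
  obtain ⟨N, g, M, hgo, hgc, hgq, hgs⟩ :=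
    (realS_of_sd _ f.1 f.2.2.1 (isSD_of f.2.1 f.2.2.2.1 f.2.2.2.2 hne)).2
  have hN : N = 2 * n := by
    have := f.2.2.1
    rw [← hgc, Matrix.charpoly_natDegree_eq_dim, Fintype.card_fin] at this
    omega
  obtain ⟨δ, hδ, hE⟩ := exists_etype (CfsgLib.Geo.OSemi.qf_nondeg hgq.2) (k := n) (by rw [Module.finrank_fin_fun, hN])
  suffices h : δ = ε from h ▸ ⟨N, g, M, hN, hgo, hgc, hgq, hE⟩
  rw [hch, gsum, sum_of_etype hE] at hgs
  have : (0 : ℤ) < (Nat.card K : ℤ) ^ n := pow_pos (by exact_mod_cast Nat.card_pos) _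
  rcases sgn_eq_one_or (aInv f.1) with h | h <;> rw [hch] at h <;> rcases hδ with rfl | rfl <;> subst h <;>
    first | rfl | (exfalso; linarith)

/-! ## Counting -/

/-- Vanishes at `1`, with second Taylor coefficient `1`. -/
noncomputable def bump2 (K : Type*) [Field K] (n : ℕ) : K[X] := X ^ (n + 1) + X ^ (n - 1)

theorem bump2_props {n : ℕ} (hn : 1 ≤ n) : (bump2 K n).eval 1 = 0 ∧ hs 2 (bump2 K n) = 1 := by
  refine ⟨by simp only [bump2, eval_add, eval_pow, eval_X, one_pow]; exact add_self_eq_zero' (F := K) _, ?_⟩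
  obtain ⟨m, rfl⟩ : ∃ m, n = m + 1 := ⟨n - 1, by omega⟩
  have h : ∀ k : ℕ, hs 2 ((X : K[X]) ^ k) = (k.choose 2 : K) := fun k => by
    rw [hs, ← monomial_one_right_eq_X_pow, hasseDeriv_monomial, eval_monomial, one_pow, mul_one, mul_one]
  rw [bump2, hs_add, h, h, Nat.add_sub_cancel, show m + 1 + 1 = 2 + m by omega, cast_choose_add, Nat.choose_self,
    Nat.cast_one, Nat.cast_ofNat, two_zero, zero_mul, add_zero, add_assoc, add_self_eq_zero' (F := K), add_zero]

theorem add_bump2_mem {n : ℕ} (hn : 2 ≤ n) (f : SDP K n) (c : K) :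
    (f.1 + C c * bump2 K n).Monic ∧ (f.1 + C c * bump2 K n).natDegree = n + n ∧
      (f.1 + C c * bump2 K n).coeff 0 = 1 ∧
      dual (RingHom.id K) (f.1 + C c * bump2 K n) = f.1 + C c * bump2 K n := by
  set g := f.1 + C c * bump2 K n with hg
  have hb : ∀ k, (C c * bump2 K n).coeff k = c * ((if k = n + 1 then 1 else 0) + (if k = n - 1 then 1 else 0)) :=
    fun k => by rw [bump2, coeff_C_mul, coeff_add, coeff_X_pow, coeff_X_pow]
  have hco : ∀ k, g.coeff k = f.1.coeff k + (C c * bump2 K n).coeff k := fun k => coeff_add _ _ _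
  have hzero : ∀ k, (k = 0 ∨ n + n ≤ k) → (C c * bump2 K n).coeff k = 0 := fun k hk => by
    rw [hb, if_neg (by omega), if_neg (by omega)]; ring
  have htop : g.coeff (n + n) = 1 := by
    rw [hco, hzero _ (Or.inr le_rfl), add_zero]
    have := f.2.1.coeff_natDegree
    rwa [f.2.2.1] at this
  have hdeg : g.natDegree = n + n :=
    natDegree_eq_of_le_of_coeff_ne_zero (natDegree_le_iff_coeff_eq_zero.2 fun k hk => by
      rw [hco, hzero _ (Or.inr hk.le), coeff_eq_zero_of_natDegree_lt (by rw [f.2.2.1]; exact hk), add_zero])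
      (by rw [htop]; exact one_ne_zero)
  have h0 : g.coeff 0 = 1 := by rw [hco, hzero _ (Or.inl rfl), add_zero, f.2.2.2.1]
  refine ⟨by rw [Monic, leadingCoeff, hdeg, htop], hdeg, h0, Polynomial.ext fun k => ?_⟩
  rcases le_or_gt k (n + n) with hk | hk
  · rw [coeff_dual _ (hdeg.symm ▸ hk), hdeg, h0, map_one, inv_one, one_mul, RingHom.id_apply, hco, hco,
      ← sdp_sym f k hk, hb, hb]
    congr 2
    split_ifs <;> first | omega | ring
  · rw [coeff_eq_zero_of_natDegree_lt (p := g) (by omega), coeff_eq_zero_of_natDegree_lt]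
    rw [natDegree_dual _ (by rw [h0]; exact one_ne_zero)]; omega

/-- Change the sign. -/
noncomputable def flipSD {n : ℕ} (hn : 2 ≤ n) (f : SDP K n) : SDP K n :=
  ⟨f.1 + C (eps K * f.1.eval 1) * bump2 K n, add_bump2_mem hn f _⟩

theorem flipSD_eval {n : ℕ} (hn : 2 ≤ n) (f : SDP K n) : (flipSD hn f).1.eval 1 = f.1.eval 1 := by
  simp [flipSD, (bump2_props (K := K) (n := n) (by omega)).1]

theorem flipSD_sgn {n : ℕ} (hn : 2 ≤ n) (f : SDP K n) (hne : f.1.eval 1 ≠ 0) :
    sgn (aInv (flipSD hn f).1) = -sgn (aInv f.1) := by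
  have h : aInv (flipSD hn f).1 = aInv f.1 + eps K := by
    rw [aInv, aInv, (flipSD hn f).2.2.1, f.2.2.1, u, u, flipSD_eval]
    simp only [flipSD]
    rw [hs_add, hs_C_mul, (bump2_props (K := K) (n := n) (by omega)).2]
    field_simp
    ring
  rw [h, sgn_add, sgn_eps, mul_neg_one]

theorem card_oclasses_ge {ι : Type} [Fintype ι] [DecidableEq ι] {n : ℕ} (hn : 2 ≤ n)
    (Q : QuadraticForm K (ι → K)) (hQ : (QuadraticMap.polarBilin Q).Nondegenerate)
    (hcard : Fintype.card ι = n + n) {ε : ℤ} (hε : ε = 1 ∨ ε = -1) (hE : EType (⇑Q) n ε) :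
    Fintype.card K ^ n ≤ 2 * Nat.card (ConjClasses (Cfsg.isometryGroup K ⇑Q)) := by
  classical
  haveI := finite_sdp (K := K) n
  haveI := Fintype.ofFinite (SDP K n)
  have hreal : ∀ f : SDP K n, (f.1.eval 1 = 0 ∨ sgn (aInv f.1) = ε) →
      ∃ g : Cfsg.isometryGroup K ⇑Q, (g.1 : GL ι K).val.charpoly = f.1 := by
    intro f hf
    have hR : RealE 2 f.1 n ε := by
      by_cases h0 : f.1.eval 1 = 0
      · exact realE_of_root_two f h0 hε
      · exact realE_of_sgn f h0 (hf.resolve_left h0)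
    obtain ⟨N, g, M, hN, -, hgc, hgq, hE'⟩ := hR
    obtain ⟨φ, hφ⟩ := exists_equiv hQ (CfsgLib.Geo.OSemi.qf_nondeg hgq.2) (k := n)
      (by rw [Module.finrank_fintype_fun_eq_card, hcard, two_mul]) (by rw [Module.finrank_fin_fun, hN]) hE hE'
    obtain ⟨h, hh, -, hhc⟩ := CfsgLib.Geo.OSemi.transfer hgq (⇑Q) φ one_ne_zero fun v => by rw [hφ, one_mul]
    exact ⟨⟨h, fun u _ => hh u⟩, hhc.trans hgc⟩
  choose r hr using hreal
  let R := {f : SDP K n // f.1.eval 1 = 0 ∨ sgn (aInv f.1) = ε}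
  have hR : Nat.card R ≤ Nat.card (ConjClasses (Cfsg.isometryGroup K ⇑Q)) := by
    refine Nat.card_le_card_of_injective (fun f : R => ConjClasses.mk (r f.1 f.2)) fun f g h => ?_
    obtain ⟨c, hc⟩ := isConj_iff.1 (ConjClasses.mk_eq_mk_iff_isConj.1 h)
    refine Subtype.ext (Subtype.ext ?_)
    rw [← hr f.1 f.2, ← hr g.1 g.2, ← hc]
    rw [Subgroup.coe_mul, Subgroup.coe_mul, Subgroup.coe_inv, Units.val_mul, Units.val_mul, Matrix.coe_units_inv,
      Matrix.charpoly_units_conj]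
  let R' := {f : SDP K n // ¬(f.1.eval 1 = 0 ∨ sgn (aInv f.1) = ε)}
  have hflip : Nat.card R' ≤ Nat.card R := by
    refine Nat.card_le_card_of_injective (fun f : R' => ⟨flipSD hn f.1, Or.inr ?_⟩) fun f g h => ?_
    · obtain ⟨f, hf⟩ := f
      push Not at hf
      rw [flipSD_sgn hn f hf.1]
      rcases hε with rfl | rfl <;> rcases sgn_eq_one_or (aInv f.1) with h | h <;> have := hf.2 <;> omega
    · have e : flipSD hn f.1 = flipSD hn g.1 := congrArg Subtype.val h
      have e2 : f.1.1.eval 1 = g.1.1.eval 1 := by rw [← flipSD_eval hn f.1, ← flipSD_eval hn g.1, e]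
      have e3 : f.1.1 + C (eps K * f.1.1.eval 1) * bump2 K n = g.1.1 + C (eps K * g.1.1.eval 1) * bump2 K n :=
        congrArg Subtype.val e
      rw [e2] at e3
      exact Subtype.ext (Subtype.ext (add_right_cancel e3))
  have hsum : Nat.card R + Nat.card R' = Fintype.card K ^ n := by
    rw [← CfsgLib.Geo.SpSemiClasses.card_polys (K := K) n, ← Nat.card_sum]
    exact Nat.card_congr (Equiv.sumCompl fun f : SDP K n => f.1.eval 1 = 0 ∨ sgn (aInv f.1) = ε)
  omega

end CfsgLib.SpEven
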