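import Cfsg.Agent.SpEven.Ops

/-!
# Blocks of generators, orthogonal lists of blocks, and isometric similarity from equal data
-/

set_option autoImplicit false
set_option linter.unusedSectionVars false

namespace CfsgLib.SpEven

open Polynomial Module

variable {F : Type*} [Field F] [CharP F 2] {V : Type*} [AddCommGroup V] [Module F V]
  {M : ℕ} {B : LinearMap.BilinForm F V} {N : V →ₗ[F] V} {r k : ℕ} {x : Fin r → V}

/-- `r` generators of height `k` whose top pairing is non-singular. -/
structure Gens (B : LinearMap.BilinForm F V) (N : V →ₗ[F] V) (k : ℕ) {r : ℕ} (x : Fin r → V) : Prop where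
  pos : 0 < k
  zero : ∀ i, (N ^ k) (x i) = 0
  det : ∀ c : Fin r → F, (∀ j, B (x j) ((N ^ (k - 1)) (∑ i, c i • x i)) = 0) → c = 0

/-- The chain vectors. -/
def chainV (N : V →ₗ[F] V) (k : ℕ) {r : ℕ} (x : Fin r → V) (p : Fin r × Fin k) : V :=
  (N ^ (p.2 : ℕ)) (x p.1)

/-- The span of the chains. -/
def spn (N : V →ₗ[F] V) (k : ℕ) {r : ℕ} (x : Fin r → V) : Submodule F V :=
  Submodule.span F (Set.range (chainV N k x))

/-- Stable under `N`. -/
def Inv (N : V →ₗ[F] V) (W : Submodule F V) : Prop := ∀ z ∈ W, N z ∈ W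

theorem Inv.pow {W : Submodule F V} (h : Inv N W) (a : ℕ) : ∀ z ∈ W, (N ^ a) z ∈ W := by
  induction a with
  | zero => intro z hz; simpa using hz
  | succ a ih => intro z hz; rw [pow_succ, Module.End.mul_apply]; exact ih _ (h z hz)

theorem Inv.aeval {W : Submodule F V} (h : Inv N W) (R : F[X]) : ∀ z ∈ W, Polynomial.aeval N R z ∈ W := by
  intro z hz
  rw [aeval_eq_sum_range, LinearMap.sum_apply]
  exact Submodule.sum_mem _ fun a _ => by
    rw [LinearMap.smul_apply]; exact Submodule.smul_mem _ _ (h.pow a z hz)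

theorem Inv.nb {W : Submodule F V} (h : Inv N W) : ∀ z ∈ W, CfsgLib.SpEven.nb N M z ∈ W := fun z hz => by
  rw [← aeval_pbar]; exact h.aeval _ z hz

theorem Inv.sop_pow {W : Submodule F V} (h : Inv N W) (a : ℕ) : ∀ z ∈ W, (sop N M ^ a) z ∈ W := fun z hz => by
  rw [← aeval_sop, ← map_pow]; exact h.aeval _ z hz

theorem Gens.chain_mem (hG : Gens B N k x) (i : Fin r) (a : ℕ) : (N ^ a) (x i) ∈ spn N k x := by
  rcases Nat.lt_or_ge a k with h | h
  · exact Submodule.subset_span ⟨(i, ⟨a, h⟩), rfl⟩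
  · rw [show a = (a - k) + k by omega, pow_add, Module.End.mul_apply, hG.zero, map_zero]
    exact zero_mem _

theorem Gens.mem (hG : Gens B N k x) (i : Fin r) : x i ∈ spn N k x := by
  simpa using hG.chain_mem i 0

theorem Gens.inv (hG : Gens B N k x) : Inv N (spn N k x) := by
  intro z hz
  induction hz using Submodule.span_induction with
  | mem z hz =>
    obtain ⟨p, rfl⟩ := hz
    rw [chainV, ← Module.End.mul_apply, ← pow_succ']
    exact hG.chain_mem _ _
  | zero => rw [map_zero]; exact zero_mem _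
  | add a b _ _ ha hb => rw [map_add]; exact add_mem ha hb
  | smul c a _ ha => rw [map_smul]; exact Submodule.smul_mem _ _ ha

theorem spn_le {W : Submodule F V} (h : Inv N W) (hx : ∀ i, x i ∈ W) : spn N k x ≤ W := by
  rw [spn, Submodule.span_le]
  rintro _ ⟨p, rfl⟩
  exact h.pow _ _ (hx _)

theorem Gens.pow_zero (hG : Gens B N k x) : ∀ z ∈ spn N k x, (N ^ k) z = 0 := by
  intro z hz
  induction hz using Submodule.span_induction with
  | mem z hz =>
    obtain ⟨p, rfl⟩ := hz
    rw [chainV, ← Module.End.mul_apply, ← pow_add, add_comm, pow_add, Module.End.mul_apply, hG.zero, map_zero]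
  | zero => rw [map_zero]
  | add a b _ _ ha hb => rw [map_add, ha, hb, add_zero]
  | smul c a _ ha => rw [map_smul, ha, smul_zero]

/-- The lowest coefficient is seen by a pairing. -/
theorem Gens.coeff_zero (hG : Gens B N k x) (c : Fin r × Fin k → F)
    (h : ∀ (j : Fin r) (b : ℕ), B (x j) ((N ^ b) (∑ p, c p • chainV N k x p)) = 0) : c = 0 := by
  suffices hh : ∀ (a : ℕ) (ha : a < k) (i : Fin r), c (i, ⟨a, ha⟩) = 0 from
    funext fun p => hh p.2 p.2.2 p.1
  intro a
  induction a using Nat.strong_induction_on with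
  | _ a ih =>
    intro ha
    have hc : (fun i => c (i, ⟨a, ha⟩)) = 0 := by
      refine hG.det _ fun j => ?_
      refine Eq.trans ?_ (h j (k - 1 - a))
      congr 1
      rw [map_sum, map_sum, Fintype.sum_prod_type]
      refine Finset.sum_congr rfl fun i _ => ?_
      rw [Finset.sum_eq_single ⟨a, ha⟩]
      · rw [map_smul, map_smul, chainV, ← Module.End.mul_apply, ← pow_add, show k - 1 - a + a = k - 1 by omega]
      · rintro ⟨b, hb⟩ - hne
        rcases Nat.lt_or_ge b a with hba | hba
        · rw [ih b hba hb i, zero_smul, map_zero]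
        · have hlt : a < b := lt_of_le_of_ne hba fun e => hne (Fin.ext e.symm)
          rw [map_smul, chainV, ← Module.End.mul_apply, ← pow_add,
            show k - 1 - a + b = (k - 1 - a + b - k) + k by omega, pow_add, Module.End.mul_apply, hG.zero,
            map_zero, smul_zero]
      · simp
    intro i
    exact congrFun hc i

theorem Gens.nondeg (hG : Gens B N k x) {z : V} (hz : z ∈ spn N k x)
    (h : ∀ (j : Fin r) (b : ℕ), B (x j) ((N ^ b) z) = 0) : z = 0 := by
  obtain ⟨c, rfl⟩ := (Submodule.mem_span_range_iff_exists_fun F).1 hz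
  rw [hG.coeff_zero c h]
  simp

theorem Gens.indep (hG : Gens B N k x) : LinearIndependent F (chainV N k x) := by
  rw [Fintype.linearIndependent_iff]
  intro c hc p
  rw [hG.coeff_zero c fun j b => by rw [hc, map_zero, map_zero]]
  rfl

theorem Gens.finrank (hG : Gens B N k x) : Module.finrank F (spn N k x) = r * k := by
  rw [spn, finrank_span_eq_card hG.indep, Fintype.card_prod, Fintype.card_fin, Fintype.card_fin]

theorem gens_one {v : V} (hk : 0 < k) (hz : (N ^ k) v = 0) (ht : B v ((N ^ (k - 1)) v) ≠ 0) :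
    Gens B N k ![v] := by
  refine ⟨hk, fun i => by fin_cases i; exact hz, fun c h => ?_⟩
  have h0 := h 0
  simp only [Fin.sum_univ_one, Matrix.cons_val_zero, map_smul, smul_eq_mul, mul_eq_zero] at h0
  funext i
  fin_cases i
  exact h0.resolve_right ht

section Uni

variable (hU : Uni M B N)
include hU

theorem gens_two {v w : V} (hk : 0 < k) (hv : (N ^ k) v = 0) (hw : (N ^ k) w = 0)
    (ht : B v ((N ^ (k - 1)) v) * B w ((N ^ (k - 1)) w) + B v ((N ^ (k - 1)) w) * B v ((N ^ (k - 1)) w) ≠ 0) :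
    Gens B N k ![v, w] := by
  refine ⟨hk, fun i => by fin_cases i <;> assumption, fun c h => ?_⟩
  have h0 := h 0
  have h1 := h 1
  have hs : B w ((N ^ (k - 1)) v) = B v ((N ^ (k - 1)) w) :=
    hU.top_symm (by rwa [Nat.sub_add_cancel hk])
  simp only [Fin.sum_univ_two, Matrix.cons_val_zero, Matrix.cons_val_one, map_add, map_smul, smul_eq_mul,
    hs] at h0 h1
  have e2 : (2 : F) = 0 := two_zero
  have a0 : c 0 * (B v ((N ^ (k - 1)) v) * B w ((N ^ (k - 1)) w) +
      B v ((N ^ (k - 1)) w) * B v ((N ^ (k - 1)) w)) = 0 := by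
    linear_combination B w ((N ^ (k - 1)) w) * h0 + B v ((N ^ (k - 1)) w) * h1 -
      (c 1 * B v ((N ^ (k - 1)) w) * B w ((N ^ (k - 1)) w)) * e2
  have a1 : c 1 * (B v ((N ^ (k - 1)) v) * B w ((N ^ (k - 1)) w) +
      B v ((N ^ (k - 1)) w) * B v ((N ^ (k - 1)) w)) = 0 := by
    linear_combination B v ((N ^ (k - 1)) w) * h0 + B v ((N ^ (k - 1)) v) * h1 -
      (c 0 * B v ((N ^ (k - 1)) w) * B v ((N ^ (k - 1)) v)) * e2
  funext i
  fin_cases i
  · exact (mul_eq_zero.1 a0).resolve_right ht
  · exact (mul_eq_zero.1 a1).resolve_right ht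

theorem Uni.inv_orth {S : Submodule F V} (hS : Inv N S) : Inv N (B.orthogonal S) := by
  intro z hz s hs
  show B s (N z) = 0
  rw [← hU.adj']
  exact hz _ (hS.nb s hs)

theorem Gens.perp_split [FiniteDimensional F V] (hG : Gens B N k x) (v : V) :
    ∃ p ∈ spn N k x, v + p ∈ B.orthogonal (spn N k x) := by
  have href : B.IsRefl := fun a b h => by rw [hU.symm]; exact h
  have hdis : Disjoint (spn N k x) (B.orthogonal (spn N k x)) := by
    rw [Submodule.disjoint_def]
    intro z hz hz'
    exact hG.nondeg hz fun j b => (hU.inv_orth hG.inv).pow b z hz' _ (hG.mem j)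
  have hc := (LinearMap.BilinForm.isCompl_orthogonal_iff_disjoint href).2 hdis
  obtain ⟨p, hp, q, hq, rfl⟩ := Submodule.mem_sup.1
    (hc.sup_eq_top ▸ Submodule.mem_top : v ∈ spn N k x ⊔ B.orthogonal (spn N k x))
  exact ⟨p, hp, by rwa [add_comm p q, add_assoc, add_self_eq_zero' (F := F), add_zero]⟩

/-- Projection off a block keeps the height. -/
theorem Gens.project [FiniteDimensional F V] (hG : Gens B N k x) {v : V} {h : ℕ} (hv : (N ^ h) v = 0) :
    ∃ p ∈ spn N k x, v + p ∈ B.orthogonal (spn N k x) ∧ (N ^ h) p = 0 ∧ (N ^ h) (v + p) = 0 := by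
  obtain ⟨p, hp, hvp⟩ := hG.perp_split hU v
  have h1 : (N ^ h) p = 0 := by
    refine hG.nondeg (hG.inv.pow h p hp) fun j b => ?_
    have h2 := (hU.inv_orth hG.inv).pow h _ hvp
    rw [map_add, hv, zero_add] at h2
    exact (hU.inv_orth hG.inv).pow b _ h2 _ (hG.mem j)
  exact ⟨p, hp, hvp, h1, by rw [map_add, hv, h1, add_zero]⟩

theorem orth_symm {S T : Submodule F V} (h : T ≤ B.orthogonal S) : S ≤ B.orthogonal T :=
  fun s hs t ht => show B t s = 0 by rw [hU.symm]; exact h ht s hs

end Uni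

/-! ## Lists of blocks -/

/-- An orthogonal list of pieces filling `W`. -/
def Has {α : Type*} (B : LinearMap.BilinForm F V) (P : α → Submodule F V → Prop) :
    List α → Submodule F V → Prop
  | [], W => W = ⊥
  | b :: L, W => ∃ S ≤ W, P b S ∧ Has B P L (W ⊓ B.orthogonal S)

theorem Has.perm {α : Type*} {P : α → Submodule F V → Prop} (hU : Uni M B N) {L L' : List α} (h : L.Perm L') :
    ∀ {W : Submodule F V}, Has B P L W → Has B P L' W := by
  induction h with
  | nil => exact fun h => h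
  | cons b _ ih =>
    rintro W ⟨S, hS, hP, h⟩
    exact ⟨S, hS, hP, ih h⟩
  | swap a b l =>
    rintro W ⟨S, hS, hb, T, hT, ha, h⟩
    refine ⟨T, hT.trans inf_le_left, ha, S,
      le_inf hS (orth_symm hU (hT.trans inf_le_right)), hb, ?_⟩
    rwa [inf_assoc, inf_comm (B.orthogonal T), ← inf_assoc]
  | trans _ _ ih1 ih2 => exact fun h => ih2 (ih1 h)

theorem orth_sup (B : LinearMap.BilinForm F V) (S T : Submodule F V) :
    B.orthogonal (S ⊔ T) = B.orthogonal S ⊓ B.orthogonal T := by
  ext z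
  simp only [Submodule.mem_inf, LinearMap.BilinForm.mem_orthogonal_iff]
  refine ⟨fun h => ⟨fun n hn => h n (Submodule.mem_sup_left hn), fun n hn => h n (Submodule.mem_sup_right hn)⟩,
    fun h n hn => ?_⟩
  obtain ⟨a, ha, b, hb, rfl⟩ := Submodule.mem_sup.1 hn
  show B (a + b) z = 0
  rw [map_add, LinearMap.add_apply, h.1 a ha, h.2 b hb, add_zero]

/-- Replacing the first two pieces by two others with the same span. -/
theorem Has.replace {α : Type*} {P : α → Submodule F V → Prop} {a' b' : α} {L : List α} {W S T : Submodule F V}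
    (hS : S ≤ W) (hT : T ≤ W) (hL : Has B P L (W ⊓ B.orthogonal S ⊓ B.orthogonal T)) {S' T' : Submodule F V}
    (ha : P a' S') (hb : P b' T') (horth : T' ≤ B.orthogonal S') (heq : S' ⊔ T' = S ⊔ T) :
    Has B P (a' :: b' :: L) W := by
  have hW : S' ⊔ T' ≤ W := heq ▸ sup_le hS hT
  refine ⟨S', le_sup_left.trans hW, ha, T', le_inf (le_sup_right.trans hW) horth, hb, ?_⟩
  rwa [inf_assoc, ← orth_sup, heq, orth_sup, ← inf_assoc]

/-! ## Equal data -/

/-- Generating families with equal pairings and the same action of `N`. -/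
def SameData {V' : Type*} [AddCommGroup V'] [Module F V'] (B : LinearMap.BilinForm F V) (N : V →ₗ[F] V)
    (W : Submodule F V) (B' : LinearMap.BilinForm F V') (N' : V' →ₗ[F] V') (W' : Submodule F V') : Prop :=
  ∃ (ι : Type) (_ : Fintype ι) (σ : ι → Option ι) (v : ι → V) (v' : ι → V'),
    Submodule.span F (Set.range v) = W ∧ Submodule.span F (Set.range v') = W' ∧
      (∀ i j, B (v i) (v j) = B' (v' i) (v' j)) ∧
      (∀ i, N (v i) = (σ i).elim 0 v) ∧ ∀ i, N' (v' i) = (σ i).elim 0 v'

variable {V' : Type*} [AddCommGroup V'] [Module F V'] {B' : LinearMap.BilinForm F V'} {N' : V' →ₗ[F] V'}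

theorem SameData.bot : SameData B N (⊥ : Submodule F V) B' N' (⊥ : Submodule F V') :=
  ⟨Empty, inferInstance, fun i => i.elim, fun i => i.elim, fun i => i.elim, by simp, by simp,
    fun i => i.elim, fun i => i.elim, fun i => i.elim⟩

theorem SameData.sup {S R : Submodule F V} {S' R' : Submodule F V'}
    (h1 : SameData B N S B' N' S') (h2 : SameData B N R B' N' R')
    (hsr : ∀ a ∈ S, ∀ b ∈ R, B a b = 0 ∧ B b a = 0)
    (hsr' : ∀ a ∈ S', ∀ b ∈ R', B' a b = 0 ∧ B' b a = 0) :
    SameData B N (S ⊔ R) B' N' (S' ⊔ R') := by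
  obtain ⟨ι, _, σ, v, v', e1, e1', g1, n1, n1'⟩ := h1
  obtain ⟨κ, _, τ, w, w', e2, e2', g2, n2, n2'⟩ := h2
  refine ⟨ι ⊕ κ, inferInstance, Sum.elim (fun i => (σ i).map Sum.inl) (fun j => (τ j).map Sum.inr),
    Sum.elim v w, Sum.elim v' w', ?_, ?_, ?_, ?_, ?_⟩
  · rw [Set.Sum.elim_range, Submodule.span_union, e1, e2]
  · rw [Set.Sum.elim_range, Submodule.span_union, e1', e2']
  · have hv : ∀ i, v i ∈ S := fun i => e1 ▸ Submodule.subset_span ⟨i, rfl⟩
    have hw : ∀ j, w j ∈ R := fun j => e2 ▸ Submodule.subset_span ⟨j, rfl⟩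
    have hv' : ∀ i, v' i ∈ S' := fun i => e1' ▸ Submodule.subset_span ⟨i, rfl⟩
    have hw' : ∀ j, w' j ∈ R' := fun j => e2' ▸ Submodule.subset_span ⟨j, rfl⟩
    rintro (i | i) (j | j)
    · exact g1 i j
    · simp only [Sum.elim_inl, Sum.elim_inr, (hsr _ (hv i) _ (hw j)).1, (hsr' _ (hv' i) _ (hw' j)).1]
    · simp only [Sum.elim_inl, Sum.elim_inr, (hsr _ (hv j) _ (hw i)).2, (hsr' _ (hv' j) _ (hw' i)).2]
    · exact g2 i j
  · rintro (i | i)
    · simp only [Sum.elim_inl]; rw [n1]; cases σ i <;> rfl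
    · simp only [Sum.elim_inr]; rw [n2]; cases τ i <;> rfl
  · rintro (i | i)
    · simp only [Sum.elim_inl]; rw [n1']; cases σ i <;> rfl
    · simp only [Sum.elim_inr]; rw [n2']; cases τ i <;> rfl

/-- Equal data on the whole spaces give an isometric similarity. -/
theorem SameData.equiv (h : SameData B N ⊤ B' N' ⊤) (hB : ∀ z, (∀ y, B z y = 0) → z = 0)
    (hB' : ∀ z, (∀ y, B' z y = 0) → z = 0) :
    ∃ e : V ≃ₗ[F] V', (∀ z, e (N z) = N' (e z)) ∧ ∀ a b, B' (e a) (e b) = B a b := by
  classical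
  obtain ⟨ι, _, σ, v, v', e1, e1', gr, n1, n1'⟩ := h
  set f : (ι → F) →ₗ[F] V := Fintype.linearCombination F v with hf
  set f' : (ι → F) →ₗ[F] V' := Fintype.linearCombination F v' with hf'
  have hs : Function.Surjective f := by
    rw [← LinearMap.range_eq_top, hf, Fintype.range_linearCombination, e1]
  have hs' : Function.Surjective f' := by
    rw [← LinearMap.range_eq_top, hf', Fintype.range_linearCombination, e1']
  have hpair : ∀ c d, B (f c) (f d) = B' (f' c) (f' d) := by
    intro c d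
    simp only [hf, hf', Fintype.linearCombination_apply, map_sum, LinearMap.sum_apply, map_smul,
      LinearMap.smul_apply, gr]
  have hker : ∀ c, f c = 0 ↔ f' c = 0 := by
    intro c
    constructor
    · intro hc
      refine hB' _ fun y => ?_
      obtain ⟨d, rfl⟩ := hs' y
      rw [← hpair, hc, map_zero, LinearMap.zero_apply]
    · intro hc
      refine hB _ fun y => ?_
      obtain ⟨d, rfl⟩ := hs y
      rw [hpair, hc, map_zero, LinearMap.zero_apply]
  obtain ⟨sec, hsec⟩ := f.exists_rightInverse_of_surjective (LinearMap.range_eq_top.2 hs)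
  have hsec' : ∀ z, f (sec z) = z := fun z => LinearMap.congr_fun hsec z
  have hwd : ∀ c, f' (sec (f c)) = f' c := by
    intro c
    rw [← sub_eq_zero, ← map_sub, ← hker, map_sub, hsec', sub_self]
  have hbij : Function.Bijective (f' ∘ₗ sec) := by
    refine ⟨(injective_iff_map_eq_zero _).2 fun z hz => ?_, fun y => ?_⟩
    · rw [← hsec' z, hker]; exact hz
    · obtain ⟨c, rfl⟩ := hs' y
      exact ⟨f c, hwd c⟩
  refine ⟨LinearEquiv.ofBijective _ hbij, fun z => ?_, fun a b => ?_⟩
  · obtain ⟨c, rfl⟩ := hs z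
    show f' (sec (N (f c))) = N' (f' (sec (f c)))
    rw [hwd]
    simp only [hf, hf', Fintype.linearCombination_apply, map_sum, map_smul, n1, n1']
    refine Finset.sum_congr rfl fun i _ => ?_
    congr 1
    cases σ i with
    | none => simp
    | some j =>
      have h1 := hwd (Pi.single j 1)
      rw [hf, Fintype.linearCombination_apply_single, one_smul] at h1
      simp only [Option.elim]
      simpa [hf', Fintype.linearCombination_apply, Pi.single_apply] using h1
  · show B' (f' (sec a)) (f' (sec b)) = B a b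
    rw [← hpair, hsec', hsec']

theorem blk_sameData {x' : Fin r → V'} (hG : Gens B N k x) (hG' : Gens B' N' k x') (hU : Uni M B N)
    (hU' : Uni M B' N')
    (h : ∀ i j a, B (x i) ((N ^ a) (x j)) = B' (x' i) ((N' ^ a) (x' j))) :
    SameData B N (spn N k x) B' N' (spn N' k x') := by
  refine ⟨Fin r × Fin k, inferInstance,
    fun p => if hp : (p.2 : ℕ) + 1 < k then some (p.1, ⟨p.2 + 1, hp⟩) else none,
    chainV N k x, chainV N' k x', rfl, rfl, fun p q => ?_, fun p => ?_, fun p => ?_⟩
  · have e1 : B (chainV N k x p) (chainV N k x q) =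
        B (x p.1) (aeval N (X ^ (q.2 : ℕ) * pbar F M ^ (p.2 : ℕ)) (x q.1)) := by
      rw [aeval_X_pow_mul_pbar, ((commute_nb N M).pow_pow _ _).eq, Module.End.mul_apply, ← hU.adj_pow]
      rfl
    have e2 : B' (chainV N' k x' p) (chainV N' k x' q) =
        B' (x' p.1) (aeval N' (X ^ (q.2 : ℕ) * pbar F M ^ (p.2 : ℕ)) (x' q.1)) := by
      rw [aeval_X_pow_mul_pbar, ((commute_nb N' M).pow_pow _ _).eq, Module.End.mul_apply, ← hU'.adj_pow]
      rfl
    rw [e1, e2]
    exact pair_congr _ fun b _ => h _ _ b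
  · rw [chainV, ← Module.End.mul_apply, ← pow_succ']
    dsimp only
    split_ifs with hp
    · rfl
    · rw [show (p.2 : ℕ) + 1 = k by omega]; exact hG.zero _
  · rw [chainV, ← Module.End.mul_apply, ← pow_succ']
    dsimp only
    split_ifs with hp
    · rfl
    · rw [show (p.2 : ℕ) + 1 = k by omega]; exact hG'.zero _

end CfsgLib.SpEven
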