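import Cfsg.Agent.SpEven.Block

/-!
# Orthogonal decomposition into blocks `V (2l)` and `W m`
-/

set_option autoImplicit false
set_option linter.unusedSectionVars false

namespace CfsgLib.SpEven

open Module

/-- Block types: `V l` has one generator of height `2 l`, `W m` has two generators of height `m`. -/
inductive Blk
  | V (l : ℕ)
  | W (m : ℕ)
deriving DecidableEq

/-- Half the dimension of a block. -/
def Blk.wt : Blk → ℕ
  | .V l => l
  | .W m => m

variable {F : Type*} [Field F] [CharP F 2] {V : Type*} [AddCommGroup V] [Module F V]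
  {M : ℕ} {B : LinearMap.BilinForm F V} {N : V →ₗ[F] V}

/-- A block of given type. -/
def GBlk (B : LinearMap.BilinForm F V) (N : V →ₗ[F] V) : Blk → Submodule F V → Prop
  | .V l, S => ∃ x : Fin 1 → V, Gens B N (l + l) x ∧ spn N (l + l) x = S
  | .W m, S => ∃ x : Fin 2 → V, Gens B N m x ∧ (∀ i, B (x i) ((N ^ (m - 1)) (x i)) = 0) ∧ spn N m x = S

theorem Gens.top_ne {k : ℕ} {x : Fin 1 → V} (hG : Gens B N k x) : B (x 0) ((N ^ (k - 1)) (x 0)) ≠ 0 := by
  intro h
  have h1 := hG.det 1 fun j => by fin_cases j; simpa using h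
  exact one_ne_zero (congrFun h1 0)

theorem GBlk.gens {b : Blk} {S : Submodule F V} (h : GBlk B N b S) :
    ∃ (r k : ℕ) (x : Fin r → V), Gens B N k x ∧ spn N k x = S ∧ r * k = 2 * b.wt := by
  cases b with
  | V l => obtain ⟨x, h1, h2⟩ := h; exact ⟨1, _, x, h1, h2, by simp only [Blk.wt]; omega⟩
  | W m => obtain ⟨x, h1, -, h2⟩ := h; exact ⟨2, _, x, h1, h2, by simp only [Blk.wt]⟩

variable (hU : Uni M B N)
include hU

theorem inter_eq_zero {k h r s : ℕ} {x : Fin r → V} {y : Fin s → V} (hG : Gens B N k x) (hH : Gens B N h y)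
    (horth : spn N h y ≤ B.orthogonal (spn N k x)) {a b : V} (ha : a ∈ spn N k x) (hb : b ∈ spn N h y)
    (hab : a + b = 0) : a = 0 := by
  refine hG.nondeg ha fun j c => ?_
  rw [eq_of_add_eq_zero' (F := F) hab]
  exact horth (hH.inv.pow c b hb) _ (hG.mem j)

/-- Shearing one block by the other. -/
theorem shear [FiniteDimensional F V] {k h r s : ℕ} {x : Fin r → V} {y : Fin s → V} (hG : Gens B N k x)
    (hH : Gens B N h y) (horth : spn N h y ≤ B.orthogonal (spn N k x)) {w : Fin r → V}
    (hw : ∀ i, w i ∈ spn N h y) (hG' : Gens B N k fun i => x i + w i) :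
    ∃ y' : Fin s → V, Gens B N h y' ∧ (∀ j, y j + y' j ∈ spn N k fun i => x i + w i) ∧
      spn N h y' ≤ B.orthogonal (spn N k fun i => x i + w i) ∧
      spn N k (fun i => x i + w i) ⊔ spn N h y' = spn N k x ⊔ spn N h y := by
  set x' : Fin r → V := fun i => x i + w i with hx'
  set S := spn N k x' with hS
  choose p hp hperp _ hzero using fun j => hG'.project hU (hH.zero j)
  have hsum : ∀ z : V, ∀ q : V, z + (z + q) = q := fun z q => by
    rw [← add_assoc, add_self_eq_zero' (F := F), zero_add]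
  -- the spans
  have hle1 : S ≤ spn N k x ⊔ spn N h y := by
    refine spn_le (fun z hz => ?_) fun i => add_mem (Submodule.mem_sup_left (hG.mem i)) (Submodule.mem_sup_right (hw i))
    obtain ⟨a, ha, b, hb, rfl⟩ := Submodule.mem_sup.1 hz
    rw [map_add]
    exact add_mem (Submodule.mem_sup_left (hG.inv a ha)) (Submodule.mem_sup_right (hH.inv b hb))
  have hin : ∀ {z : V}, z ∈ S → ∀ {q : V}, q ∈ spn N h y → z = q → z = 0 := by
    intro z hz q hq hzq
    obtain ⟨c, hc⟩ := (Submodule.mem_span_range_iff_exists_fun F).1 hz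
    have hx : ∑ t, c t • chainV N k x t = 0 := by
      refine inter_eq_zero hU hG hH horth (b := (∑ t, c t • chainV N k w t) + q) ?_ ?_ ?_
      · exact Submodule.sum_mem _ fun t _ => Submodule.smul_mem _ _ (hG.chain_mem _ _)
      · exact add_mem (Submodule.sum_mem _ fun t _ => Submodule.smul_mem _ _ (hH.inv.pow _ _ (hw _))) hq
      · rw [← add_assoc, ← Finset.sum_add_distrib, ← hzq,
          show (∑ t, (c t • chainV N k x t + c t • chainV N k w t)) = z by
            rw [← hc]
            exact Finset.sum_congr rfl fun t _ => by simp only [chainV, x', map_add, smul_add],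
          add_self_eq_zero' (F := F)]
    have hc0 : c = 0 := hG.coeff_zero c fun j b => by rw [hx, map_zero, map_zero]
    rw [← hc, hc0]
    simp
  set y' : Fin s → V := fun j => y j + p j with hy'
  have hyS : ∀ j, y' j ∈ B.orthogonal S := hperp
  have hy'le : spn N h y' ≤ B.orthogonal S := spn_le (hU.inv_orth hG'.inv) hyS
  have hinv : Inv N (S ⊔ spn N h y') := by
    intro z hz
    obtain ⟨a, ha, b, hb, rfl⟩ := Submodule.mem_sup.1 hz
    rw [map_add]
    refine add_mem (Submodule.mem_sup_left (hG'.inv a ha)) (Submodule.mem_sup_right ?_)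
    clear hz
    induction hb using Submodule.span_induction with
    | mem z hz =>
      obtain ⟨t, rfl⟩ := hz
      rw [chainV, ← Module.End.mul_apply, ← pow_succ']
      rcases Nat.lt_or_ge ((t.2 : ℕ) + 1) h with hlt | hge
      · exact Submodule.subset_span ⟨(t.1, ⟨_, hlt⟩), rfl⟩
      · rw [hU.pow_zero_of_le (hzero t.1) hge]; exact zero_mem _
    | zero => rw [map_zero]; exact zero_mem _
    | add a b _ _ ha hb => rw [map_add]; exact add_mem ha hb
    | smul c a _ ha => rw [map_smul]; exact Submodule.smul_mem _ _ ha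
  have heq : S ⊔ spn N h y' = spn N k x ⊔ spn N h y := by
    have hym : ∀ j, y j ∈ S ⊔ spn N h y' := fun j => by
      rw [← hsum (p j) (y j), add_comm (p j) (y j)]
      exact add_mem (Submodule.mem_sup_left (hp j))
        (Submodule.mem_sup_right (Submodule.subset_span ⟨(j, ⟨0, hH.pos⟩), by simp [chainV, y']⟩))
    refine le_antisymm (sup_le hle1 (spn_le ?_ fun j =>
      add_mem (Submodule.mem_sup_right (hH.mem j)) (hle1 (hp j)))) (sup_le (spn_le hinv fun i => ?_) (spn_le hinv hym))
    · intro z hz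
      obtain ⟨a, ha, b, hb, rfl⟩ := Submodule.mem_sup.1 hz
      rw [map_add]
      exact add_mem (Submodule.mem_sup_left (hG.inv a ha)) (Submodule.mem_sup_right (hH.inv b hb))
    · rw [← hsum (w i) (x i), add_comm (w i) (x i)]
      exact add_mem (spn_le hinv hym (hw i)) (Submodule.mem_sup_left (hG'.mem i))
  refine ⟨y', ⟨hH.pos, hzero, fun c hc => ?_⟩, fun j => ?_, hy'le, heq⟩
  swap
  · rw [show y j + y' j = p j from hsum _ _]; exact hp j
  set z := (N ^ (h - 1)) (∑ i, c i • y' i) with hz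
  have hzs : z ∈ S ⊔ spn N h y' := by
    refine Submodule.mem_sup_right ?_
    rw [hz, map_sum]
    refine Submodule.sum_mem _ fun i _ => ?_
    rw [map_smul]
    exact Submodule.smul_mem _ _ (Submodule.subset_span ⟨(i, ⟨h - 1, by have := hH.pos; omega⟩), rfl⟩)
  have hzh : (N : V →ₗ[F] V) z = 0 := by
    rw [hz, ← Module.End.mul_apply, ← pow_succ', Nat.sub_add_cancel hH.pos, map_sum]
    exact Finset.sum_eq_zero fun i _ => by rw [map_smul, hzero, smul_zero]
  have hzx : ∀ v ∈ S, B v z = 0 := by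
    intro v hv
    have hm : z ∈ B.orthogonal S := by
      refine (hU.inv_orth hG'.inv).pow _ _ (Submodule.sum_mem _ fun i _ => Submodule.smul_mem _ _ (hyS i))
    exact hm v hv
  have hzy : ∀ v ∈ spn N h y', B v z = 0 := by
    intro v hv
    induction hv using Submodule.span_induction with
    | mem v hv =>
      obtain ⟨⟨j, a⟩, rfl⟩ := hv
      rcases Nat.eq_zero_or_pos (a : ℕ) with ha | ha
      · simp only [chainV, ha, pow_zero, Module.End.one_apply]; exact hc j
      · rw [chainV, hU.adj_pow]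
        have : (nb N M ^ (a : ℕ) * N ^ 0) z = 0 := by
          refine hU.nb_pow_zero ?_
          rw [show 0 + (a : ℕ) = ((a : ℕ) - 1) + 1 by omega, pow_succ, Module.End.mul_apply, hzh, map_zero]
        rw [pow_zero, mul_one] at this
        rw [this, map_zero]
    | zero => simp
    | add a b _ _ ha hb => rw [map_add, LinearMap.add_apply, ha, hb, add_zero]
    | smul c a _ ha => rw [map_smul, LinearMap.smul_apply, ha, smul_zero]
  have hall : ∀ v ∈ spn N k x ⊔ spn N h y, B v z = 0 := by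
    rw [← heq]
    intro v hv
    obtain ⟨a, ha, b, hb, rfl⟩ := Submodule.mem_sup.1 hv
    rw [map_add, LinearMap.add_apply, hzx a ha, hzy b hb, add_zero]
  have hz0 : z = 0 := by
    obtain ⟨a, ha, b, hb, hab⟩ := Submodule.mem_sup.1 (heq ▸ hzs : z ∈ spn N k x ⊔ spn N h y)
    have ha0 : a = 0 := hG.nondeg ha fun j e => by
      have h1 : B (x j) ((N ^ e) z) = 0 := by
        rw [hU.adj_pow']
        exact hall _ (Submodule.mem_sup_left (by rw [← aeval_pbar, ← map_pow]; exact hG.inv.aeval _ _ (hG.mem j)))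
      rwa [← hab, map_add, map_add, horth (hH.inv.pow e b hb) _ (hG.mem j), add_zero] at h1
    subst ha0
    rw [zero_add] at hab
    subst hab
    refine hH.nondeg hb fun j e => ?_
    rw [hU.adj_pow']
    exact hall _ (Submodule.mem_sup_right (by rw [← aeval_pbar, ← map_pow]; exact hH.inv.aeval _ _ (hH.mem j)))
  have h0 : (N ^ (h - 1)) (∑ i, c i • y i) = 0 := by
    have hsplit : (N ^ (h - 1)) (∑ i, c i • p i) = (N ^ (h - 1)) (∑ i, c i • y i) := by
      refine (eq_of_add_eq_zero' (F := F) ?_).symm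
      rw [← map_add, ← Finset.sum_add_distrib]
      simpa [z, y', smul_add] using hz0
    rw [← hsplit]
    exact hin (hG'.inv.pow _ _ (Submodule.sum_mem _ fun i _ => Submodule.smul_mem _ _ (hp i)))
      (hH.inv.pow _ _ (Submodule.sum_mem _ fun i _ => Submodule.smul_mem _ _ (hH.mem i))) hsplit
  exact hH.det c fun j => by rw [h0, map_zero]

omit hU

theorem top_coeff {k : ℕ} {x : Fin 1 → V} (hG : Gens B N k x) {p : V} (hp : p ∈ spn N k x) :
    ∃ c : F, (N ^ (k - 1)) p = c • (N ^ (k - 1)) (x 0) := by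
  induction hp using Submodule.span_induction with
  | mem v hv =>
    obtain ⟨⟨i, a⟩, rfl⟩ := hv
    fin_cases i
    rcases Nat.eq_zero_or_pos (a : ℕ) with ha | ha
    · exact ⟨1, by simp [chainV, ha]⟩
    · refine ⟨0, ?_⟩
      simp only [chainV, zero_smul, ← Module.End.mul_apply, ← pow_add]
      rw [show k - 1 + (a : ℕ) = ((a : ℕ) - 1) + k by omega, pow_add, Module.End.mul_apply]
      simp only [Fin.zero_eta, hG.zero, map_zero]
  | zero => exact ⟨0, by simp⟩
  | add a b _ _ ha hb =>
    obtain ⟨c, hc⟩ := ha; obtain ⟨d, hd⟩ := hb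
    exact ⟨c + d, by rw [map_add, hc, hd, add_smul]⟩
  | smul t a _ ha =>
    obtain ⟨c, hc⟩ := ha
    exact ⟨t * c, by rw [map_smul, hc, smul_smul]⟩

theorem spn_one_eq {k : ℕ} (x : Fin 1 → V) : spn N k x = spn N k ![x 0] := by
  congr 1
  funext i
  fin_cases i
  rfl

theorem spn_pair {k : ℕ} (a b : V) : spn N k ![a, b] = spn N k ![a] ⊔ spn N k ![b] := by
  rw [spn, spn, spn, ← Submodule.span_union]
  congr 1
  ext z
  simp only [Set.mem_range, Set.mem_union, Prod.exists, chainV, Fin.exists_fin_two, Fin.exists_fin_one,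
    Matrix.cons_val_zero, Matrix.cons_val_one, Matrix.cons_val_fin_one]

variable [Finite F]

theorem exists_sqrt (d : F) : ∃ c : F, c * c = d := by
  obtain ⟨c, hc⟩ := (Finite.injective_iff_surjective.1 (frobenius_inj F 2)) d
  exact ⟨c, by rw [← hc, frobenius_def, pow_two]⟩

theorem exists_scale {k : ℕ} {v : V} (ht : B v ((N ^ (k - 1)) v) ≠ 0) (d : F) :
    ∃ c : F, B (c • v) ((N ^ (k - 1)) (c • v)) = d := by
  obtain ⟨c, hc⟩ := exists_sqrt (d / B v ((N ^ (k - 1)) v))
  exact ⟨c, by simp only [map_smul, LinearMap.smul_apply, smul_eq_mul]; rw [← mul_assoc, hc, div_mul_cancel₀ _ ht]⟩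

theorem spn_smul {k : ℕ} (v : V) {c : F} (hc : c ≠ 0) : spn N k ![c • v] = spn N k ![v] := by
  refine le_antisymm ?_ ?_ <;> rw [spn, Submodule.span_le] <;> rintro _ ⟨⟨i, a⟩, rfl⟩ <;> fin_cases i
  · show (N ^ (a : ℕ)) (c • v) ∈ _
    rw [map_smul]
    exact Submodule.smul_mem _ _ (Submodule.subset_span ⟨(0, a), rfl⟩)
  · show (N ^ (a : ℕ)) v ∈ _
    rw [← inv_smul_smul₀ hc ((N ^ (a : ℕ)) v), ← map_smul (N ^ (a : ℕ))]
    exact Submodule.smul_mem _ _ (Submodule.subset_span ⟨(0, a), rfl⟩)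

theorem GBlk.unit_gen (hU : Uni M B N) {l : ℕ} {S : Submodule F V} (h : GBlk B N (.V l) S) :
    ∃ v : V, Gens B N (l + l) ![v] ∧ B v ((N ^ (l + l - 1)) v) = 1 ∧ spn N (l + l) ![v] = S := by
  obtain ⟨x, hx, rfl⟩ := h
  obtain ⟨c, hc⟩ := exists_scale hx.top_ne 1
  have hc0 : c ≠ 0 := fun h0 => by simp [h0] at hc
  refine ⟨c • x 0, gens_one hx.pos (by rw [map_smul, hx.zero, smul_zero]) (by rw [hc]; exact one_ne_zero), hc, ?_⟩
  rw [spn_smul _ hc0, ← spn_one_eq]

variable [FiniteDimensional F V] (hU : Uni M B N)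
include hU

/-- Three `V (2l)` are `V (2l) ⊕ W (2l)`. -/
theorem three_V {l : ℕ} {W : Submodule F V} {L : List Blk}
    (h : Has B (GBlk B N) (.V l :: .V l :: .V l :: L) W) :
    Has B (GBlk B N) (.V l :: .W (l + l) :: L) W := by
  obtain ⟨S, hS, h1, T, hT, h2, U, hUle, h3, hL⟩ := h
  obtain ⟨a, ga, ta, rfl⟩ := h1.unit_gen hU
  obtain ⟨b, gb, tb, rfl⟩ := h2.unit_gen hU
  obtain ⟨c, gc, tc, rfl⟩ := h3.unit_gen hU
  set n := l + l with hn
  have hn0 : 0 < n := ga.pos
  have hbc : spn N n ![b, c] = spn N n ![b] ⊔ spn N n ![c] := spn_pair b c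
  have hob : spn N n ![b] ≤ B.orthogonal (spn N n ![a]) := hT.trans inf_le_right
  have hoc : spn N n ![c] ≤ B.orthogonal (spn N n ![a]) := hUle.trans (inf_le_left.trans inf_le_right)
  have hcb : spn N n ![c] ≤ B.orthogonal (spn N n ![b]) := hUle.trans inf_le_right
  have hzb : (N ^ n) b = 0 := gb.zero 0
  have hzc : (N ^ n) c = 0 := gc.zero 0
  have hza : (N ^ n) a = 0 := ga.zero 0
  have hbc0 : B b ((N ^ (n - 1)) c) = 0 := hcb (gc.chain_mem 0 _) _ (gb.mem 0)
  have hcb0 : B c ((N ^ (n - 1)) b) = 0 := orth_symm hU hcb (gb.chain_mem 0 _) _ (gc.mem 0)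
  have hH : Gens B N n ![b, c] := gens_two hU hn0 hzb hzc (by rw [tb, tc, hbc0]; simp)
  have horth : spn N n ![b, c] ≤ B.orthogonal (spn N n ![a]) := hbc ▸ sup_le hob hoc
  have ab0 : B a ((N ^ (n - 1)) b) = 0 := hob (gb.chain_mem 0 _) _ (ga.mem 0)
  have ac0 : B a ((N ^ (n - 1)) c) = 0 := hoc (gc.chain_mem 0 _) _ (ga.mem 0)
  have ba0 : B b ((N ^ (n - 1)) a) = 0 := by
    rw [hU.top_symm (x := a) (by rwa [Nat.sub_add_cancel hn0]), ab0]
  have ca0 : B c ((N ^ (n - 1)) a) = 0 := by
    rw [hU.top_symm (x := a) (by rwa [Nat.sub_add_cancel hn0]), ac0]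
  have htop : B (a + (b + c)) ((N ^ (n - 1)) (a + (b + c))) = 1 := by
    simp only [map_add, LinearMap.add_apply, ta, tb, tc, hbc0, hcb0, ab0, ac0, ba0, ca0]
    linear_combination (two_zero : (2 : F) = 0)
  have hG' : Gens B N n fun i => (![a] : Fin 1 → V) i + ![b + c] i := by
    have : (fun i => (![a] : Fin 1 → V) i + ![b + c] i) = ![a + (b + c)] := by
      funext i; fin_cases i; rfl
    rw [this]
    exact gens_one hn0 (by rw [map_add, map_add, hza, hzb, hzc, add_zero, add_zero]) (by rw [htop]; exact one_ne_zero)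
  obtain ⟨y', gy, hyp, hyo, heq⟩ := shear hU ga hH horth (w := ![b + c])
    (fun i => by fin_cases i; exact add_mem (hH.mem 0) (hH.mem 1)) hG'
  have hz0 : (fun i => (![a] : Fin 1 → V) i + ![b + c] i) 0 = a + (b + c) := rfl
  have hdiag : ∀ j, B (y' j) ((N ^ (n - 1)) (y' j)) = 0 := by
    intro j
    set z := a + (b + c) with hz
    obtain ⟨t, ht⟩ := top_coeff hG' (hyp j)
    replace ht : (N ^ (n - 1)) ((![b, c] : Fin 2 → V) j + y' j) = t • (N ^ (n - 1)) z := ht
    have hy1 : B ((![b, c] : Fin 2 → V) j) ((N ^ (n - 1)) ((![b, c] : Fin 2 → V) j)) = 1 := by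
      fin_cases j
      · exact tb
      · exact tc
    have hzy : B z ((N ^ (n - 1)) ((![b, c] : Fin 2 → V) j)) = 1 := by
      fin_cases j
      · simp only [z, map_add, LinearMap.add_apply, Fin.zero_eta, Matrix.cons_val_zero, tb, hcb0]
        rw [show B a ((N ^ (n - 1)) b) = 0 from hob (gb.chain_mem 0 _) _ (ga.mem 0)]
        simp
      · simp only [z, map_add, LinearMap.add_apply, Fin.mk_one, Matrix.cons_val_one, Matrix.cons_val_fin_one, tc, hbc0]
        rw [show B a ((N ^ (n - 1)) c) = 0 from hoc (gc.chain_mem 0 _) _ (ga.mem 0)]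
        simp
    set v := (![b, c] : Fin 2 → V) j
    set q := v + y' j with hq
    have hy' : y' j = v + q := by rw [hq, ← add_assoc, add_self_eq_zero' (F := F), zero_add]
    have hzy' : B z ((N ^ (n - 1)) (y' j)) = 0 :=
      hyo (gy.chain_mem j _) _ (hz0 ▸ hG'.mem 0)
    have hqy : B q ((N ^ (n - 1)) (y' j)) = 0 := hyo (gy.chain_mem j _) _ (hyp j)
    have hvn : (N ^ (n - 1 + 1)) v = 0 := by
      rw [Nat.sub_add_cancel hn0]; exact hH.zero j
    have htc : t = 1 := by
      rw [hy', map_add (N ^ (n - 1)), map_add (B z), hzy, ht, map_smul, smul_eq_mul, htop, mul_one] at hzy'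
      exact (eq_of_add_eq_zero' (F := F) hzy').symm
    rw [htc, one_smul] at ht
    have hqv : B q ((N ^ (n - 1)) v) = 1 := by
      rw [hU.top_symm (x := v) hvn, ht, hU.top_symm (x := z) (by
        rw [Nat.sub_add_cancel hn0]; exact hz0 ▸ hG'.zero 0)]
      exact hzy
    have hqq : B q ((N ^ (n - 1)) q) = 1 := by
      rw [hy', map_add (N ^ (n - 1)), map_add (B q), hqv] at hqy
      exact (eq_of_add_eq_zero' (F := F) hqy).symm
    rw [hy', map_add (N ^ (n - 1)), map_add B, LinearMap.add_apply, map_add (B v), map_add (B q), hy1, hqv, hqq,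
      show B v ((N ^ (n - 1)) q) = B q ((N ^ (n - 1)) v) from hU.top_symm (by
        rw [Nat.sub_add_cancel hn0]
        exact hG'.pow_zero q (hyp j)), hqv]
    linear_combination 2 * (two_zero : (2 : F) = 0)
  refine Has.replace (a' := Blk.V l) (b' := Blk.W n) (S := spn N n ![a]) (T := spn N n ![b, c]) hS (hbc ▸ sup_le (hT.trans inf_le_left)
      (hUle.trans (inf_le_left.trans inf_le_left))) ?_
    (S' := spn N n fun i => (![a] : Fin 1 → V) i + ![b + c] i) (T' := spn N n y') ⟨_, hG', rfl⟩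
    ⟨y', gy, hdiag, rfl⟩ hyo heq
  rw [hbc, orth_sup, ← inf_assoc]
  exact hL

theorem nd_perp {W S : Submodule F V} {r k : ℕ} {x : Fin r → V} (hG : Gens B N k x) (hS : spn N k x = S)
    (hSW : S ≤ W) (hnd : ∀ z ∈ W, (∀ y ∈ W, B z y = 0) → z = 0) :
    ∀ z ∈ W ⊓ B.orthogonal S, (∀ y ∈ W ⊓ B.orthogonal S, B z y = 0) → z = 0 := by
  intro z hz h
  refine hnd z hz.1 fun y hy => ?_
  obtain ⟨p, hp, hyp⟩ := hG.perp_split hU y
  have h1 := h (y + p) ⟨add_mem hy (hSW (hS ▸ hp)), hS ▸ hyp⟩
  have h2 : B z p = 0 := by rw [← hU.symm]; exact hz.2 p (hS ▸ hp)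
  rwa [map_add, h2, add_zero] at h1

/-- Every non-degenerate stable subspace has a block decomposition with at most two copies of each `V (2l)`. -/
theorem exists_decomp : ∀ {d : ℕ} {W : Submodule F V}, finrank F W = d → Inv N W →
    (∀ z ∈ W, (∀ y ∈ W, B z y = 0) → z = 0) →
    ∃ L : List Blk, Has B (GBlk B N) L W ∧ ∀ l, L.count (.V l) ≤ 2 := by
  classical
  intro d
  induction d using Nat.strong_induction_on with
  | _ d ih =>
    intro W hd hinv hnd
    rcases eq_or_ne W ⊥ with rfl | hW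
    · exact ⟨[], rfl, fun l => by simp⟩
    have hex : ∃ k, ∀ z ∈ W, (N ^ k) z = 0 := ⟨M, fun z _ => by rw [hU.nil]; rfl⟩
    set k := Nat.find hex with hk
    have hkz := Nat.find_spec hex
    have hk0 : 0 < k := by
      by_contra h0
      refine hW ((Submodule.eq_bot_iff _).2 fun z hz => ?_)
      have := hkz z hz
      rwa [← hk, Nat.eq_zero_of_not_pos h0, pow_zero, Module.End.one_apply] at this
    obtain ⟨x, hx, hxk⟩ : ∃ x ∈ W, (N ^ (k - 1)) x ≠ 0 := by
      have h1 := Nat.find_min hex (show k - 1 < Nat.find hex by omega)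
      push Not at h1
      exact h1
    obtain ⟨y, hy, hxy⟩ : ∃ y ∈ W, B x ((N ^ (k - 1)) y) ≠ 0 := by
      by_contra hno
      push Not at hno
      refine hxk (hnd _ (hinv.pow _ x hx) fun y hy => ?_)
      have h1 := hno y hy
      rwa [← hU.top_symm (by rw [Nat.sub_add_cancel hk0]; exact hkz x hx), hU.symm] at h1
    have hstep : ∀ (b : Blk) (S : Submodule F V), GBlk B N b S → S ≤ W →
        ∃ L' : List Blk, Has B (GBlk B N) (b :: L') W ∧ ∀ l, L'.count (.V l) ≤ 2 := by
      intro b S hb hSW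
      obtain ⟨r, n, u, gu, hu, hrn⟩ := hb.gens
      have hlt : W ⊓ B.orthogonal S < W := by
        refine lt_of_le_of_ne inf_le_left fun he => ?_
        have hr : 0 < r := by
          rcases Nat.eq_zero_or_pos r with hr | hr
          · exfalso
            rw [hr, Nat.zero_mul] at hrn
            cases b with
            | V l => obtain ⟨v, gv, -⟩ := hb; have := gv.pos; simp only [Blk.wt] at hrn; omega
            | W m => obtain ⟨v, gv, -⟩ := hb; have := gv.pos; simp only [Blk.wt] at hrn; omega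
          · exact hr
        have h1 : u ⟨0, hr⟩ = 0 := by
          refine gu.nondeg (gu.mem _) fun j e => ?_
          have h2 : (N ^ e) (u ⟨0, hr⟩) ∈ B.orthogonal S := by
            have h3 : (N ^ e) (u ⟨0, hr⟩) ∈ W ⊓ B.orthogonal S := he.symm ▸ hSW (hu ▸ gu.chain_mem _ _)
            exact h3.2
          exact h2 _ (hu ▸ gu.mem j)
        refine (gu.indep.ne_zero (⟨0, hr⟩, ⟨0, gu.pos⟩)) ?_
        simp [chainV, h1]
      obtain ⟨L', hL', hc⟩ := ih _ (hd ▸ Submodule.finrank_lt_finrank_of_lt hlt) rfl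
        (fun z hz => Submodule.mem_inf.2 ⟨hinv z hz.1, (hU.inv_orth (hu ▸ gu.inv)) z hz.2⟩) (nd_perp hU gu hu hSW hnd)
      exact ⟨L', ⟨S, hSW, hb, hL'⟩, hc⟩
    by_cases hd' : ∀ z ∈ W, B z ((N ^ (k - 1)) z) = 0
    · have hg : Gens B N k ![x, y] := gens_two hU hk0 (hkz x hx) (hkz y hy) (by
        rw [hd' x hx, hd' y hy, mul_zero, zero_add]; exact mul_ne_zero hxy hxy)
      obtain ⟨L', hL', hc⟩ := hstep (.W k) _ ⟨![x, y], hg, fun i => by fin_cases i; exacts [hd' x hx, hd' y hy], rfl⟩
        (spn_le hinv fun i => by fin_cases i; exacts [hx, hy])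
      exact ⟨_, hL', fun l => by rw [List.count_cons_of_ne (by simp)]; exact hc l⟩
    push Not at hd'
    obtain ⟨z, hz, hzz⟩ := hd'
    obtain ⟨l, hl⟩ : ∃ l, k = l + l := by
      rcases Nat.even_or_odd' k with ⟨l, hl | hl⟩
      · exact ⟨l, by omega⟩
      · refine absurd ?_ hzz
        rw [show k - 1 = l + l by omega]
        exact hU.odd_top (by rw [show l + l + 1 = k by omega]; exact hkz z hz)
    obtain ⟨L', hL', hc⟩ := hstep (.V l) _ ⟨![z], by rw [← hl]; exact gens_one hk0 (hkz z hz) hzz, rfl⟩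
      (spn_le hinv fun i => by fin_cases i; exact hz)
    rcases Nat.lt_or_ge (L'.count (.V l)) 2 with h2 | h2
    · refine ⟨_, hL', fun l' => ?_⟩
      rcases eq_or_ne l' l with rfl | hne
      · rw [List.count_cons_self]; omega
      · rw [List.count_cons_of_ne (by simpa using hne.symm)]; exact hc l'
    · have hm : Blk.V l ∈ L' := List.count_pos_iff.1 (by omega)
      have hm' : Blk.V l ∈ L'.erase (.V l) :=
        List.count_pos_iff.1 (by rw [List.count_erase_self]; omega)
      have hp : L'.Perm (.V l :: .V l :: (L'.erase (.V l)).erase (.V l)) :=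
        (List.perm_cons_erase hm).trans ((List.perm_cons_erase hm').cons _)
      refine ⟨_, three_V hU (Has.perm hU (hp.cons _) hL'), fun l' => ?_⟩
      have h3 := hc l'
      rw [hp.count_eq (.V l')] at h3
      rcases eq_or_ne l' l with rfl | hne
      · rw [List.count_cons_self, List.count_cons_of_ne (by simp)]
        rw [List.count_cons_self, List.count_cons_self] at h3
        omega
      · rw [List.count_cons_of_ne (by simpa using hne.symm), List.count_cons_of_ne (by simp)]
        rw [List.count_cons_of_ne (by simpa using hne.symm), List.count_cons_of_ne (by simpa using hne.symm)] at h3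
        exact h3

end CfsgLib.SpEven
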