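import Cfsg.Agent.SpEven.Decomp

/-!
# Normal forms of single blocks

`Std (V l) b`: coordinates `g x (l - 1) = 1`, `g x (l - 2) = b * eps`, all others zero, with `eps` outside
the image of `c ↦ c * c + c`. `Std (W m) b`: standard cross pairings and coordinates `(0, 0)` or `(1, eps)`
at `i` with `2 i + 3 = m`.
-/

set_option autoImplicit false
set_option linter.unusedSectionVars false

namespace CfsgLib.SpEven

open Module Polynomial

section Field

variable (F : Type*) [Field F] [CharP F 2]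

/-- `c ↦ c * c + c`. -/
def wp : F →+ F where
  toFun c := c * c + c
  map_zero' := by simp
  map_add' a b := by
    have h : a * b + a * b = 0 := add_self_eq_zero' (F := F) _
    linear_combination h

theorem wp_apply (c : F) : wp F c = c * c + c := rfl

variable [Finite F]

theorem wp_index : (wp F).range.index = 2 := by
  have hker : Nat.card (wp F).ker = 2 := by
    classical
    have h : ((wp F).ker : Set F) = {0, 1} := by
      ext c
      simp only [SetLike.mem_coe, AddMonoidHom.mem_ker, wp_apply, Set.mem_insert_iff, Set.mem_singleton_iff]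
      constructor
      · intro h
        rw [show c * c + c = c * (c + 1) by ring, mul_eq_zero] at h
        exact h.imp id fun h1 => eq_of_add_eq_zero' (F := F) h1
      · rintro (rfl | rfl)
        · simp
        · rw [one_mul]; exact add_self_eq_zero' (F := F) _
    rw [← SetLike.coe_sort_coe, h, Nat.card_coe_set_eq, Set.ncard_pair zero_ne_one]
  have h1 := (wp F).ker.card_mul_index
  rw [AddSubgroup.index_ker, hker] at h1
  have h2 := (wp F).range.card_mul_index
  have hpos : 0 < Nat.card (wp F).range := Nat.card_pos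
  refine Nat.eq_of_mul_eq_mul_left hpos ?_
  rw [h2, ← h1]
  ring

theorem exists_eps : ∃ d : F, d ∉ (wp F).range := by
  by_contra h
  push Not at h
  have h1 := wp_index F
  rw [show (wp F).range = ⊤ from (AddSubgroup.eq_top_iff' _).2 h, AddSubgroup.index_top] at h1
  omega

/-- A fixed element outside the image of `wp`. -/
noncomputable def eps : F := (exists_eps F).choose

theorem eps_spec : eps F ∉ (wp F).range := (exists_eps F).choose_spec

theorem wp_reduce (d : F) : ∃ (b : Bool) (c : F), d + (c * c + c) = if b then eps F else 0 := by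
  by_cases h : d ∈ (wp F).range
  · obtain ⟨c, hc⟩ := h
    exact ⟨false, c, by rw [← wp_apply, hc]; simpa using add_self_eq_zero' (F := F) d⟩
  · obtain ⟨c, hc⟩ := ((AddSubgroup.add_mem_iff_of_index_two (wp_index F)).2 (iff_of_false h (eps_spec F)) :
      d + eps F ∈ (wp F).range)
    refine ⟨true, c, ?_⟩
    rw [← wp_apply, hc, ← add_assoc, add_self_eq_zero' (F := F), zero_add]
    rfl

variable {F}

/-- The binary quadratic form with coefficients `p`, `e`, `r`. -/
def qf (p e r a b : F) : F := a * a * p + b * b * r + a * b * e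

theorem qf_surj {e : F} (he : e ≠ 0) (p r d : F) : ∃ a b, qf p e r a b = d := by
  rcases eq_or_ne p 0 with hp | hp
  · rcases eq_or_ne r 0 with hr | hr
    · exact ⟨d / e, 1, by simp [qf, hp, hr, div_mul_cancel₀ _ he]⟩
    · obtain ⟨c, hc⟩ := exists_sqrt (d / r)
      exact ⟨0, c, by simp [qf, hc, div_mul_cancel₀ _ hr]⟩
  · obtain ⟨c, hc⟩ := exists_sqrt (d / p)
    exact ⟨c, 0, by simp [qf, hc, div_mul_cancel₀ _ hp]⟩

/-- Binary forms with unit polar form: hyperbolic or anisotropic. -/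
theorem qf_normal (p r : F) : ∃ (t : Bool) (a b c d : F), a * d + b * c = 1 ∧
    qf p 1 r a b = (if t then 1 else 0) ∧ qf p 1 r c d = (if t then eps F else 0) := by
  by_cases hiso : ∃ a b : F, (a ≠ 0 ∨ b ≠ 0) ∧ qf p 1 r a b = 0
  · obtain ⟨a, b, hne, hq⟩ := hiso
    obtain ⟨c, d, hdet⟩ : ∃ c d : F, a * d + b * c = 1 := by
      rcases hne with h | h
      · exact ⟨0, a⁻¹, by simp [h]⟩
      · exact ⟨b⁻¹, 0, by simp [h]⟩
    refine ⟨false, a, b, c + qf p 1 r c d * a, d + qf p 1 r c d * b, ?_, hq, ?_⟩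
    · have h : a * b + b * a = 0 := by rw [mul_comm b a]; exact add_self_eq_zero' (F := F) _
      linear_combination hdet + qf p 1 r c d * h
    · have h2 : (2 : F) = 0 := two_zero
      simp only [qf] at hq hdet ⊢
      simp only [Bool.false_eq_true, if_false]
      set u := c * c * p + d * d * r + c * d * 1
      linear_combination u * u * hq + u * hdet + (u + u * c * a * p + u * d * b * r) * h2
  push Not at hiso
  have hp : p ≠ 0 := fun h => hiso 1 0 (Or.inl one_ne_zero) (by simp [qf, h])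
  obtain ⟨a, ha⟩ := exists_sqrt p⁻¹
  have ha0 : a ≠ 0 := fun h => inv_ne_zero hp (by rw [← ha, h, mul_zero])
  obtain ⟨t, u, hu⟩ := wp_reduce F (a⁻¹ * a⁻¹ * r)
  rcases t with _ | _
  · exfalso
    refine hiso (u * a) a⁻¹ (Or.inr (inv_ne_zero ha0)) ?_
    simp only [qf]
    simp only [Bool.false_eq_true, if_false] at hu
    linear_combination hu + u * u * ((congrArg (· * p) ha).trans (inv_mul_cancel₀ hp)) + u * mul_inv_cancel₀ ha0
  · refine ⟨true, a, 0, u * a, a⁻¹, by simp [mul_inv_cancel₀ ha0], ?_, ?_⟩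
    · simp only [qf, if_true]
      linear_combination (congrArg (· * p) ha).trans (inv_mul_cancel₀ hp)
    · simp only [qf, if_true] at hu ⊢
      linear_combination hu + u * u * ((congrArg (· * p) ha).trans (inv_mul_cancel₀ hp)) + u * mul_inv_cancel₀ ha0

end Field

variable {F : Type*} [Field F] [CharP F 2] [Finite F] {V : Type*} [AddCommGroup V] [Module F V]
  {M : ℕ} {B : LinearMap.BilinForm F V} {N : V →ₗ[F] V}

/-- A block in normal form. -/
def StdBlk (M : ℕ) (B : LinearMap.BilinForm F V) (N : V →ₗ[F] V) : Blk × Bool → Submodule F V → Prop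
  | (.V l, b), S => ∃ x : Fin 1 → V, Gens B N (l + l) x ∧ spn N (l + l) x = S ∧
      ∀ i < l, g B N M (x 0) i = if i + 1 = l then 1 else if i + 2 = l ∧ b = true then eps F else 0
  | (.W m, b), S => ∃ x : Fin 2 → V, Gens B N m x ∧ spn N m x = S ∧
      (∀ a, B (x 0) ((N ^ a) (x 1)) = if a + 1 = m then 1 else 0) ∧
      (∀ i, i + i + 1 < m → g B N M (x 0) i = if i + i + 3 = m ∧ b = true then 1 else 0) ∧
      ∀ i, i + i + 1 < m → g B N M (x 1) i = if i + i + 3 = m ∧ b = true then eps F else 0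

theorem Gens.spn_eq [FiniteDimensional F V] {r k : ℕ} {x x' : Fin r → V} (hG : Gens B N k x)
    (hG' : Gens B N k x') (h : ∀ i, x' i ∈ spn N k x) : spn N k x' = spn N k x :=
  Submodule.eq_of_le_of_finrank_eq (spn_le hG.inv h) (by rw [hG.finrank, hG'.finrank])

omit [Finite F] in
theorem pow_pow_apply (a b : ℕ) (z : V) : (N ^ a) ((N ^ b) z) = (N ^ (a + b)) z := by
  rw [pow_add, Module.End.mul_apply]

omit [Finite F] in
theorem N_pow_apply (a : ℕ) (z : V) : N ((N ^ a) z) = (N ^ (a + 1)) z := by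
  rw [pow_succ', Module.End.mul_apply]

variable (hU : Uni M B N)
include hU

theorem sop_kill {z : V} {k a i : ℕ} (h : (N ^ k) z = 0) (hk : k ≤ a + (i + i)) :
    (sop N M ^ i) ((N ^ a) z) = 0 := by
  rw [hU.sop_pow_lead (hU.pow_zero_of_le h (by omega)), hU.pow_zero_of_le h hk]

theorem g_stable {x w : V} {m i : ℕ} (hw : (N ^ m) w = 0) (hi : m ≤ i + i + 3) :
    g B N M (x + N w) i = g B N M x i := by
  have h1 : g B N M (N w) i = 0 := by
    have h := hU.g_pow w i 1
    rw [pow_one] at h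
    rw [h, hU.g_zero (hU.pow_zero_of_le hw (by omega))]
  have h2 : (sop N M ^ (i + 1)) (N w) = 0 := by
    have h := sop_kill hU (a := 1) (i := i + 1) hw (by omega)
    rwa [pow_one] at h
  rw [hU.g_add, h1, h2, map_zero, add_zero, add_zero]

/-- Killing the coordinates below the critical one. -/
theorem diag_kill {m : ℕ} {x y : V} (hx : (N ^ m) x = 0) (hy : (N ^ m) y = 0)
    (hyy : B y ((N ^ (m - 1)) y) = 0) (hxy : B x ((N ^ (m - 1)) y) = 1) :
    ∃ R : F[X], ∀ i, i + i + 3 < m → g B N M (x + N (aeval N R y)) i = 0 := by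
  suffices hh : ∀ t, ∃ R : F[X], ∀ i, i + i + 3 < m → m ≤ i + t → g B N M (x + N (aeval N R y)) i = 0 by
    obtain ⟨R, hR⟩ := hh m
    exact ⟨R, fun i hi => hR i hi (Nat.le_add_left m i)⟩
  intro t
  induction t with
  | zero => exact ⟨0, fun i hi h => by omega⟩
  | succ t ih =>
    obtain ⟨R, hR⟩ := ih
    by_cases hok : m - (t + 1) + (m - (t + 1)) + 3 < m ∧ t < m
    swap
    · exact ⟨R, fun i hi h => by
        rcases Nat.lt_or_ge (i + t) m with h1 | h1
        · exact absurd ⟨by omega, by omega⟩ hok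
        · exact hR i hi h1⟩
    set i := m - (t + 1) with hi
    set d := g B N M (x + N (aeval N R y)) i
    set j := m - 3 - (i + i) with hj
    have hyT : ∀ S : F[X], (N ^ m) (aeval N S y) = 0 := fun S => by
      rw [← Module.End.mul_apply, show N ^ m * aeval N S = aeval N S * N ^ m by
        rw [← aeval_X (R := F) N, ← map_pow, aeval_X, ← map_mul, ← map_mul, mul_comm], Module.End.mul_apply, hy,
        map_zero]
    refine ⟨R + C d * X ^ (j - 1), fun i' hi' h => ?_⟩
    have hnew : x + N (aeval N (R + C d * X ^ (j - 1)) y) = (x + N (aeval N R y)) + d • (N ^ j) y := by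
      rw [map_add, LinearMap.add_apply, map_add, ← add_assoc, map_mul, map_pow, aeval_C, aeval_X,
        Algebra.algebraMap_eq_smul_one, smul_mul_assoc, one_mul, LinearMap.smul_apply, map_smul,
        N_pow_apply, show j - 1 + 1 = j by omega]
    have hsq : g B N M y (i' + j) = 0 := by
      rcases Nat.lt_or_ge ((i' + j) + (i' + j) + 1) m with hlt | hge
      · rw [hU.g_top (hU.pow_zero_of_le hy (show m ≤ (i' + j) + (i' + j) + 2 by omega)),
          show (i' + j) + (i' + j) + 1 = m - 1 by omega]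
        exact hyy
      · exact hU.g_zero (hU.pow_zero_of_le hy hge)
    rw [hnew, hU.g_add, hU.g_smul, hU.g_pow, hsq, mul_zero, add_zero, map_smul, map_smul, smul_eq_mul]
    rcases Nat.lt_or_ge i i' with hlt | hge
    · rw [sop_kill hU hy (by omega), map_zero, mul_zero, add_zero]
      exact hR i' hi' (by omega)
    · obtain rfl : i' = i := by omega
      rw [hU.sop_pow_lead (hU.pow_zero_of_le hy (by omega)), show j + ((i + 1) + (i + 1)) = m - 1 by omega,
        map_add B, LinearMap.add_apply, hxy]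
      have h0 : B (N (aeval N R y)) ((N ^ (m - 1)) y) = 0 := by
        rw [hU.top_symm (x := y) (y := N (aeval N R y)) (by rw [Nat.sub_add_cancel (by omega)]; exact hy)]
        rw [← Module.End.mul_apply (N ^ (m - 1)), ← pow_succ, Nat.sub_add_cancel (by omega), hyT, map_zero]
      rw [h0, add_zero, mul_one]
      exact add_self_eq_zero' (F := F) d

/-- Prescribing the pairings below the top one. -/
theorem cross_fix {m : ℕ} {x y z : V} (hy : (N ^ m) y = 0) (hxy : B x ((N ^ (m - 1)) y) = 1) (τ : ℕ → F) :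
    ∃ R : F[X], ∀ a, a + 1 < m → B x ((N ^ a) (z + N (aeval N R y))) = τ a := by
  suffices hh : ∀ t, ∃ R : F[X], ∀ a, a + 1 < m → m ≤ a + t → B x ((N ^ a) (z + N (aeval N R y))) = τ a by
    obtain ⟨R, hR⟩ := hh m
    exact ⟨R, fun a ha => hR a ha (Nat.le_add_left m a)⟩
  intro t
  induction t with
  | zero => exact ⟨0, fun a ha h => by omega⟩
  | succ t ih =>
    obtain ⟨R, hR⟩ := ih
    by_cases hok : m - (t + 1) + 1 < m ∧ t < m
    swap
    · exact ⟨R, fun a ha h => by
        rcases Nat.lt_or_ge (a + t) m with h1 | h1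
        · exact absurd ⟨by omega, by omega⟩ hok
        · exact hR a ha h1⟩
    set a := m - (t + 1) with hat
    set d := B x ((N ^ a) (z + N (aeval N R y))) + τ a with hd
    refine ⟨R + C d * X ^ (m - 2 - a), fun a' ha' h => ?_⟩
    have hnew : z + N (aeval N (R + C d * X ^ (m - 2 - a)) y) =
        (z + N (aeval N R y)) + d • (N ^ (m - 1 - a)) y := by
      rw [map_add, LinearMap.add_apply, map_add, ← add_assoc, map_mul, map_pow, aeval_C, aeval_X,
        Algebra.algebraMap_eq_smul_one, smul_mul_assoc, one_mul, LinearMap.smul_apply, map_smul,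
        N_pow_apply, show m - 2 - a + 1 = m - 1 - a by omega]
    rw [hnew, map_add (N ^ a'), map_smul, map_add, map_smul, smul_eq_mul, pow_pow_apply]
    rcases Nat.lt_or_ge a a' with hlt | hge
    · rw [hU.pow_zero_of_le hy (show m ≤ a' + (m - 1 - a) by omega), map_zero, mul_zero, add_zero]
      exact hR a' ha' (by omega)
    · obtain rfl : a' = a := by omega
      rw [show a + (m - 1 - a) = m - 1 by omega, hxy, mul_one, hd, ← add_assoc,
        add_self_eq_zero' (F := F), zero_add]

variable [FiniteDimensional F V]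

theorem stdV_of {l : ℕ} {b : Bool} {S : Submodule F V} {x : V} (hl : 0 < l)
    (hG : Gens B N (l + l) ![x]) (hS : spn N (l + l) ![x] = S) (htop : g B N M x (l - 1) = 1)
    (hb : 2 ≤ l → g B N M x (l - 2) = if b = true then eps F else 0) :
    StdBlk M B N (.V l, b) S := by
  suffices hh : ∀ t, ∃ z ∈ S, g B N M z (l - 1) = 1 ∧
      ∀ i < l, l ≤ i + t + 2 → g B N M z i = if i + 1 = l then 1 else if i + 2 = l ∧ b = true then eps F else 0 by
    obtain ⟨z, hz, h1, h2⟩ := hh l
    have hzn : (N ^ (l + l)) z = 0 := hG.pow_zero z (hS ▸ hz)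
    have hne : B z ((N ^ (l + l - 1)) z) ≠ 0 := by
      have h3 := hU.g_top (x := z) (i := l - 1) (hU.pow_zero_of_le hzn (by omega))
      rw [h1, show l - 1 + (l - 1) + 1 = l + l - 1 by omega] at h3
      rw [← h3]; exact one_ne_zero
    have hg := gens_one (by omega) hzn hne
    exact ⟨![z], hg, by rw [← hS]; exact hG.spn_eq hg (fun i => by fin_cases i; exact hS ▸ hz),
      fun i hi => h2 i hi (by omega)⟩
  intro t
  induction t with
  | zero =>
    refine ⟨x, hS ▸ hG.mem 0, htop, fun i hi h => ?_⟩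
    rcases eq_or_ne (i + 1) l with rfl | hne
    · rw [if_pos rfl]; simpa using htop
    · rw [if_neg hne, show i = l - 2 by omega, hb (by omega), show l - 2 + 2 = l by omega]
      simp
  | succ t ih =>
    obtain ⟨z, hz, h1, h2⟩ := ih
    rcases Nat.lt_or_ge l (t + 3) with hlt | hge
    · exact ⟨z, hz, h1, fun i hi h => h2 i hi (by omega)⟩
    set i0 := l - (t + 3) with hi0
    set d := g B N M z i0 with hd
    have hzn : (N ^ (l + l)) z = 0 := hG.pow_zero z (hS ▸ hz)
    have hhi : ∀ e, l ≤ e → g B N M z e = 0 := fun e he => hU.g_zero (hU.pow_zero_of_le hzn (by omega))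
    have hinv : Inv N S := hS ▸ hG.inv
    refine ⟨z + d • (N * sop N M ^ (t + 1)) z, add_mem hz (S.smul_mem _ ?_), ?_, fun i hi h => ?_⟩
    · rw [Module.End.mul_apply]; exact hinv _ (hinv.sop_pow _ z hz)
    · rw [hU.g_scale_odd, h1, hhi _ (by omega), hhi _ (by omega), mul_zero, mul_zero, add_zero, add_zero]
    · rw [hU.g_scale_odd, hhi (i + ((t + 1) + (t + 1)) + 1) (by omega), mul_zero, add_zero]
      rcases Nat.lt_or_ge i0 i with hlt' | hge'
      · rw [hhi (i + (t + 1) + 1) (by omega), mul_zero, add_zero]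
        exact h2 i hi (by omega)
      · obtain rfl : i = i0 := by omega
        rw [show i0 + (t + 1) + 1 = l - 1 by omega, h1, mul_one, if_neg (by omega), if_neg (by omega)]
        exact add_self_eq_zero' (F := F) _

theorem std_V {l : ℕ} {S : Submodule F V} (h : GBlk B N (.V l) S) : ∃ b, StdBlk M B N (.V l, b) S := by
  obtain ⟨x, hG, htop, hS⟩ := h.unit_gen hU
  have hl : 0 < l := by have := hG.pos; omega
  have hxn : (N ^ (l + l)) x = 0 := hG.zero 0
  have hgt : g B N M x (l - 1) = 1 := by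
    rw [hU.g_top (hU.pow_zero_of_le hxn (by omega)), show l - 1 + (l - 1) + 1 = l + l - 1 by omega, htop]
  rcases Nat.lt_or_ge l 2 with h2 | h2
  · exact ⟨false, stdV_of hU hl hG hS hgt (fun h => by omega)⟩
  obtain ⟨b, c, hc⟩ := wp_reduce F (g B N M x (l - 2))
  set z := x + c • N x with hz
  have hzg : ∀ i, g B N M z i = g B N M x i + c * c * g B N M x (i + 1) + c * g B N M x (i + 1) := by
    intro i
    have := hU.g_scale_odd x c i 0
    simpa using this
  have hzt : g B N M z (l - 1) = 1 := by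
    rw [hzg, hgt, hU.g_zero (hU.pow_zero_of_le hxn (show l + l ≤ l - 1 + 1 + (l - 1 + 1) + 1 by omega)), mul_zero,
      mul_zero, add_zero, add_zero]
  have hzm : z ∈ spn N (l + l) ![x] := add_mem (hG.mem 0) (Submodule.smul_mem _ _ (hG.inv _ (hG.mem 0)))
  have hzn : (N ^ (l + l)) z = 0 := hG.pow_zero z hzm
  have hg : Gens B N (l + l) ![z] := gens_one hG.pos hzn (by
    have h3 := hU.g_top (x := z) (i := l - 1) (hU.pow_zero_of_le hzn (by omega))
    rw [hzt, show l - 1 + (l - 1) + 1 = l + l - 1 by omega] at h3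
    rw [← h3]; exact one_ne_zero)
  refine ⟨b, stdV_of hU hl hg ((hG.spn_eq hg fun i => by fin_cases i; exact hzm).trans hS) hzt fun _ => ?_⟩
  rw [hzg, show l - 2 + 1 = l - 1 by omega, hgt, mul_one, mul_one, add_assoc, hc]

/-- A pair of generators of `W m` with unit top pairing. -/
def WPair (B : LinearMap.BilinForm F V) (N : V →ₗ[F] V) (m : ℕ) (S : Submodule F V) (x y : V) : Prop :=
  B x ((N ^ (m - 1)) x) = 0 ∧ B y ((N ^ (m - 1)) y) = 0 ∧ B x ((N ^ (m - 1)) y) = 1 ∧ Gens B N m ![x, y] ∧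
    spn N m ![x, y] = S

theorem wpair_of {m : ℕ} {S : Submodule F V} {x y : V} (h : WPair B N m S x y) {x' y' : V} (hx' : x' ∈ S)
    (hy' : y' ∈ S) (h1 : B x' ((N ^ (m - 1)) x') = 0) (h2 : B y' ((N ^ (m - 1)) y') = 0)
    (h3 : B x' ((N ^ (m - 1)) y') = 1) : WPair B N m S x' y' := by
  obtain ⟨-, -, -, hG, hS⟩ := h
  have hg : Gens B N m ![x', y'] := gens_two hU hG.pos (hG.pow_zero _ (hS ▸ hx')) (hG.pow_zero _ (hS ▸ hy'))
    (by rw [h1, h3, zero_mul, zero_add, mul_one]; exact one_ne_zero)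
  refine ⟨h1, h2, h3, hg, (hG.spn_eq hg fun i => ?_).trans hS⟩
  fin_cases i
  · exact hS ▸ hx'
  · exact hS ▸ hy'

theorem WPair.swap {m : ℕ} {S : Submodule F V} {x y : V} (h : WPair B N m S x y) : WPair B N m S y x := by
  obtain ⟨h1, h2, h3, hG, hS⟩ := id h
  refine wpair_of hU h (hS ▸ hG.mem 1) (hS ▸ hG.mem 0) h2 h1 ?_
  rw [hU.top_symm (x := x) (by rw [Nat.sub_add_cancel hG.pos]; exact hG.zero 0), h3]

theorem WPair.add_N {m : ℕ} {S : Submodule F V} {x y w : V} (h : WPair B N m S x y) (hw : w ∈ S) :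
    WPair B N m S (x + N w) y := by
  obtain ⟨h1, h2, h3, hG, hS⟩ := id h
  have hwm : (N ^ m) w = 0 := hG.pow_zero w (hS ▸ hw)
  have hN : (N ^ (m - 1)) (N w) = 0 := by
    rw [← Module.End.mul_apply, ← pow_succ, Nat.sub_add_cancel hG.pos, hwm]
  have hsy : ∀ v, (N ^ m) v = 0 → B (N w) ((N ^ (m - 1)) v) = 0 := fun v hv => by
    rw [hU.top_symm (x := v) (y := N w) (by rw [Nat.sub_add_cancel hG.pos]; exact hv), hN, map_zero]
  refine wpair_of hU h (add_mem (hS ▸ hG.mem 0) ((hS ▸ hG.inv : Inv N S) w hw)) (hS ▸ hG.mem 1) ?_ h2 ?_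
  · rw [map_add, map_add, map_add, LinearMap.add_apply, LinearMap.add_apply, hN, map_zero, map_zero, h1,
      hsy x (hG.zero 0)]
    simp
  · rw [map_add, LinearMap.add_apply, h3, hsy y (hG.zero 1), add_zero]

theorem stdW_of {m : ℕ} {b : Bool} {S : Submodule F V} {x y : V} (h : WPair B N m S x y)
    (hx : ∀ i, i + i + 3 = m → g B N M x i = if b = true then 1 else 0)
    (hy : ∀ i, i + i + 3 = m → g B N M y i = if b = true then eps F else 0) :
    StdBlk M B N (.W m, b) S := by
  obtain ⟨h1, h2, h3, hG, hS⟩ := id h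
  have hinv : Inv N S := hS ▸ hG.inv
  have hym : y ∈ S := hS ▸ hG.mem 1
  have hkill : ∀ v ∈ S, (N ^ m) v = 0 := fun v hv => hG.pow_zero v (hS ▸ hv)
  -- the first vector
  obtain ⟨R, hR⟩ := diag_kill hU (x := x) (hkill x (hS ▸ hG.mem 0)) (hkill y hym) h2 h3
  have hp1 : WPair B N m S (x + N (aeval N R y)) y := h.add_N hU (hinv.aeval R y hym)
  have hx1 : ∀ i, i + i + 3 = m → g B N M (x + N (aeval N R y)) i = if b = true then 1 else 0 := fun i hi => by
    rw [g_stable hU (m := m) (hkill _ (hinv.aeval R y hym)) (by omega), hx i hi]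
  generalize x + N (aeval N R y) = x1 at hR hp1 hx1
  -- the cross pairings
  obtain ⟨P, hP⟩ := cross_fix hU (x := x1) (z := y) (hkill y hym) hp1.2.2.1 fun _ => 0
  have hp2 : WPair B N m S x1 (y + N (aeval N P y)) :=
    ((hp1.swap hU).add_N hU (hinv.aeval P y hym)).swap hU
  have hy2 : ∀ i, i + i + 3 = m → g B N M (y + N (aeval N P y)) i = if b = true then eps F else 0 := fun i hi => by
    rw [g_stable hU (m := m) (hkill _ (hinv.aeval P y hym)) (by omega), hy i hi]
  generalize y + N (aeval N P y) = y1 at hP hp2 hy2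
  -- a vector with vanishing pairings against the first
  obtain ⟨k1, k2, k3, hG1, hS1⟩ := id hp2
  have hy1m : y1 ∈ S := hS1 ▸ hG1.mem 1
  have hx1m : x1 ∈ S := hS1 ▸ hG1.mem 0
  obtain ⟨Q, hQ⟩ := cross_fix hU (x := x1) (z := x1) (hkill y1 hy1m) k3 fun _ => 0
  have hp3 : WPair B N m S (x1 + N (aeval N Q y1)) y1 := hp2.add_N hU (hinv.aeval Q y1 hy1m)
  have hxs : ∀ a, B x1 ((N ^ a) (x1 + N (aeval N Q y1))) = 0 := fun a => by
    rcases lt_trichotomy (a + 1) m with hlt | heq | hgt
    · exact hQ a hlt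
    · rw [show a = m - 1 by omega, map_add, map_add, k1, ← Module.End.mul_apply (N ^ (m - 1)), ← pow_succ,
        Nat.sub_add_cancel hG1.pos, hkill _ (hinv.aeval Q y1 hy1m), map_zero, add_zero]
    · exact hU.pair_zero (hkill _ hx1m) (by omega) _
  generalize x1 + N (aeval N Q y1) = xs at hp3 hxs
  obtain ⟨m1, m2, m3, hG3, hS3⟩ := id (hp3.swap hU)
  have hxsm : xs ∈ S := hS3 ▸ hG3.mem 1
  obtain ⟨T, hT⟩ := diag_kill hU (x := y1) (hkill y1 hy1m) (hkill xs hxsm) m2 m3
  have hp4 : WPair B N m S x1 (y1 + N (aeval N T xs)) :=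
    ((hp2.swap hU).add_N hU (hinv.aeval T xs hxsm)).swap hU
  obtain ⟨n1, n2, n3, hG4, hS4⟩ := id hp4
  have htop : ∀ v, v ∈ S → B v ((N ^ (m - 1)) v) = 0 → ∀ i, i + i + 1 < m → m ≤ i + i + 2 →
      g B N M v i = 0 := fun v hv hv0 i hi hi' => by
    rw [hU.g_top (hU.pow_zero_of_le (hkill v hv) hi'), show i + i + 1 = m - 1 by omega, hv0]
  refine ⟨![x1, y1 + N (aeval N T xs)], hG4, hS4, fun a => ?_, fun i hi => ?_, fun i hi => ?_⟩
  · simp only [Matrix.cons_val_zero, Matrix.cons_val_one, Matrix.cons_val_fin_one]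
    rcases lt_trichotomy (a + 1) m with hlt | heq | hgt
    · rw [if_neg hlt.ne, map_add, map_add, hP a hlt, zero_add, ← Module.End.mul_apply (N ^ a), ← pow_succ,
        aeval_eq_sum_range, LinearMap.sum_apply, map_sum, map_sum]
      refine Finset.sum_eq_zero fun e _ => ?_
      rw [LinearMap.smul_apply, map_smul, map_smul, ← Module.End.mul_apply, ← pow_add, hxs, smul_zero]
    · rw [if_pos heq, show a = m - 1 by omega, n3]
    · rw [if_neg (by omega), hU.pair_zero (hkill _ hx1m) (by omega)]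
  · simp only [Matrix.cons_val_zero]
    rcases lt_trichotomy (i + i + 3) m with hlt | heq | hgt
    · rw [if_neg (fun h => hlt.ne h.1)]; exact hR i hlt
    · rw [hx1 i heq]; simp [heq]
    · rw [if_neg (fun h => hgt.ne' h.1)]; exact htop _ hx1m n1 i hi (by omega)
  · simp only [Matrix.cons_val_one, Matrix.cons_val_fin_one]
    rcases lt_trichotomy (i + i + 3) m with hlt | heq | hgt
    · rw [if_neg (fun h => hlt.ne h.1)]; exact hT i hlt
    · rw [g_stable hU (m := m) (hkill _ (hinv.aeval T xs hxsm)) (by omega), hy2 i heq]; simp [heq]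
    · rw [if_neg (fun h => hgt.ne' h.1)]; exact htop _ (hS4 ▸ hG4.mem 1) n2 i hi (by omega)

theorem unit_pair {m : ℕ} {S : Submodule F V} {x : Fin 2 → V} (hG : Gens B N m x)
    (hd : ∀ i, B (x i) ((N ^ (m - 1)) (x i)) = 0) (hS : spn N m x = S) :
    ∃ c : F, c ≠ 0 ∧ WPair B N m S (x 0) (c • x 1) := by
  have hne : B (x 0) ((N ^ (m - 1)) (x 1)) ≠ 0 := by
    intro h0
    have := hG.det (fun i : Fin 2 => if i = 0 then 1 else 0) fun j => by
      fin_cases j
      · simpa using hd 0
      · simp only [Fin.sum_univ_two, Fin.mk_one, if_true, one_smul, if_neg (show (1 : Fin 2) ≠ 0 by decide),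
          zero_smul, add_zero]
        rw [hU.top_symm (x := x 0) (by rw [Nat.sub_add_cancel hG.pos]; exact hG.zero 0)]
        exact h0
    exact one_ne_zero (α := F) (by simpa using congrFun this 0)
  refine ⟨(B (x 0) ((N ^ (m - 1)) (x 1)))⁻¹, inv_ne_zero hne, ?_⟩
  have h1 : B (x 0) ((N ^ (m - 1)) ((B (x 0) ((N ^ (m - 1)) (x 1)))⁻¹ • x 1)) = 1 := by
    rw [map_smul, map_smul, smul_eq_mul, inv_mul_cancel₀ hne]
  have h2 : B ((B (x 0) ((N ^ (m - 1)) (x 1)))⁻¹ • x 1)
      ((N ^ (m - 1)) ((B (x 0) ((N ^ (m - 1)) (x 1)))⁻¹ • x 1)) = 0 := by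
    simp only [map_smul, LinearMap.smul_apply, hd 1, smul_zero]
  generalize (B (x 0) ((N ^ (m - 1)) (x 1)))⁻¹ = c at h1 h2
  have hg : Gens B N m ![x 0, c • x 1] := gens_two hU hG.pos (hG.zero 0)
    (by rw [map_smul, hG.zero, smul_zero]) (by rw [hd 0, h1, zero_mul, zero_add, mul_one]; exact one_ne_zero)
  refine ⟨hd 0, h2, h1, hg, (hG.spn_eq hg fun i => ?_).trans hS⟩
  fin_cases i
  · exact hG.mem 0
  · exact Submodule.smul_mem _ c (hG.mem 1)

theorem g_comb {m i : ℕ} {x y : V} (hx : (N ^ m) x = 0) (hy : (N ^ m) y = 0) (hi : i + i + 3 = m) (a b : F) :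
    g B N M (a • x + b • y) i =
      qf (g B N M x i) (B x ((N ^ (m - 1)) y)) (g B N M y i) a b := by
  rw [hU.g_add, hU.g_smul, hU.g_smul, map_smul, map_smul, map_smul, LinearMap.smul_apply, smul_eq_mul, smul_eq_mul,
    qf]
  have h := hU.sop_pow_lead (z := y) (a := 0) (i := i + 1) (hU.pow_zero_of_le hy (by omega))
  rw [pow_zero, Module.End.one_apply, show 0 + (i + 1 + (i + 1)) = m - 1 by omega] at h
  rw [h]
  ring

theorem std_W {m : ℕ} {S : Submodule F V} (h : GBlk B N (.W m) S) : ∃ b, StdBlk M B N (.W m, b) S := by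
  obtain ⟨x0, hG0, hd, hS0⟩ := h
  obtain ⟨c, -, hp⟩ := unit_pair hU hG0 hd hS0
  generalize c • x0 1 = y at hp
  generalize x0 0 = x at hp
  obtain ⟨h1, h2, h3, hG, hS⟩ := id hp
  by_cases hm : ∃ i, i + i + 3 = m
  swap
  · push Not at hm
    exact ⟨false, stdW_of hU hp (fun i hi => absurd hi (hm i)) fun i hi => absurd hi (hm i)⟩
  obtain ⟨i, hi⟩ := hm
  obtain ⟨t, a, b, c, d, hdet, hq1, hq2⟩ := qf_normal (g B N M x i) (g B N M y i)
  have hxm : x ∈ S := hS ▸ hG.mem 0
  have hym : y ∈ S := hS ▸ hG.mem 1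
  have hyx : B y ((N ^ (m - 1)) x) = 1 := by
    rw [hU.top_symm (x := x) (by rw [Nat.sub_add_cancel hG.pos]; exact hG.zero 0), h3]
  have htop : ∀ p q r s : F, B (p • x + q • y) ((N ^ (m - 1)) (r • x + s • y)) = p * s + q * r := by
    intro p q r s
    simp only [map_add, map_smul, LinearMap.add_apply, LinearMap.smul_apply, smul_eq_mul, h1, h2, h3, hyx]
    ring
  have hp' : WPair B N m S (a • x + b • y) (c • x + d • y) := by
    refine wpair_of hU hp (add_mem (S.smul_mem _ hxm) (S.smul_mem _ hym))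
      (add_mem (S.smul_mem _ hxm) (S.smul_mem _ hym)) ?_ ?_ ?_
    · rw [htop, mul_comm b a]; exact add_self_eq_zero' (F := F) _
    · rw [htop, mul_comm d c]; exact add_self_eq_zero' (F := F) _
    · rw [htop]; exact hdet
  refine ⟨t, stdW_of hU hp' (fun j hj => ?_) fun j hj => ?_⟩ <;> obtain rfl : j = i := by omega
  · rw [g_comb hU (x := x) (y := y) (hG.zero 0) (hG.zero 1) hi]
    simp only [h3]
    exact hq1
  · rw [g_comb hU (x := x) (y := y) (hG.zero 0) (hG.zero 1) hi]
    simp only [h3]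
    exact hq2

theorem std_of_gblk : ∀ {T : Blk} {S : Submodule F V}, GBlk B N T S → ∃ b, StdBlk M B N (T, b) S
  | .V _, _, h => std_V hU h
  | .W _, _, h => std_W hU h

omit hU in
theorem StdBlk.gblk (hU : Uni M B N) : ∀ {p : Blk × Bool} {S : Submodule F V}, StdBlk M B N p S → GBlk B N p.1 S := by
  rintro ⟨l | m, b⟩ S h
  · obtain ⟨x, hG, hS, -⟩ := h
    exact ⟨x, hG, hS⟩
  · obtain ⟨x, hG, hS, -, hx, hy⟩ := h
    refine ⟨x, hG, fun j => ?_, hS⟩
    rcases Nat.even_or_odd' m with ⟨i, hi | hi⟩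
    · have hm := hG.pos
      have hg : g B N M (x j) (i - 1) = 0 := by
        fin_cases j
        · rw [show ((⟨0, by omega⟩ : Fin 2)) = 0 from rfl, hx (i - 1) (by omega), if_neg (fun h => by omega)]
        · rw [show ((⟨1, by omega⟩ : Fin 2)) = 1 from rfl, hy (i - 1) (by omega), if_neg (fun h => by omega)]
      rwa [hU.g_top (hU.pow_zero_of_le (hG.zero j) (by omega)), show i - 1 + (i - 1) + 1 = m - 1 by omega] at hg
    · rw [show m - 1 = i + i by omega]
      exact hU.odd_top (hU.pow_zero_of_le (hG.zero j) (by omega))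

end CfsgLib.SpEven
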