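import Cfsg.Agent.SpEven.OData

/-!
# Canonical lists for orthogonal groups

The blocks of a canonical symplectic list get generators on which `Q` vanishes, except `V 2` and `W 1`,
which carry a bit: `Q = eps` on the generator, or the anisotropic pair `(1, eps)`.
-/

set_option autoImplicit false
set_option linter.unusedSectionVars false

namespace CfsgLib.SpEven

open Module Polynomial

variable {F : Type*} [Field F] [CharP F 2] [Finite F] {V : Type*} [AddCommGroup V] [Module F V]
  [FiniteDimensional F V] {M : ℕ} {B : LinearMap.BilinForm F V} {N : V →ₗ[F] V} {Q : QuadraticForm F V}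

/-- Blocks that may carry a bit. -/
def ONode : Blk → Prop
  | .V l => 1 ≤ l
  | .W m => ∃ i, i + i + 1 = m

/-- Where a bit may stay. -/
def OAllowed (T : List Blk) (U : Blk) : Prop := ONode U ∧ ∀ L ∈ T, ¬Low U L

theorem Low.pos_lt' {U L : Blk} (hn : ONode U) (h : Low U L) : L.pos < U.pos := by
  cases U with
  | V l =>
    have hl : 1 ≤ l := hn
    rcases h with rfl | rfl <;> simp only [Blk.pos] <;> omega
  | W m =>
    obtain ⟨l, hl, rfl⟩ := h
    simp only [Blk.pos]
    omega

/-- Values of `Q` on the generators. -/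
noncomputable def q0 (F : Type*) [Field F] [CharP F 2] [Finite F] : Blk → Bool → Fin 2 → F
  | .V l, b, _ => if l = 1 ∧ b = true then eps F else 0
  | .W m, b, i => if m = 1 ∧ b = true then (if i = 0 then 1 else eps F) else 0

/-- A block in normal form with a quadratic form. -/
def OStd (M : ℕ) (Q : QuadraticForm F V) (B : LinearMap.BilinForm F V) (N : V →ₗ[F] V) :
    Blk × Bool → Submodule F V → Prop
  | (.V l, b), S => ∃ x : Fin 1 → V, Gens B N (l + l) x ∧ spn N (l + l) x = S ∧
      (∀ i < l, g B N M (x 0) i = if i + 1 = l then 1 else if i + 2 = l ∧ b = true then eps F else 0) ∧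
      Q (x 0) = q0 F (.V l) b 0
  | (.W m, b), S => ∃ x : Fin 2 → V, Gens B N m x ∧ spn N m x = S ∧
      (∀ a, B (x 0) ((N ^ a) (x 1)) = if a + 1 = m then 1 else 0) ∧
      (∀ i, i + i + 1 < m → g B N M (x 0) i = if i + i + 3 = m ∧ b = true then 1 else 0) ∧
      (∀ i, i + i + 1 < m → g B N M (x 1) i = if i + i + 3 = m ∧ b = true then eps F else 0) ∧
      ∀ j, Q (x j) = q0 F (.W m) b j

theorem OStd.std : ∀ {p : Blk × Bool} {S : Submodule F V}, OStd M Q B N p S → StdBlk M B N p S
  | (.V _, _), _, h => by obtain ⟨x, h1, h2, h3, -⟩ := h; exact ⟨x, h1, h2, h3⟩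
  | (.W _, _), _, h => by obtain ⟨x, h1, h2, h3, h4, h5, -⟩ := h; exact ⟨x, h1, h2, h3, h4, h5⟩

variable (hQ : OUni M Q B N)
include hQ

/-- Blocks other than `V 1`, `W 1` can have generators with `Q = 0`. -/
theorem ostd_high {U : Blk} {b : Bool} {S : Submodule F V} (hV : U ≠ .V 1) (hW : U ≠ .W 1)
    (h : StdBlk M B N (U, b) S) : OStd M Q B N (U, b) S := by
  have hU := hQ.uni
  cases U with
  | V l =>
    obtain ⟨x, hG, hS, hx⟩ := h
    have hl : 2 ≤ l := by
      have := hG.pos
      rcases Nat.lt_or_ge l 2 with h | h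
      · exact absurd (by rw [show l = 1 by omega]) hV
      · exact h
    have hxn : (N ^ (l + l)) (x 0) = 0 := hG.zero 0
    set c := Q (x 0)
    set z := x 0 + c • (N * sop N M ^ (l - 1)) (x 0) with hz
    have hzS : z ∈ spn N (l + l) x := add_mem (hG.mem 0) (Submodule.smul_mem _ _ (by
      rw [Module.End.mul_apply]; exact hG.inv _ (hG.inv.sop_pow _ _ (hG.mem 0))))
    have hhi : ∀ e, l ≤ e → g B N M (x 0) e = 0 := fun e he => hU.g_zero (hU.pow_zero_of_le hxn (by omega))
    have hzg : ∀ i, g B N M z i = g B N M (x 0) i := fun i => by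
      rw [hU.g_scale_odd, hhi _ (show l ≤ i + (l - 1 + (l - 1)) + 1 by omega), hhi _ (show l ≤ i + (l - 1) + 1 by omega),
        mul_zero, mul_zero, add_zero, add_zero]
    have hzn : (N ^ (l + l)) z = 0 := hG.pow_zero z hzS
    have hzt : B z ((N ^ (l + l - 1)) z) ≠ 0 := by
      have h1 := hU.g_top (x := z) (i := l - 1) (hU.pow_zero_of_le hzn (by omega))
      rw [hzg, hx _ (by omega), if_pos (by omega), show l - 1 + (l - 1) + 1 = l + l - 1 by omega] at h1
      rw [← h1]; exact one_ne_zero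
    have hg := gens_one hG.pos hzn hzt
    refine ⟨![z], hg, ?_, fun i hi => (hzg i).trans (hx i hi), ?_⟩
    · rw [← hS]; exact hG.spn_eq hg fun i => by fin_cases i; exact hzS
    · simp only [Matrix.cons_val_fin_one, q0, show ¬(l = 1) by omega, false_and, if_false]
      rw [hQ.pol, QuadraticMap.map_smul, map_smul, smul_eq_mul, smul_eq_mul]
      have e1 : B (x 0) ((N * sop N M ^ (l - 1)) (x 0)) = 1 := by
        show g B N M (x 0) (l - 1) = 1
        rw [hx _ (by omega), if_pos (by omega)]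
      have e2 : Q ((N * sop N M ^ (l - 1)) (x 0)) = 0 := by
        rw [Module.End.mul_apply, hQ.map_N]
        have h := hU.g_sop (x 0) 0 (l - 1)
        simp only [g, pow_zero, mul_one] at h
        rw [h]
        exact hhi _ (by omega)
      rw [e1, e2, mul_zero, add_zero, mul_one]
      exact add_self_eq_zero' (F := F) c
  | W m =>
    obtain ⟨x, hG, hS, hc, hx, hy⟩ := h
    have hm : 2 ≤ m := by
      have := hG.pos
      rcases Nat.lt_or_ge m 2 with h | h
      · exact absurd (by rw [show m = 1 by omega]) hW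
      · exact h
    have hd : ∀ j, B (x j) ((N ^ (m - 1)) (x j)) = 0 := by
      intro j
      rcases Nat.even_or_odd' m with ⟨i, hi | hi⟩
      · have h1 : g B N M (x j) (i - 1) = 0 := by
          fin_cases j
          · exact (hx (i - 1) (by omega)).trans (if_neg (fun h => by omega))
          · exact (hy (i - 1) (by omega)).trans (if_neg (fun h => by omega))
        rwa [hU.g_top (hU.pow_zero_of_le (hG.zero j) (by omega)), show i - 1 + (i - 1) + 1 = m - 1 by omega] at h1
      · rw [show m - 1 = i + i by omega]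
        exact hU.odd_top (hU.pow_zero_of_le (hG.zero j) (by omega))
    have h01 : B (x 0) ((N ^ (m - 1)) (x 1)) = 1 := by rw [hc, if_pos (by omega)]
    have h10 : B (x 1) ((N ^ (m - 1)) (x 0)) = 1 := by
      rw [hU.top_symm (x := x 0) (by rw [Nat.sub_add_cancel hG.pos]; exact hG.zero 0), h01]
    -- the correction terms do not affect the coordinates
    have hQN : ∀ j, Q ((N ^ (m - 1)) (x j)) = 0 := fun j => by
      rw [show m - 1 = m - 2 + 1 by omega, hQ.map_pow]
      rcases Nat.lt_or_ge (m - 2 + (m - 2) + 1) m with h | h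
      · rw [hU.g_top (hU.pow_zero_of_le (hG.zero j) (show m ≤ m - 2 + (m - 2) + 2 by omega)),
          show m - 2 + (m - 2) + 1 = m - 1 by omega, hd]
      · exact hU.g_zero (hU.pow_zero_of_le (hG.zero j) h)
    have hgN : ∀ j i, g B N M ((N ^ (m - 1)) (x j)) i = 0 := fun j i => by
      rw [hU.g_pow]; exact hU.g_zero (hU.pow_zero_of_le (hG.zero j) (by omega))
    have hsN : ∀ j i, (sop N M ^ (i + 1)) ((N ^ (m - 1)) (x j)) = 0 := fun j i =>
      sop_kill hU (hG.zero j) (by omega)
    set a := Q (x 0)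
    set b' := Q (x 1)
    set z0 := x 0 + a • (N ^ (m - 1)) (x 1) with hz0
    set z1 := x 1 + b' • (N ^ (m - 1)) (x 0) with hz1
    have hcr : ∀ e, B z0 ((N ^ e) z1) = B (x 0) ((N ^ e) (x 1)) := fun e => by
      simp only [z0, z1, map_add, map_smul, LinearMap.add_apply, LinearMap.smul_apply, smul_eq_mul, pow_pow_apply]
      rcases Nat.eq_zero_or_pos e with rfl | he
      · have hNN : B ((N ^ (m - 1)) (x 1)) ((N ^ (m - 1)) (x 0)) = 0 := by
          rw [hU.adj_pow, ← Module.End.mul_apply, hU.nb_pow_zero (hU.pow_zero_of_le (hG.zero 0) (by omega)), map_zero]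
        simp only [pow_zero, Module.End.one_apply, Nat.zero_add, hd 0, hNN]
        rw [show B ((N ^ (m - 1)) (x 1)) (x 1) = 0 by rw [hU.symm]; exact hd 1]
        simp
      · rw [hU.pow_zero_of_le (hG.zero 0) (show m ≤ e + (m - 1) by omega), map_zero, map_zero, mul_zero, add_zero,
          mul_zero, add_zero, hU.adj_pow, ← Module.End.mul_apply,
          hU.nb_pow_zero (hU.pow_zero_of_le (hG.zero 1) (show m ≤ e + (m - 1) by omega)), map_zero, mul_zero, add_zero]
    have hz0S : z0 ∈ spn N m x := add_mem (hG.mem 0) (Submodule.smul_mem _ _ (hG.inv.pow _ _ (hG.mem 1)))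
    have hz1S : z1 ∈ spn N m x := add_mem (hG.mem 1) (Submodule.smul_mem _ _ (hG.inv.pow _ _ (hG.mem 0)))
    have hz0n := hG.pow_zero z0 hz0S
    have hz1n := hG.pow_zero z1 hz1S
    have hg0 : ∀ i, g B N M z0 i = g B N M (x 0) i := fun i => by
      rw [hU.g_add, hU.g_smul, hgN, map_smul, hsN, smul_zero, map_zero, mul_zero, add_zero, add_zero]
    have hg1 : ∀ i, g B N M z1 i = g B N M (x 1) i := fun i => by
      rw [hU.g_add, hU.g_smul, hgN, map_smul, hsN, smul_zero, map_zero, mul_zero, add_zero, add_zero]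
    have hd0 : B z0 ((N ^ (m - 1)) z0) = 0 := by
      rcases Nat.even_or_odd' m with ⟨i, hi | hi⟩
      · have h1 := hU.g_top (x := z0) (i := i - 1) (hU.pow_zero_of_le hz0n (by omega))
        rw [hg0, hx _ (by omega), if_neg (fun h => by omega), show i - 1 + (i - 1) + 1 = m - 1 by omega] at h1
        exact h1.symm
      · rw [show m - 1 = i + i by omega]; exact hU.odd_top (hU.pow_zero_of_le hz0n (by omega))
    have hg : Gens B N m ![z0, z1] := gens_two hU hG.pos hz0n hz1n (by
      rw [hd0, hcr, h01, zero_mul, zero_add, mul_one]; exact one_ne_zero)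
    refine ⟨![z0, z1], hg, ?_, fun e => (hcr e).trans (hc e), fun i hi => (hg0 i).trans (hx i hi),
      fun i hi => (hg1 i).trans (hy i hi), fun j => ?_⟩
    · rw [← hS]; exact hG.spn_eq hg fun i => by fin_cases i; exacts [hz0S, hz1S]
    · simp only [q0, show ¬(m = 1) by omega, false_and, if_false]
      fin_cases j
      · show Q z0 = 0
        rw [hz0, hQ.pol, QuadraticMap.map_smul, hQN, map_smul, h01, smul_zero, add_zero, smul_eq_mul, mul_one]
        exact add_self_eq_zero' (F := F) _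
      · show Q z1 = 0
        rw [hz1, hQ.pol, QuadraticMap.map_smul, hQN, map_smul, h10, smul_zero, add_zero, smul_eq_mul, mul_one]
        exact add_self_eq_zero' (F := F) _

/-- `V 2` with one bit. -/
theorem ostd_V1_of {S : Submodule F V} {x : V} {b : Bool} (hG : Gens B N (1 + 1) ![x]) (hS : spn N (1 + 1) ![x] = S)
    (ht : B x (N x) = 1) (hb : Q x = if b = true then eps F else 0) : OStd M Q B N (.V 1, b) S := by
  refine ⟨![x], hG, hS, fun i hi => ?_, ?_⟩
  · obtain rfl : i = 0 := by omega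
    rw [if_pos rfl, hQ.uni.g_top (hQ.uni.pow_zero_of_le (hG.zero 0) (by omega))]
    simpa using ht
  · simpa [q0] using hb

/-- `W 1` with one bit. -/
theorem ostd_W1_of {S : Submodule F V} {x y : V} {b : Bool} (h : WPair B N 1 S x y)
    (hx : Q x = if b = true then 1 else 0) (hy : Q y = if b = true then eps F else 0) :
    OStd M Q B N (.W 1, b) S := by
  obtain ⟨-, -, h3, hG, hS⟩ := h
  refine ⟨![x, y], hG, hS, fun a => ?_, fun i hi => by omega, fun i hi => by omega, fun j => ?_⟩
  · rcases Nat.eq_zero_or_pos a with rfl | ha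
    · simpa using h3
    · rw [if_neg (by omega), hQ.uni.pair_zero (hG.zero 0) (by omega)]
  · fin_cases j <;> simp [q0, hx, hy]

theorem ostd_low {U : Blk} {S : Submodule F V} (hU' : U = .V 1 ∨ U = .W 1) (h : StdBlk M B N (U, false) S) :
    ∃ b, OStd M Q B N (U, b) S := by
  have hU := hQ.uni
  rcases hU' with rfl | rfl
  · obtain ⟨x0, hG0, hS0⟩ := h.gblk hU
    obtain ⟨x, hG, htop, hS⟩ := (show GBlk B N (.V 1) S from ⟨x0, hG0, hS0⟩).unit_gen hU
    rw [show 1 + 1 - 1 = 1 from rfl, pow_one] at htop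
    obtain ⟨b, c, hc⟩ := wp_reduce F (Q x)
    have hNN : N (N x) = 0 := by
      have := hG.zero 0
      rwa [show (1 : ℕ) + 1 = 2 from rfl, pow_two, Module.End.mul_apply] at this
    have hQN : Q (N x) = 1 := by rw [hQ.map_N, htop]
    have hxn : (N ^ (1 + 1)) x = 0 := hG.zero 0
    set z := x + c • N x with hz
    have hzS : z ∈ spn N (1 + 1) ![x] := add_mem (hG.mem 0) (Submodule.smul_mem _ _ (hG.inv _ (hG.mem 0)))
    have hNx : B (N x) (N x) = 0 := hU.alt _
    have hzt : B z (N z) = 1 := by simp [z, htop, hNN, hNx]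
    have hg : Gens B N (1 + 1) ![z] := gens_one hG.pos (hG.pow_zero z hzS)
      (by rw [show 1 + 1 - 1 = 1 from rfl, pow_one, hzt]; exact one_ne_zero)
    refine ⟨b, ostd_V1_of hQ hg ((hG.spn_eq hg fun i => by fin_cases i; exact hzS).trans hS) hzt ?_⟩
    rw [hz, hQ.pol, QuadraticMap.map_smul, map_smul, hQN, htop, smul_eq_mul, smul_eq_mul, mul_one, mul_one, add_assoc, hc]
  · obtain ⟨x0, hG0, hd, hS0⟩ := h.gblk hU
    obtain ⟨c, -, hp⟩ := unit_pair hU hG0 hd hS0
    generalize c • x0 1 = y at hp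
    generalize x0 0 = x at hp
    obtain ⟨h1, h2, h3, hG, hS⟩ := id hp
    obtain ⟨t, a, b, c, d, hdet, hq1, hq2⟩ := qf_normal (Q x) (Q y)
    simp only [Nat.sub_self, pow_zero, Module.End.one_apply] at h1 h2 h3
    have hyx : B y x = 1 := by rw [hU.symm, h3]
    have hxS : x ∈ S := hS ▸ hG.mem 0
    have hyS : y ∈ S := hS ▸ hG.mem 1
    have hp' : WPair B N 1 S (a • x + b • y) (c • x + d • y) := by
      refine wpair_of hU hp (add_mem (S.smul_mem _ hxS) (S.smul_mem _ hyS))
        (add_mem (S.smul_mem _ hxS) (S.smul_mem _ hyS)) (by rw [Nat.sub_self, pow_zero, Module.End.one_apply]; exact hU.alt _)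
        (by rw [Nat.sub_self, pow_zero, Module.End.one_apply]; exact hU.alt _) ?_
      simp only [Nat.sub_self, pow_zero, Module.End.one_apply, map_add, map_smul, LinearMap.add_apply,
        LinearMap.smul_apply, smul_eq_mul, h1, h2, h3, hyx]
      linear_combination hdet
    refine ⟨t, ostd_W1_of hQ hp' ?_ ?_⟩
    · rw [hQ.map_comb, h3]; exact hq1
    · rw [hQ.map_comb, h3]; exact hq2

/-- A low block loses its bit against another low block. -/
theorem clear_low {U L : Blk} {L0 : List (Blk × Bool)} {W : Submodule F V}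
    (hlink : (U = .V 1 ∧ (L = .V 1 ∨ L = .W 1)) ∨ (U = .W 1 ∧ L = .W 1))
    (h : Has B (StdBlk M B N) ((U, false) :: (L, false) :: L0) W) :
    ∃ S ≤ W, OStd M Q B N (U, false) S ∧ Has B (StdBlk M B N) ((L, false) :: L0) (W ⊓ B.orthogonal S) := by
  have hU := hQ.uni
  obtain ⟨S, hS, hSU, T, hT, hTL, hrest⟩ := h
  suffices hh : ∃ S' T' : Submodule F V, OStd M Q B N (U, false) S' ∧ GBlk B N L T' ∧ T' ≤ B.orthogonal S' ∧
      S' ⊔ T' = S ⊔ T by
    obtain ⟨S', T', h1, h2, h3, h4⟩ := hh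
    have hW : S' ⊔ T' ≤ W := h4 ▸ sup_le hS (hT.trans inf_le_left)
    obtain ⟨b, hb⟩ := std_of_gblk hU h2
    have hLn : ¬Node L := by
      rcases hlink with ⟨-, rfl | rfl⟩ | ⟨-, rfl⟩ <;> simp [Node]
    refine ⟨S', le_sup_left.trans hW, h1, T', le_inf (le_sup_right.trans hW) h3, std_false_of_not_node hLn hb, ?_⟩
    rwa [inf_assoc, ← orth_sup, h4, orth_sup, ← inf_assoc]
  have horth : T ≤ B.orthogonal S := hT.trans inf_le_right
  have hz : ∀ {v w : V}, v ∈ S → w ∈ T → B v w = 0 ∧ B w v = 0 := fun hv hw =>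
    ⟨horth hw _ hv, by rw [hU.symm]; exact horth hw _ hv⟩
  have hW1 : ∀ {y' : Fin 2 → V}, Gens B N 1 y' → GBlk B N (.W 1) (spn N 1 y') := fun {y'} h =>
    ⟨y', h, fun j => by simp [hU.alt], rfl⟩
  rcases hlink with ⟨rfl, hL⟩ | ⟨rfl, rfl⟩
  · -- `V 2` on top
    obtain ⟨x, hG, htop, rfl⟩ := ((hSU.gblk hU : GBlk B N (.V 1) S)).unit_gen hU
    have hxm : x ∈ spn N (1 + 1) ![x] := hG.mem 0
    obtain ⟨s, h, y, w, hH, hTy, hw, hwn, hwt, hwQ, hmk⟩ : ∃ (s h : ℕ) (y : Fin s → V) (w : V), Gens B N h y ∧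
        spn N h y = T ∧ w ∈ T ∧ (N ^ (1 + 1)) w = 0 ∧ B w (N w) = 0 ∧ Q w = Q x ∧
        ∀ y' : Fin s → V, Gens B N h y' → GBlk B N L (spn N h y') := by
      rcases hL with rfl | rfl
      · obtain ⟨y, hH, hyt, rfl⟩ := ((hTL.gblk hU : GBlk B N (.V 1) T)).unit_gen hU
        obtain ⟨c, hc⟩ := exists_sqrt (Q x)
        rw [show 1 + 1 - 1 = 1 from rfl, pow_one] at hyt
        refine ⟨1, 1 + 1, ![y], c • N y, hH, rfl, Submodule.smul_mem _ _ (hH.inv _ (hH.mem 0)), ?_, ?_, ?_,
          fun y' h => ⟨y', h, rfl⟩⟩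
        · exact hH.pow_zero _ (Submodule.smul_mem _ _ (hH.inv _ (hH.mem 0)))
        · have hNN : N (N y) = 0 := by
            have := hH.zero 0
            rwa [show (1 : ℕ) + 1 = 2 from rfl, pow_two, Module.End.mul_apply] at this
          simp [hNN]
        · rw [QuadraticMap.map_smul, hQ.map_N, hyt, smul_eq_mul, mul_one, hc]
      · obtain ⟨y, hH0, hd, hTy0⟩ := (hTL.gblk hU : GBlk B N (.W 1) T)
        obtain ⟨e, -, hp⟩ := unit_pair hU hH0 hd hTy0
        obtain ⟨-, -, h3, hH, hTy⟩ := id hp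
        simp only [Nat.sub_self, pow_zero, Module.End.one_apply] at h3
        obtain ⟨a, b, hab⟩ := qf_surj (one_ne_zero (α := F)) (Q (y 0)) (Q (e • y 1)) (Q x)
        have hwm : a • y 0 + b • e • y 1 ∈ spn N 1 ![y 0, e • y 1] :=
          add_mem (Submodule.smul_mem _ _ (hH.mem 0)) (Submodule.smul_mem _ _ (hH.mem 1))
        have hNw : N (a • y 0 + b • e • y 1) = 0 := by simpa using hH.pow_zero _ hwm
        refine ⟨2, 1, ![y 0, e • y 1], a • y 0 + b • e • y 1, hH, hTy, hTy ▸ hwm, ?_, ?_,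
          by rw [hQ.map_comb, h3]; exact hab, fun y' h => hW1 h⟩
        · rw [pow_succ', Module.End.mul_apply, pow_one, hNw, map_zero]
        · rw [hNw, map_zero]
    subst hTy
    rw [show 1 + 1 - 1 = 1 from rfl, pow_one] at htop
    have hxw : B x w = 0 := (hz hxm hw).1
    have hxNw : B x (N w) = 0 := (hz hxm (hH.inv w hw)).1
    have hwNx : B w (N x) = 0 := (hz (hG.inv _ hxm) hw).2
    have hxn : (N ^ (1 + 1)) x = 0 := hG.zero 0
    have hzn : (N ^ (1 + 1)) (x + w) = 0 := by rw [map_add, hxn, hwn, add_zero]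
    have htz : B (x + w) (N (x + w)) = 1 := by simp [htop, hwt, hxNw, hwNx]
    have hg' : Gens B N (1 + 1) ![x + w] :=
      gens_one hG.pos hzn (by rw [show 1 + 1 - 1 = 1 from rfl, pow_one, htz]; exact one_ne_zero)
    have he : (fun i => (![x] : Fin 1 → V) i + ![w] i) = ![x + w] := by funext i; fin_cases i; rfl
    obtain ⟨y', gy, -, hyo, heq⟩ := shear hU hG hH horth (w := ![w]) (fun i => by fin_cases i; exact hw)
      (by rw [he]; exact hg')
    rw [he] at hyo heq
    refine ⟨_, _, ostd_V1_of hQ hg' rfl htz ?_, hmk y' gy, hyo, heq⟩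
    rw [hQ.pol, hxw, add_zero, hwQ, if_neg Bool.false_ne_true]
    exact add_self_eq_zero' (F := F) _
  · -- two `W 1`
    obtain ⟨x0, hG0, hd0, hS0⟩ := (hSU.gblk hU : GBlk B N (.W 1) S)
    obtain ⟨c, -, hp⟩ := unit_pair hU hG0 hd0 hS0
    generalize c • x0 1 = y0 at hp
    generalize x0 0 = x at hp
    obtain ⟨h1, h2, h3, hG, rfl⟩ := id hp
    obtain ⟨y1, hH0, hd1, hTy0⟩ := (hTL.gblk hU : GBlk B N (.W 1) T)
    obtain ⟨e, -, hpy⟩ := unit_pair hU hH0 hd1 hTy0
    obtain ⟨-, -, k3, hH, rfl⟩ := id hpy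
    simp only [Nat.sub_self, pow_zero, Module.End.one_apply] at h3 k3
    obtain ⟨a, b, hab⟩ := qf_surj (one_ne_zero (α := F)) (Q (y1 0)) (Q (e • y1 1)) (Q x)
    set w := a • y1 0 + b • e • y1 1
    have hw : w ∈ spn N 1 ![y1 0, e • y1 1] :=
      add_mem (Submodule.smul_mem _ _ (hH.mem 0)) (Submodule.smul_mem _ _ (hH.mem 1))
    have hwQ : Q w = Q x := by rw [hQ.map_comb, k3]; exact hab
    have hxm : x ∈ spn N 1 ![x, y0] := hG.mem 0
    have hym : y0 ∈ spn N 1 ![x, y0] := hG.mem 1
    have hzy : B (x + w) y0 = 1 := by rw [map_add, LinearMap.add_apply, h3, (hz hym hw).2, add_zero]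
    have hz0 : (N ^ 1) (x + w) = 0 := by
      rw [map_add, show (N ^ 1) x = 0 from hG.zero 0, hH.pow_zero w hw, add_zero]
    have hg' : Gens B N 1 ![x + w, y0] := gens_two hU hG.pos hz0 (hG.zero 1) (by
      simp only [Nat.sub_self, pow_zero, Module.End.one_apply]
      rw [hU.alt, hzy]
      simp)
    have he : (fun j => (![x, y0] : Fin 2 → V) j + ![w, 0] j) = ![x + w, y0] := by
      funext j; fin_cases j <;> simp
    obtain ⟨y', gy, -, hyo, heq⟩ := shear hU hG hH horth (w := ![w, 0])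
      (fun j => by fin_cases j; exacts [hw, zero_mem _]) (by rw [he]; exact hg')
    rw [he] at hyo heq
    set S' := spn N 1 ![x + w, y0]
    have hq : Q (x + w) = 0 := by
      rw [hQ.pol, (hz hxm hw).1, add_zero, hwQ]; exact add_self_eq_zero' (F := F) _
    set r := Q y0 with hr
    have hp' : WPair B N 1 S' (x + w) y0 :=
      ⟨(by rw [Nat.sub_self, pow_zero, Module.End.one_apply]; exact hU.alt _), (by rw [Nat.sub_self, pow_zero, Module.End.one_apply]; exact hU.alt _), by simpa using hzy, hg', rfl⟩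
    have hp2 : WPair B N 1 S' (x + w) (r • (x + w) + y0) := by
      refine wpair_of hU hp' (hg'.mem 0) (add_mem (Submodule.smul_mem _ _ (hg'.mem 0)) (hg'.mem 1))
        (by rw [Nat.sub_self, pow_zero, Module.End.one_apply]; exact hU.alt _)
        (by rw [Nat.sub_self, pow_zero, Module.End.one_apply]; exact hU.alt _) ?_
      simp only [Nat.sub_self, pow_zero, Module.End.one_apply]
      rw [map_add (B (x + w)), map_smul, hU.alt, hzy, smul_zero, zero_add]
    refine ⟨_, _, ostd_W1_of hQ hp2 (by rw [hq]; simp) ?_, hW1 gy, hyo, heq⟩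
    rw [hQ.pol, QuadraticMap.map_smul, map_smul, LinearMap.smul_apply, hq, hzy, ← hr, if_neg Bool.false_ne_true]
    simp only [smul_eq_mul, mul_zero, zero_add, mul_one]
    exact add_self_eq_zero' (F := F) r

theorem exists_ocanon_aux : ∀ {L : List (Blk × Bool)} {W : Submodule F V}, Has B (StdBlk M B N) L W →
    (∀ p ∈ L, p.2 = true → p.1 ≠ .V 1 ∧ p.1 ≠ .W 1) →
    ∃ L' : List (Blk × Bool), (L'.map Prod.fst).Perm (L.map Prod.fst) ∧ Has B (OStd M Q B N) L' W ∧
      (∀ U, U ≠ .V 1 → U ≠ .W 1 → L'.count (U, true) = L.count (U, true)) ∧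
      ((Blk.V 1, true) ∈ L' → Blk.W 1 ∉ L.map Prod.fst) ∧
      L'.count (.V 1, true) ≤ 1 ∧ L'.count (.W 1, true) ≤ 1 := by
  classical
  have hU := hQ.uni
  intro L
  generalize hn : L.length = n
  induction n generalizing L with
  | zero =>
    intro W h _
    obtain rfl := List.length_eq_zero_iff.1 hn
    exact ⟨[], List.Perm.refl _, h, fun U _ _ => rfl, fun h => by simp at h, by simp, by simp⟩
  | succ n ih =>
    intro W h hbits
    obtain ⟨p, hp, hfirst⟩ : ∃ p ∈ L, (p.1 ≠ .V 1 ∧ p.1 ≠ .W 1) ∨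
        ((∀ q ∈ L, q.1 = .V 1 ∨ q.1 = .W 1) ∧ (p.1 = .V 1 ∨ ∀ q ∈ L, q.1 = .W 1)) := by
      by_cases hhigh : ∃ p ∈ L, p.1 ≠ .V 1 ∧ p.1 ≠ .W 1
      · obtain ⟨p, hp, h'⟩ := hhigh; exact ⟨p, hp, Or.inl h'⟩
      · push Not at hhigh
        have hlow : ∀ q ∈ L, q.1 = .V 1 ∨ q.1 = .W 1 := fun q hq => or_iff_not_imp_left.2 (hhigh q hq)
        by_cases hV : ∃ p ∈ L, p.1 = Blk.V 1
        · obtain ⟨p, hp, h'⟩ := hV; exact ⟨p, hp, Or.inr ⟨hlow, Or.inl h'⟩⟩
        · push Not at hV
          exact ⟨L.head (List.ne_nil_of_length_eq_add_one hn), List.head_mem _,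
            Or.inr ⟨hlow, Or.inr fun q hq => (hlow q hq).resolve_left (hV q hq)⟩⟩
    set R := L.erase p with hR
    have hperm : L.Perm (p :: R) := List.perm_cons_erase hp
    have hlen : R.length = n := by rw [hR, List.length_erase_of_mem hp, hn]; rfl
    have hL := Has.perm hU hperm h
    have hbR : ∀ q ∈ R, q.2 = true → q.1 ≠ .V 1 ∧ q.1 ≠ .W 1 := fun q hq => hbits q (List.mem_of_mem_erase hq)
    obtain ⟨U, b0⟩ := p
    obtain ⟨b, S, hSW, hS, hrest, hb⟩ : ∃ (b : Bool) (S : Submodule F V), S ≤ W ∧ OStd M Q B N (U, b) S ∧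
        Has B (StdBlk M B N) R (W ⊓ B.orthogonal S) ∧
        ((U ≠ .V 1 ∧ U ≠ .W 1 ∧ b = b0) ∨ ((U = .V 1 ∨ U = .W 1) ∧ b0 = false ∧
          (∀ q ∈ L, q.1 = Blk.V 1 ∨ q.1 = .W 1) ∧ (U = .V 1 ∨ ∀ q ∈ L, q.1 = Blk.W 1) ∧
          (b = true → U ∉ R.map Prod.fst ∧ (U = .V 1 → Blk.W 1 ∉ R.map Prod.fst)))) := by
      rcases hfirst with hhigh | ⟨hlow, hchoice⟩
      · obtain ⟨S, hSW, hS, hrest⟩ := hL
        exact ⟨b0, S, hSW, ostd_high hQ hhigh.1 hhigh.2 hS, hrest, Or.inl ⟨hhigh.1, hhigh.2, rfl⟩⟩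
      · have hUlow : U = .V 1 ∨ U = .W 1 := hlow _ hp
        have hb0 : b0 = false := by
          rcases b0 with _ | _
          · rfl
          · exact absurd hUlow (fun h => by have := hbits _ hp rfl; tauto)
        subst hb0
        by_cases hlink : ∃ q ∈ R, q.1 = U ∨ (U = .V 1 ∧ q.1 = .W 1)
        · obtain ⟨⟨X, bX⟩, hX, hXU⟩ := hlink
          have hXb : bX = false := by
            rcases bX with _ | _
            · rfl
            · exact absurd (hlow _ (List.mem_of_mem_erase hX)) (fun h => by have := hbR _ hX rfl; tauto)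
          subst hXb
          have hp' : R.Perm ((X, false) :: R.erase (X, false)) := List.perm_cons_erase hX
          have hlk : (U = .V 1 ∧ (X = .V 1 ∨ X = .W 1)) ∨ (U = .W 1 ∧ X = .W 1) := by
            simp only at hXU
            rcases hXU with rfl | ⟨rfl, rfl⟩
            · rcases hUlow with rfl | rfl <;> simp
            · simp
          obtain ⟨S, h1, h2, h3⟩ := clear_low hQ hlk (Has.perm hU (hp'.cons _) hL)
          exact ⟨false, S, h1, h2, Has.perm hU hp'.symm h3,
            Or.inr ⟨hUlow, rfl, hlow, hchoice, fun h => Bool.noConfusion h⟩⟩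
        · obtain ⟨S, hSW, hS, hrest⟩ := hL
          obtain ⟨b, hb⟩ := ostd_low hQ hUlow hS
          refine ⟨b, S, hSW, hb, hrest, Or.inr ⟨hUlow, rfl, hlow, hchoice, fun _ => ⟨fun hm => ?_, fun hV hm => ?_⟩⟩⟩
          · obtain ⟨q, hq, hqe⟩ := List.mem_map.1 hm
            exact hlink ⟨q, hq, Or.inl hqe⟩
          · obtain ⟨q, hq, hqe⟩ := List.mem_map.1 hm
            exact hlink ⟨q, hq, Or.inr ⟨hV, hqe⟩⟩
    obtain ⟨L', hLp, hL', hcnt, hV1, hc1, hc2⟩ := ih hlen hrest hbR
    have hcount : ∀ X : Blk × Bool, L.count X = R.count X + if (U, b0) = X then 1 else 0 := fun X => by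
      rw [hperm.count_eq X, List.count_cons]; simp [beq_iff_eq]
    have hperm' := (hperm.map Prod.fst)
    rw [List.map_cons] at hperm'
    refine ⟨(U, b) :: L', ?_, ⟨S, hSW, hS, hL'⟩, fun X hX hX' => ?_, ?_, ?_, ?_⟩
    · rw [List.map_cons]; exact (hLp.cons U).trans hperm'.symm
    · rw [List.count_cons, hcount, hcnt X hX hX']
      rcases hb with ⟨-, -, rfl⟩ | ⟨hUlow, -⟩
      · simp [beq_iff_eq]
      · have hne : U ≠ X := by rintro rfl; tauto
        simp [hne]
    · intro hm hW1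
      rcases List.mem_cons.1 hm with he | hm
      · obtain ⟨hUe, hb'⟩ := Prod.mk.inj he
        rcases hb with ⟨h1, -, -⟩ | ⟨-, -, -, -, hh⟩
        · exact h1 hUe.symm
        · rcases List.mem_cons.1 (hperm'.mem_iff.1 hW1) with h | h
          · rw [← hUe] at h; exact absurd h (by simp)
          · exact (hh hb'.symm).2 hUe.symm h
      · rcases List.mem_cons.1 (hperm'.mem_iff.1 hW1) with h | h
        · rcases hb with ⟨-, h2, -⟩ | ⟨-, -, -, hchoice, -⟩
          · exact h2 h.symm
          · rcases hchoice with h' | h'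
            · rw [h'] at h; exact absurd h (by simp)
            · obtain ⟨q, hq, hqe⟩ := List.mem_map.1 (hLp.mem_iff.1 (List.mem_map.2 ⟨_, hm, rfl⟩))
              have := h' q (List.mem_of_mem_erase hq)
              rw [hqe] at this
              exact absurd this (by simp)
        · exact hV1 hm h
    · rw [List.count_cons]
      split_ifs with he
      · obtain ⟨hUe, hb'⟩ := Prod.mk.inj (beq_iff_eq.1 he)
        have h0 : L'.count (.V 1, true) = 0 := List.count_eq_zero.2 fun hm => by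
          have hm' := hLp.mem_iff.1 (List.mem_map.2 ⟨_, hm, rfl⟩)
          rcases hb with ⟨h1, -, -⟩ | ⟨-, -, -, -, hh⟩
          · exact h1 hUe
          · exact (hh hb').1 (hUe ▸ hm')
        omega
      · omega
    · rw [List.count_cons]
      split_ifs with he
      · obtain ⟨hUe, hb'⟩ := Prod.mk.inj (beq_iff_eq.1 he)
        have h0 : L'.count (.W 1, true) = 0 := List.count_eq_zero.2 fun hm => by
          have hm' := hLp.mem_iff.1 (List.mem_map.2 ⟨_, hm, rfl⟩)
          rcases hb with ⟨-, h1, -⟩ | ⟨-, -, -, -, hh⟩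
          · exact h1 hUe
          · exact (hh hb').1 (hUe ▸ hm')
        omega
      · omega

/-- Every space has a canonical orthogonal list. -/
theorem exists_ocanon {T : List Blk} {W : Submodule F V} (h : Has B (GBlk B N) T W) :
    ∃ L : List (Blk × Bool), (L.map Prod.fst).Perm T ∧ Has B (OStd M Q B N) L W ∧
      (∀ U, (U, true) ∈ L → OAllowed T U) ∧ ∀ U, L.count (U, true) ≤ 1 := by
  obtain ⟨L, hp, hL, hall, hc⟩ := exists_canon hQ.uni h
  have hlowbits : ∀ p ∈ L, p.2 = true → p.1 ≠ .V 1 ∧ p.1 ≠ .W 1 := by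
    rintro ⟨U, b⟩ hm hb
    obtain rfl : b = true := hb
    have hn := (hall U hm).1
    constructor <;> rintro rfl <;> simp [Node] at hn
  obtain ⟨L', hp', hL', hcnt, hV1, hc1, hc2⟩ := exists_ocanon_aux hQ hL hlowbits
  refine ⟨L', hp'.trans hp, hL', fun U hm => ?_, fun U => ?_⟩
  · have hUT : U ∈ T := (hp'.trans hp).mem_iff.1 (List.mem_map.2 ⟨_, hm, rfl⟩)
    have hpos : ∀ X ∈ T, X ≠ Blk.V 0 := by
      intro X hX hX0
      have hX' : X ∈ L.map Prod.fst := hp.mem_iff.2 hX
      obtain ⟨q, hq, rfl⟩ := List.mem_map.1 hX'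
      have : ∀ {L : List (Blk × Bool)} {W : Submodule F V}, Has B (StdBlk M B N) L W → q ∈ L → False := by
        intro L
        induction L with
        | nil => intro W _ h; simp at h
        | cons r L ih =>
          rintro W ⟨S, -, hS, hL⟩ hmem
          rcases List.mem_cons.1 hmem with rfl | hmem
          · obtain ⟨x, hG, -⟩ := (hX0 ▸ hS.gblk hQ.uni : GBlk B N (.V 0) S)
            exact absurd hG.pos (by omega)
          · exact ih hL hmem
      exact this hL hq
    by_cases h1 : U = .V 1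
    · subst h1
      refine ⟨le_refl 1, fun X hX hlow => ?_⟩
      rcases hlow with rfl | rfl
      · exact hpos _ hX rfl
      · exact hV1 hm (hp.mem_iff.2 hX)
    by_cases h2 : U = .W 1
    · subst h2
      refine ⟨⟨0, rfl⟩, fun X hX hlow => ?_⟩
      obtain ⟨l, hl, rfl⟩ := hlow
      exact hpos _ hX (by congr 1; omega)
    have hm0 : (U, true) ∈ L := by
      rw [← List.count_pos_iff, ← hcnt U h1 h2, List.count_pos_iff]; exact hm
    obtain ⟨hn, hlow⟩ := hall U hm0
    refine ⟨?_, hlow⟩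
    cases U with
    | V l =>
      have hl : 2 ≤ l := hn
      show 1 ≤ l
      omega
    | W m =>
      obtain ⟨i, rfl⟩ := hn
      exact ⟨i + 1, by omega⟩
  · by_cases h1 : U = .V 1
    · subst h1; exact hc1
    by_cases h2 : U = .W 1
    · subst h2; exact hc2
    rw [hcnt U h1 h2]; exact hc U

omit hQ

variable {V' : Type*} [AddCommGroup V'] [Module F V'] [FiniteDimensional F V'] {B' : LinearMap.BilinForm F V'}
  {N' : V' →ₗ[F] V'} {Q' : QuadraticForm F V'}

theorem ostd_same (hQ : OUni M Q B N) (hQ' : OUni M Q' B' N') {p : Blk × Bool} {S : Submodule F V}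
    {S' : Submodule F V'} (h : OStd M Q B N p S) (h' : OStd M Q' B' N' p S') : OSame Q B N S Q' B' N' S' := by
  have hU := hQ.uni
  have hU' := hQ'.uni
  obtain ⟨l | m, b⟩ := p
  · obtain ⟨x, hG, rfl, hx, hq⟩ := h
    obtain ⟨x', hG', rfl, hx', hq'⟩ := h'
    refine oblk_same hG hG' hQ hQ' (fun i j a => ?_) fun i => ?_
    · fin_cases i; fin_cases j
      exact diag_congr hU hU' (hG.zero 0) (hG'.zero 0)
        (fun e he => (hx e (by omega)).trans (hx' e (by omega)).symm) a
    · fin_cases i; exact hq.trans hq'.symm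
  · obtain ⟨x, hG, rfl, hc, hx, hy, hq⟩ := h
    obtain ⟨x', hG', rfl, hc', hx', hy', hq'⟩ := h'
    refine oblk_same hG hG' hQ hQ' (fun i j a => ?_) fun i => (hq i).trans (hq' i).symm
    fin_cases i <;> fin_cases j
    · exact diag_congr hU hU' (hG.zero 0) (hG'.zero 0) (fun e he => (hx e he).trans (hx' e he).symm) a
    · exact (hc a).trans (hc' a).symm
    · show B (x 1) ((N ^ a) (x 0)) = B' (x' 1) ((N' ^ a) (x' 0))
      rw [← hU.symm (x 1), ← hU'.symm (x' 1), hU.adj_pow, hU'.adj_pow, ← aeval_pbar, ← aeval_pbar, ← map_pow,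
        ← map_pow]
      exact pair_congr _ fun e _ => (hc e).trans (hc' e).symm
    · exact diag_congr hU hU' (hG.zero 1) (hG'.zero 1) (fun e he => (hy e he).trans (hy' e he).symm) a

theorem ohas_same (hQ : OUni M Q B N) (hQ' : OUni M Q' B' N') : ∀ {L : List (Blk × Bool)} {W : Submodule F V}
    {W' : Submodule F V'}, Has B (OStd M Q B N) L W → Has B' (OStd M Q' B' N') L W' →
    OSame Q B N W Q' B' N' W' := by
  intro L
  induction L with
  | nil =>
    intro W W' h h'
    rw [show W = ⊥ from h, show W' = ⊥ from h']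
    exact OSame.bot
  | cons p L ih =>
    rintro W W' ⟨S, hSW, hS, hL⟩ ⟨S', hSW', hS', hL'⟩
    obtain ⟨r, k, x, hG, hx, -⟩ := (hS.std.gblk hQ.uni).gens
    obtain ⟨r', k', x', hG', hx', -⟩ := (hS'.std.gblk hQ'.uni).gens
    subst hx hx'
    rw [← hG.sup_perp hQ.uni hSW, ← hG'.sup_perp hQ'.uni hSW']
    exact (ostd_same hQ hQ' hS hS').sup (ih hL hL')
      (fun a ha b hb => ⟨hb.2 a ha, by rw [hQ.uni.symm]; exact hb.2 a ha⟩)
      (fun a ha b hb => ⟨hb.2 a ha, by rw [hQ'.uni.symm]; exact hb.2 a ha⟩)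

theorem ohas_std {L : List (Blk × Bool)} : ∀ {W : Submodule F V}, Has B (OStd M Q B N) L W →
    Has B (StdBlk M B N) L W := by
  induction L with
  | nil => exact fun h => h
  | cons p L ih => rintro W ⟨S, hSW, hS, hL⟩; exact ⟨S, hSW, hS.std, ih hL⟩

end CfsgLib.SpEven
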