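import Cfsg.Agent.SpEven.Canon

/-!
# Quadratic forms fixed by a unipotent isometry

`Q` with polar `B` and `Q (x + N x) = Q x`; then `Q (N z) = B z (N z)`, so `Q` is known on the range of `N`
and equal data of families, with equal values of `Q` on them, give similarities preserving `Q`.
-/

set_option autoImplicit false
set_option linter.unusedSectionVars false

namespace CfsgLib.SpEven

open Module Polynomial

variable {F : Type*} [Field F] [CharP F 2] {V : Type*} [AddCommGroup V] [Module F V]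
  {M : ℕ} {B : LinearMap.BilinForm F V} {N : V →ₗ[F] V}

/-- A quadratic form with polar `B` fixed by `1 + N`. -/
structure OUni (M : ℕ) (Q : QuadraticForm F V) (B : LinearMap.BilinForm F V) (N : V →ₗ[F] V) : Prop where
  uni : Uni M B N
  pol : ∀ x y, Q (x + y) = Q x + Q y + B x y
  fix : ∀ x, Q (x + N x) = Q x

variable {Q : QuadraticForm F V}

theorem OUni.map_N (h : OUni M Q B N) (z : V) : Q (N z) = B z (N z) := by
  have h1 := h.fix z
  rw [h.pol, add_assoc] at h1
  have h2 : Q (N z) + B z (N z) = 0 := by linear_combination h1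
  exact eq_of_add_eq_zero' (F := F) h2

theorem OUni.map_pow (h : OUni M Q B N) (x : V) (i : ℕ) : Q ((N ^ (i + 1)) x) = g B N M x i := by
  rw [pow_succ', Module.End.mul_apply, h.map_N, h.uni.g_eq_pair]

theorem OUni.map_comb (h : OUni M Q B N) (a b : F) (x y : V) :
    Q (a • x + b • y) = qf (Q x) (B x y) (Q y) a b := by
  rw [h.pol, QuadraticMap.map_smul, QuadraticMap.map_smul, map_smul, map_smul, LinearMap.smul_apply, smul_eq_mul,
    smul_eq_mul, smul_eq_mul, smul_eq_mul, qf]
  ring

/-- Families with equal pairings and values of `Q` and the same action of `N`. -/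
def OSame {V' : Type*} [AddCommGroup V'] [Module F V'] (Q : QuadraticForm F V) (B : LinearMap.BilinForm F V)
    (N : V →ₗ[F] V) (W : Submodule F V) (Q' : QuadraticForm F V') (B' : LinearMap.BilinForm F V')
    (N' : V' →ₗ[F] V') (W' : Submodule F V') : Prop :=
  ∃ (ι : Type) (_ : Fintype ι) (σ : ι → Option ι) (v : ι → V) (v' : ι → V'),
    Submodule.span F (Set.range v) = W ∧ Submodule.span F (Set.range v') = W' ∧
      (∀ i j, B (v i) (v j) = B' (v' i) (v' j)) ∧
      (∀ i, N (v i) = (σ i).elim 0 v) ∧ (∀ i, N' (v' i) = (σ i).elim 0 v') ∧ ∀ i, Q (v i) = Q' (v' i)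

variable {V' : Type*} [AddCommGroup V'] [Module F V'] {B' : LinearMap.BilinForm F V'} {N' : V' →ₗ[F] V'}
  {Q' : QuadraticForm F V'}

theorem OSame.bot : OSame Q B N (⊥ : Submodule F V) Q' B' N' (⊥ : Submodule F V') :=
  ⟨Empty, inferInstance, fun i => i.elim, fun i => i.elim, fun i => i.elim, by simp, by simp,
    fun i => i.elim, fun i => i.elim, fun i => i.elim, fun i => i.elim⟩

theorem OSame.sup {S R : Submodule F V} {S' R' : Submodule F V'}
    (h1 : OSame Q B N S Q' B' N' S') (h2 : OSame Q B N R Q' B' N' R')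
    (hsr : ∀ a ∈ S, ∀ b ∈ R, B a b = 0 ∧ B b a = 0)
    (hsr' : ∀ a ∈ S', ∀ b ∈ R', B' a b = 0 ∧ B' b a = 0) :
    OSame Q B N (S ⊔ R) Q' B' N' (S' ⊔ R') := by
  obtain ⟨ι, _, σ, v, v', e1, e1', g1, n1, n1', q1⟩ := h1
  obtain ⟨κ, _, τ, w, w', e2, e2', g2, n2, n2', q2⟩ := h2
  refine ⟨ι ⊕ κ, inferInstance, Sum.elim (fun i => (σ i).map Sum.inl) (fun j => (τ j).map Sum.inr),
    Sum.elim v w, Sum.elim v' w', ?_, ?_, ?_, ?_, ?_, ?_⟩
  · rw [Set.Sum.elim_range, Submodule.span_union, e1, e2]
  · rw [Set.Sum.elim_range, Submodule.span_union, e1', e2']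
  · have hv : ∀ i, v i ∈ S := fun i => e1 ▸ Submodule.subset_span ⟨i, rfl⟩
    have hw : ∀ j, w j ∈ R := fun j => e2 ▸ Submodule.subset_span ⟨j, rfl⟩
    have hv' : ∀ i, v' i ∈ S' := fun i => e1' ▸ Submodule.subset_span ⟨i, rfl⟩
    have hw' : ∀ j, w' j ∈ R' := fun j => e2' ▸ Submodule.subset_span ⟨j, rfl⟩
    rintro (i | i) (j | j)
    · exact g1 i j
    · simp only [Sum.elim_inl, Sum.elim_inr, (hsr _ (hv i) _ (hw j)).1, (hsr' _ (hv' i) _ (hw' j)).1]
    · simp only [Sum.elim_inl, Sum.elim_inr, (hsr _ (hv j) _ (hw i)).2, (hsr' _ (hv' j) _ (hw' i)).2]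
    · exact g2 i j
  · rintro (i | i)
    · simp only [Sum.elim_inl]; rw [n1]; cases σ i <;> rfl
    · simp only [Sum.elim_inr]; rw [n2]; cases τ i <;> rfl
  · rintro (i | i)
    · simp only [Sum.elim_inl]; rw [n1']; cases σ i <;> rfl
    · simp only [Sum.elim_inr]; rw [n2']; cases τ i <;> rfl
  · rintro (i | i)
    · exact q1 i
    · exact q2 i

theorem OSame.equiv (h : OSame Q B N ⊤ Q' B' N' ⊤) (hQ : OUni M Q B N) (hQ' : OUni M Q' B' N')
    (hB : ∀ z, (∀ y, B z y = 0) → z = 0) (hB' : ∀ z, (∀ y, B' z y = 0) → z = 0) :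
    ∃ e : V ≃ₗ[F] V', (∀ z, e (N z) = N' (e z)) ∧ (∀ a b, B' (e a) (e b) = B a b) ∧ ∀ z, Q' (e z) = Q z := by
  classical
  obtain ⟨ι, _, σ, v, v', e1, e1', gr, n1, n1', q1⟩ := h
  set f : (ι → F) →ₗ[F] V := Fintype.linearCombination F v with hf
  set f' : (ι → F) →ₗ[F] V' := Fintype.linearCombination F v' with hf'
  have hs : Function.Surjective f := by
    rw [← LinearMap.range_eq_top, hf, Fintype.range_linearCombination, e1]
  have hs' : Function.Surjective f' := by
    rw [← LinearMap.range_eq_top, hf', Fintype.range_linearCombination, e1']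
  have hpair : ∀ c d, B (f c) (f d) = B' (f' c) (f' d) := by
    intro c d
    simp only [hf, hf', Fintype.linearCombination_apply, map_sum, LinearMap.sum_apply, map_smul,
      LinearMap.smul_apply, gr]
  have hker : ∀ c, f c = 0 ↔ f' c = 0 := by
    intro c
    constructor
    · intro hc
      refine hB' _ fun y => ?_
      obtain ⟨d, rfl⟩ := hs' y
      rw [← hpair, hc, map_zero, LinearMap.zero_apply]
    · intro hc
      refine hB _ fun y => ?_
      obtain ⟨d, rfl⟩ := hs y
      rw [hpair, hc, map_zero, LinearMap.zero_apply]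
  obtain ⟨sec, hsec⟩ := f.exists_rightInverse_of_surjective (LinearMap.range_eq_top.2 hs)
  have hsec' : ∀ z, f (sec z) = z := fun z => LinearMap.congr_fun hsec z
  have hwd : ∀ c, f' (sec (f c)) = f' c := by
    intro c
    rw [← sub_eq_zero, ← map_sub, ← hker, map_sub, hsec', sub_self]
  have hbij : Function.Bijective (f' ∘ₗ sec) := by
    refine ⟨(injective_iff_map_eq_zero _).2 fun z hz => ?_, fun y => ?_⟩
    · rw [← hsec' z, hker]; exact hz
    · obtain ⟨c, rfl⟩ := hs' y
      exact ⟨f c, hwd c⟩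
  have hv : ∀ i, f' (sec (v i)) = v' i := fun i => by
    have h1 := hwd (Pi.single i 1)
    rw [hf, Fintype.linearCombination_apply_single, one_smul] at h1
    rw [h1, hf', Fintype.linearCombination_apply_single, one_smul]
  set e := LinearEquiv.ofBijective _ hbij with he
  have hev : ∀ z, e z = f' (sec z) := fun z => rfl
  have hiso : ∀ a b, B' (e a) (e b) = B a b := fun a b => by rw [hev, hev, ← hpair, hsec', hsec']
  refine ⟨e, fun z => ?_, hiso, ?_⟩
  · obtain ⟨c, rfl⟩ := hs z
    rw [hev, hev, hwd]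
    simp only [hf, hf', Fintype.linearCombination_apply, map_sum, map_smul, n1, n1']
    refine Finset.sum_congr rfl fun i _ => ?_
    congr 1
    cases σ i with
    | none => simp
    | some j => simpa [hf', Fintype.linearCombination_apply] using hv j
  · intro z
    have hz : z ∈ Submodule.span F (Set.range v) := e1.symm ▸ Submodule.mem_top
    induction hz using Submodule.span_induction with
    | mem z hz => obtain ⟨i, rfl⟩ := hz; rw [hev, hv, q1]
    | zero => simp
    | add a b _ _ ha hb => rw [map_add, hQ'.pol, hQ.pol, ha, hb, hiso]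
    | smul c a _ ha => rw [map_smul, QuadraticMap.map_smul, QuadraticMap.map_smul, ha]

theorem oblk_same {r k : ℕ} {x : Fin r → V} {x' : Fin r → V'} (hG : Gens B N k x) (hG' : Gens B' N' k x')
    (hQ : OUni M Q B N) (hQ' : OUni M Q' B' N')
    (h : ∀ i j a, B (x i) ((N ^ a) (x j)) = B' (x' i) ((N' ^ a) (x' j))) (hq : ∀ i, Q (x i) = Q' (x' i)) :
    OSame Q B N (spn N k x) Q' B' N' (spn N' k x') := by
  have hB : ∀ p q : Fin r × Fin k, B (chainV N k x p) (chainV N k x q) = B' (chainV N' k x' p) (chainV N' k x' q) := by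
    intro p q
    have e1 : B (chainV N k x p) (chainV N k x q) =
        B (x p.1) (aeval N (X ^ (q.2 : ℕ) * pbar F M ^ (p.2 : ℕ)) (x q.1)) := by
      rw [aeval_X_pow_mul_pbar, ((commute_nb N M).pow_pow _ _).eq, Module.End.mul_apply, ← hQ.uni.adj_pow]
      rfl
    have e2 : B' (chainV N' k x' p) (chainV N' k x' q) =
        B' (x' p.1) (aeval N' (X ^ (q.2 : ℕ) * pbar F M ^ (p.2 : ℕ)) (x' q.1)) := by
      rw [aeval_X_pow_mul_pbar, ((commute_nb N' M).pow_pow _ _).eq, Module.End.mul_apply, ← hQ'.uni.adj_pow]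
      rfl
    rw [e1, e2]
    exact pair_congr _ fun b _ => h _ _ b
  refine ⟨Fin r × Fin k, inferInstance,
    fun p => if hp : (p.2 : ℕ) + 1 < k then some (p.1, ⟨p.2 + 1, hp⟩) else none,
    chainV N k x, chainV N' k x', rfl, rfl, hB, fun p => ?_, fun p => ?_, fun p => ?_⟩
  · rw [chainV, ← Module.End.mul_apply, ← pow_succ']
    dsimp only
    split_ifs with hp
    · rfl
    · rw [show (p.2 : ℕ) + 1 = k by omega]; exact hG.zero _
  · rw [chainV, ← Module.End.mul_apply, ← pow_succ']
    dsimp only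
    split_ifs with hp
    · rfl
    · rw [show (p.2 : ℕ) + 1 = k by omega]; exact hG'.zero _
  · obtain ⟨i, ⟨a, ha⟩⟩ := p
    rcases a with _ | a
    · simpa [chainV] using hq i
    · have h1 := hB (i, ⟨a, by omega⟩) (i, ⟨a + 1, ha⟩)
      simp only [chainV] at h1 ⊢
      rwa [pow_succ', Module.End.mul_apply, hQ.map_N, pow_succ', Module.End.mul_apply, hQ'.map_N,
        ← Module.End.mul_apply, ← pow_succ', ← Module.End.mul_apply, ← pow_succ']

end CfsgLib.SpEven
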