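import Cfsg.Agent.SpEven.OSign
import Cfsg.Agent.Geo.USemisimple

/-!
# The type invariant of a self-dual polynomial in characteristic two

For self-dual `f` of degree `2n` with `f 1 ≠ 0`: `aInv f = u 2 f + n.choose 2`, where `u j f` is the quotient of
the `j`-th Taylor coefficient at `1` by `f 1`. It is additive, lies in the image of `wp` for `g * dual g` and
outside for irreducible `f`.
-/

set_option autoImplicit false
set_option linter.unusedSectionVars false
set_option linter.style.haveILetI false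

namespace CfsgLib.SpEven

open Polynomial CfsgLib.Geo.USemi

variable {K : Type*} [Field K] [CharP K 2]

theorem cast_mul_self (k : ℕ) : (k : K) * k = k := by
  rcases Nat.even_or_odd k with ⟨r, rfl⟩ | ⟨r, rfl⟩
  · rw [Nat.cast_add, add_self_eq_zero' (F := K), mul_zero]
  · rw [Nat.cast_add, Nat.cast_mul, Nat.cast_ofNat, two_zero, zero_mul, zero_add, Nat.cast_one, one_mul]

theorem cast_choose_add (m : ℕ) : ∀ k : ℕ, ((k + m).choose 2 : K) = k.choose 2 + m.choose 2 + k * m
  | 0 => by simp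
  | k + 1 => by
    rw [show k + 1 + m = k + m + 1 by omega, Nat.choose_succ_succ' (k + m) 1, Nat.choose_succ_succ' k 1,
      Nat.choose_one_right, Nat.choose_one_right]
    push_cast [cast_choose_add m k]
    ring

theorem cast_choose_double (n : ℕ) : ((n + n).choose 2 : K) = n := by
  rw [cast_choose_add, add_self_eq_zero' (F := K), zero_add, cast_mul_self]

/-- The `j`-th Taylor coefficient at `1`. -/
noncomputable def hs (j : ℕ) (f : K[X]) : K := (hasseDeriv j f).eval 1

theorem hs_zero (f : K[X]) : hs 0 f = f.eval 1 := by rw [hs, hasseDeriv_zero, LinearMap.id_apply]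

theorem hs_sum {f : K[X]} {d : ℕ} (h : f.natDegree ≤ d) (j : ℕ) :
    hs j f = ∑ k ∈ Finset.range (d + 1), (k.choose j : K) * f.coeff k := by
  conv_lhs => rw [f.as_sum_range' (d + 1) (Nat.lt_succ_of_le h)]
  rw [hs, map_sum, eval_finsetSum]
  simp only [hasseDeriv_monomial, eval_monomial, one_pow, mul_one]

theorem hs_one_mul (f g : K[X]) : hs 1 (f * g) = hs 1 f * hs 0 g + hs 0 f * hs 1 g := by
  rw [hs, hasseDeriv_mul, Finset.Nat.sum_antidiagonal_eq_sum_range_succ_mk, Finset.sum_range_succ,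
    Finset.sum_range_one, eval_add, eval_mul, eval_mul]
  simp only [hs, Nat.sub_zero, Nat.sub_self]
  ring

theorem hs_two_mul (f g : K[X]) : hs 2 (f * g) = hs 2 f * hs 0 g + hs 1 f * hs 1 g + hs 0 f * hs 2 g := by
  rw [hs, hasseDeriv_mul, Finset.Nat.sum_antidiagonal_eq_sum_range_succ_mk, Finset.sum_range_succ,
    Finset.sum_range_succ, Finset.sum_range_one, eval_add, eval_add, eval_mul, eval_mul, eval_mul]
  simp only [hs, Nat.sub_zero, Nat.sub_self, show 2 - 1 = 1 from rfl]
  ring

theorem hs_C_mul (c : K) (f : K[X]) (j : ℕ) : hs j (C c * f) = c * hs j f := by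
  rw [hs, hs, ← smul_eq_C_mul, map_smul, eval_smul, smul_eq_mul]

theorem hs_add (f g : K[X]) (j : ℕ) : hs j (f + g) = hs j f + hs j g := by
  rw [hs, hs, hs, map_add, eval_add]

theorem hs_reverse_aux (g : K[X]) (j : ℕ) :
    hs j g.reverse = ∑ k ∈ Finset.range (g.natDegree + 1), ((g.natDegree - k).choose j : K) * g.coeff k := by
  rw [hs_sum (reverse_natDegree_le g), ← Finset.sum_range_reflect]
  refine Finset.sum_congr rfl fun k hk => ?_
  have hk' := Finset.mem_range.1 hk
  rw [show g.natDegree + 1 - 1 - k = g.natDegree - k by omega, coeff_reverse, revAt_le (by omega),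
    show g.natDegree - (g.natDegree - k) = k by omega]

theorem hs_zero_reverse (g : K[X]) : hs 0 g.reverse = hs 0 g := by
  rw [hs_reverse_aux, hs_sum le_rfl]; simp

theorem hs_one_reverse (g : K[X]) : hs 1 g.reverse = g.natDegree * hs 0 g + hs 1 g := by
  rw [hs_reverse_aux, hs_sum le_rfl, hs_sum le_rfl, Finset.mul_sum, ← Finset.sum_add_distrib]
  refine Finset.sum_congr rfl fun k hk => ?_
  have hk' := Finset.mem_range.1 hk
  rw [Nat.choose_one_right, Nat.choose_one_right, Nat.choose_zero_right, Nat.cast_sub (by omega),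
    CharTwo.sub_eq_add, Nat.cast_one]
  ring

theorem hs_two_reverse (g : K[X]) :
    hs 2 g.reverse = (g.natDegree.choose 2 : K) * hs 0 g + (g.natDegree + 1) * hs 1 g + hs 2 g := by
  rw [hs_reverse_aux, hs_sum le_rfl, hs_sum le_rfl, hs_sum le_rfl, Finset.mul_sum, Finset.mul_sum,
    ← Finset.sum_add_distrib, ← Finset.sum_add_distrib]
  refine Finset.sum_congr rfl fun k hk => ?_
  have hk' := Finset.mem_range.1 hk
  obtain ⟨m, hm⟩ := Nat.exists_eq_add_of_le (show k ≤ g.natDegree by omega)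
  rw [hm, Nat.add_sub_cancel_left, cast_choose_add, Nat.choose_one_right, Nat.choose_zero_right, Nat.cast_add,
    Nat.cast_one]
  linear_combination (-(g.coeff k)) * cast_mul_self (K := K) k -
    ((k.choose 2 : K) + k * m + k) * g.coeff k * two_zero (F := K)

/-- The Taylor coefficient divided by the value. -/
noncomputable def u (j : ℕ) (f : K[X]) : K := hs j f / f.eval 1

theorem u_one_mul {f g : K[X]} (hf : f.eval 1 ≠ 0) (hg : g.eval 1 ≠ 0) : u 1 (f * g) = u 1 f + u 1 g := by
  rw [u, u, u, hs_one_mul, hs_zero, hs_zero, eval_mul]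
  field_simp

theorem u_two_mul {f g : K[X]} (hf : f.eval 1 ≠ 0) (hg : g.eval 1 ≠ 0) :
    u 2 (f * g) = u 2 f + u 2 g + u 1 f * u 1 g := by
  simp only [u, hs_two_mul, hs_zero, eval_mul]
  field_simp
  ring

theorem eval_one_dual {g : K[X]} : (dual (RingHom.id K) g).eval 1 = (g.coeff 0)⁻¹ * g.eval 1 := by
  rw [dual, Polynomial.map_id, RingHom.id_apply, eval_mul, eval_C, ← hs_zero g.reverse, hs_zero_reverse, hs_zero]

theorem u_one_dual {g : K[X]} (h0 : g.coeff 0 ≠ 0) (h1 : g.eval 1 ≠ 0) :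
    u 1 (dual (RingHom.id K) g) = g.natDegree + u 1 g := by
  rw [u, u, eval_one_dual, dual, Polynomial.map_id, RingHom.id_apply, hs_C_mul, hs_one_reverse, hs_zero]
  field_simp

theorem u_two_dual {g : K[X]} (h0 : g.coeff 0 ≠ 0) (h1 : g.eval 1 ≠ 0) :
    u 2 (dual (RingHom.id K) g) = g.natDegree.choose 2 + (g.natDegree + 1) * u 1 g + u 2 g := by
  rw [u, u, u, eval_one_dual, dual, Polynomial.map_id, RingHom.id_apply, hs_C_mul, hs_two_reverse, hs_zero]
  field_simp

/-- Self-dual polynomials without root `1`, of even degree. -/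
structure IsSD (f : K[X]) : Prop where
  monic : f.Monic
  zero : f.coeff 0 ≠ 0
  dual : dual (RingHom.id K) f = f
  one : f.eval 1 ≠ 0

theorem IsSD.coeff_zero {f : K[X]} (h : IsSD f) : f.coeff 0 = 1 := by
  have h1 := eval_one_dual (g := f)
  rw [h.dual] at h1
  exact inv_eq_one.1 (mul_right_cancel₀ h.one (by rw [one_mul, ← h1]))

/-- The invariant. -/
noncomputable def aInv (f : K[X]) : K := u 2 f + ((f.natDegree / 2).choose 2 : ℕ)

theorem IsSD.u_one {f : K[X]} (h : IsSD f) {n : ℕ} (hn : f.natDegree = n + n) : u 1 f = n := by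
  have h2 := u_two_dual h.zero h.one
  rw [h.dual, hn, cast_choose_double, Nat.cast_add, add_self_eq_zero' (F := K), zero_add, one_mul] at h2
  exact (eq_of_add_eq_zero' (F := K) (by linear_combination -h2)).symm

theorem aInv_mul {f g : K[X]} (hf : IsSD f) (hg : IsSD g) (hfe : Even f.natDegree) (hge : Even g.natDegree) :
    aInv (f * g) = aInv f + aInv g := by
  obtain ⟨n, hn⟩ := hfe
  obtain ⟨m, hm⟩ := hge
  rw [aInv, aInv, aInv, hf.monic.natDegree_mul hg.monic, hn, hm, show (n + n + (m + m)) / 2 = n + m by omega,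
    show (n + n) / 2 = n by omega, show (m + m) / 2 = m by omega, u_two_mul hf.one hg.one, hf.u_one hn,
    hg.u_one hm, cast_choose_add]
  linear_combination (n : K) * m * two_zero (F := K)

theorem aInv_pair {g : K[X]} (hg : g.Monic) (h0 : g.coeff 0 ≠ 0) (h1 : g.eval 1 ≠ 0) :
    aInv (g * dual (RingHom.id K) g) = u 1 g * u 1 g + u 1 g := by
  have hd1 : (dual (RingHom.id K) g).eval 1 ≠ 0 := by
    rw [eval_one_dual]; exact mul_ne_zero (inv_ne_zero h0) h1
  rw [aInv, u_two_mul h1 hd1, u_one_dual h0 h1, u_two_dual h0 h1, hg.natDegree_mul (monic_dual _ h0),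
    natDegree_dual _ h0, show (g.natDegree + g.natDegree) / 2 = g.natDegree by omega]
  linear_combination (u 2 g + (g.natDegree : K) * u 1 g + (g.natDegree.choose 2 : K)) * two_zero (F := K)

theorem u_one_X_sub_C {μ : K} : u 1 (X - C μ) = (1 + μ)⁻¹ := by
  rw [u, hs, hasseDeriv_one, eval_sub, eval_X, eval_C, derivative_X_sub_C, eval_one, CharTwo.sub_eq_add, one_div]

theorem u_one_prod {ι : Type*} (s : Finset ι) (μ : ι → K) (h : ∀ i ∈ s, μ i ≠ 1) :
    (∏ i ∈ s, (X - C (μ i))).eval 1 ≠ 0 ∧ u 1 (∏ i ∈ s, (X - C (μ i))) = ∑ i ∈ s, (1 + μ i)⁻¹ := by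
  classical
  induction s using Finset.induction_on with
  | empty => simp [u, hs, hasseDeriv_one]
  | insert a s ha ih =>
    obtain ⟨h1, h2⟩ := ih fun i hi => h i (Finset.mem_insert_of_mem hi)
    have hne : (X - C (μ a)).eval 1 ≠ 0 := by
      rw [eval_sub, eval_X, eval_C]; exact sub_ne_zero.2 (h a (Finset.mem_insert_self _ _)).symm
    rw [Finset.prod_insert ha, Finset.sum_insert ha, eval_mul, u_one_mul hne h1, u_one_X_sub_C, h2]
    exact ⟨mul_ne_zero hne h1, rfl⟩

theorem aInv_map {E : Type*} [Field E] [CharP E 2] (φ : K →+* E) (f : K[X]) : aInv (f.map φ) = φ (aInv f) := by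
  have hh : ∀ j, hs j (f.map φ) = φ (hs j f) := fun j => by
    rw [hs_sum natDegree_map_le, hs_sum le_rfl, map_sum]
    exact Finset.sum_congr rfl fun k _ => by rw [coeff_map, map_mul, map_natCast]
  rw [aInv, aInv, natDegree_map, map_add, map_natCast, u, u, hh, map_div₀, eval_one_map]

section Irreducible

variable [Finite K]

theorem sgn_aInv_pair {g : K[X]} (hg : g.Monic) (h0 : g.coeff 0 ≠ 0) (h1 : g.eval 1 ≠ 0) :
    sgn (aInv (g * dual (RingHom.id K) g)) = 1 := by
  rw [aInv_pair hg h0 h1]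
  exact if_pos ⟨u 1 g, rfl⟩

theorem no_fixed_power {P : K[X]} (hP : Irreducible P) {e : ℕ} (he : ¬P.natDegree ∣ e) :
    AdjoinRoot.root P ^ Nat.card K ^ e ≠ AdjoinRoot.root P := fun h => he (by
  refine hP.natDegree_dvd_of_dvd_X_pow_card_pow_sub_X (AdjoinRoot.mk_eq_zero.1 ?_)
  rw [map_sub, map_pow, AdjoinRoot.mk_X, h, sub_self])

theorem irreducible_props {P : K[X]} (hP : Irreducible P) (hS : IsSD P) :
    Even P.natDegree ∧ sgn (aInv P) = -1 := by
  classical
  haveI := Fintype.ofFinite K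
  haveI := Fact.mk hP
  haveI : CharP (AdjoinRoot P) 2 := charP_of_injective_algebraMap (algebraMap K (AdjoinRoot P)).injective 2
  set E := AdjoinRoot P
  set φ := algebraMap K E with hφ
  set q := Nat.card K with hq
  set D := P.natDegree with hD
  set x : E := AdjoinRoot.root P with hx
  have hDpos : 0 < D := hP.natDegree_pos
  have hxP : aeval x P = 0 := by rw [AdjoinRoot.aeval_eq, AdjoinRoot.mk_self]
  have hexp : ∀ (z : E) (f : K[X]), aeval (z ^ q) f = aeval z f ^ q := fun z f => by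
    rw [hq, Nat.card_eq_fintype_card, ← expand_aeval, FiniteField.expand_card, map_pow]
  have hroot : ∀ j, aeval (x ^ q ^ j) P = 0 := by
    intro j
    induction j with
    | zero => rw [pow_zero, pow_one, hxP]
    | succ j ih => rw [pow_succ q, pow_mul, hexp, ih, zero_pow Nat.card_pos.ne']
  have hfix : ∀ c : K, (φ c) ^ q = φ c := fun c => by
    rw [← map_pow, hq, Nat.card_eq_fintype_card, FiniteField.pow_card]
  have hne1 : ∀ z : E, aeval z P = 0 → z ≠ 1 := by
    rintro z hz rfl
    rw [show (1 : E) = φ 1 by rw [map_one], hφ, aeval_algebraMap_apply_eq_algebraMap_eval] at hz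
    exact hS.one ((map_eq_zero φ).1 hz)
  have hfr : ∀ a, Function.Injective fun z : E => z ^ q ^ a := by
    intro a
    obtain ⟨m, -, hm⟩ := FiniteField.card K 2
    simp only [hq, Nat.card_eq_fintype_card, hm, ← pow_mul]
    exact iterateFrobenius_inj E 2 _
  have hinjI : ∀ a b, a ≤ b → b < D → x ^ q ^ a = x ^ q ^ b → a = b := by
    intro a b hab hb h
    by_contra hne
    refine no_fixed_power hP (e := b - a) (fun hd => ?_) (hfr a ?_)
    · have := Nat.le_of_dvd (by omega) hd; omega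
    · show (x ^ q ^ (b - a)) ^ q ^ a = x ^ q ^ a
      rw [← pow_mul, ← pow_add, show b - a + a = b by omega, h]
  have hinj : Function.Injective fun i : Fin D => x ^ q ^ (i : ℕ) := by
    intro i j h
    rcases le_total (i : ℕ) j with hij | hij
    · exact Fin.ext (hinjI i j hij j.2 h)
    · exact Fin.ext (hinjI j i hij i.2 h.symm).symm
  have hsplit : P.map φ = ∏ i : Fin D, (X - C (x ^ q ^ (i : ℕ))) := by
    refine eq_of_monic_of_dvd_of_natDegree_le (monic_prod_of_monic _ _ fun i _ => monic_X_sub_C _)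
      (hS.monic.map φ) ?_ ?_
    · refine Finset.prod_dvd_of_coprime (fun i _ j _ h => pairwise_coprime_X_sub_C hinj h) fun i _ => ?_
      rw [dvd_iff_isRoot, IsRoot, eval_map, ← aeval_def]
      exact hroot i
    · rw [natDegree_map, natDegree_prod_of_monic _ _ fun i _ => monic_X_sub_C _]
      simp only [natDegree_X_sub_C, Finset.sum_const, Finset.card_univ, Fintype.card_fin, smul_eq_mul, mul_one, hD,
        le_refl]
  have hx0 : x ≠ 0 := fun h => by
    have := hxP
    rw [h, ← coeff_zero_eq_aeval_zero'] at this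
    exact hS.zero ((map_eq_zero φ).1 this)
  have hxi : aeval x⁻¹ P = 0 := by
    have hd := congrArg (aeval x⁻¹) hS.dual
    rw [dual, map_mul] at hd
    rw [← hd]
    refine mul_eq_zero_of_right _ ?_
    letI := invertibleOfNonzero hx0
    rw [Polynomial.map_id, ← invOf_eq_inv, aeval_def, eval₂_reverse_eq_zero_iff, ← aeval_def, hxP]
  obtain ⟨i, hi⟩ : ∃ i : Fin D, x⁻¹ = x ^ q ^ (i : ℕ) := by
    have h : (∏ i : Fin D, (X - C (x ^ q ^ (i : ℕ)))).eval x⁻¹ = 0 := by
      rw [← hsplit, eval_map, ← aeval_def, hxi]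
    rw [eval_prod, Finset.prod_eq_zero_iff] at h
    obtain ⟨i, -, hi⟩ := h
    exact ⟨i, by simpa [sub_eq_zero] using hi⟩
  obtain ⟨d, hid⟩ : ∃ d, (i : ℕ) = d := ⟨_, rfl⟩
  rw [hid] at hi
  have hd0 : 0 < d := by
    rcases Nat.eq_zero_or_pos d with h | h
    · exfalso
      rw [h, pow_zero, pow_one] at hi
      refine hne1 x hxP ?_
      have h2 : (x + 1) * (x + 1) = 0 := by
        linear_combination (inv_mul_cancel₀ hx0) - x * hi + x * two_zero (F := E) + two_zero (F := E)
      exact eq_of_add_eq_zero' (F := E) (mul_self_eq_zero.1 h2)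
    · exact h
  have hdD : d + d = D := by
    have hdlt : d < D := hid ▸ i.2
    have h2 : x ^ q ^ (d + d) = x := by rw [pow_add, pow_mul, ← hi, inv_pow, ← hi, inv_inv]
    obtain ⟨c, hc⟩ : D ∣ d + d := by
      by_contra h; exact no_fixed_power hP h h2
    rcases c with _ | _ | c
    · omega
    · omega
    · rw [Nat.mul_add, Nat.mul_add] at hc; omega
  refine ⟨⟨d, hdD.symm⟩, if_neg ?_⟩
  rintro ⟨c, hc⟩
  -- the half
  set g : E[X] := ∏ i ∈ Finset.range d, (X - C (x ^ q ^ i)) with hg
  have hμ : ∀ i, x ^ q ^ i ≠ 1 := fun i => hne1 _ (hroot i)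
  obtain ⟨hg1, hu⟩ := u_one_prod (Finset.range d) (fun i => x ^ q ^ i) fun i _ => hμ i
  have hgm : g.Monic := monic_prod_of_monic _ _ fun i _ => monic_X_sub_C _
  have hdual : ∀ μ : E, μ ≠ 0 → dual (RingHom.id E) (X - C μ) = X - C μ⁻¹ := by
    intro μ hμ0
    have h0 : (X - C μ).coeff 0 = -μ := by simp
    have h0' : (X - C μ).coeff 0 ≠ 0 := by rw [h0]; exact neg_ne_zero.2 hμ0
    rw [(monic_dual _ h0').eq_X_add_C (by rw [natDegree_dual _ h0', natDegree_X_sub_C]),
      coeff_zero_dual _ (monic_X_sub_C μ), h0, RingHom.id_apply, inv_neg, C_neg, sub_eq_add_neg]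
  have hgd : dual (RingHom.id E) g = ∏ i ∈ Finset.range d, (X - C (x ^ q ^ (d + i))) := by
    rw [hg]
    have hd1 : dual (RingHom.id E) (1 : E[X]) = 1 := by
      rw [dual, coeff_one_zero, map_one, inv_one, map_one, one_mul, Polynomial.map_one, ← C_1, reverse_C]
    refine (map_prod (⟨⟨dual (RingHom.id E), hd1⟩, dual_mul _⟩ : E[X] →* E[X]) _ _).trans
      (Finset.prod_congr rfl fun i _ => ?_)
    show dual (RingHom.id E) _ = _
    rw [hdual _ (pow_ne_zero _ hx0), ← inv_pow, hi, ← pow_mul, ← pow_add]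
  have hPg : P.map φ = g * dual (RingHom.id E) g := by
    rw [hgd, hg, hsplit, ← Finset.prod_range_add (fun i => X - C (x ^ q ^ i)), hdD,
      ← Fin.prod_univ_eq_prod_range (fun i => X - C (x ^ q ^ i))]
  have hg0 : g.coeff 0 ≠ 0 := by
    rw [coeff_zero_eq_eval_zero, hg, eval_prod]
    exact Finset.prod_ne_zero_iff.2 fun i _ => by simp [pow_ne_zero _ hx0]
  have key := aInv_pair hgm hg0 hg1
  rw [← hPg, aInv_map, ← hc, wp_apply, map_add, map_mul] at key
  have hfixu : u 1 g ^ q = u 1 g := by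
    have h : (u 1 g + φ c) * (u 1 g + φ c + 1) = 0 := by
      linear_combination -key + (u 1 g * φ c + φ c + φ c * φ c) * two_zero (F := E)
    rcases mul_eq_zero.1 h with h | h
    · rw [eq_of_add_eq_zero' (F := E) h, hfix]
    · rw [add_assoc] at h
      rw [eq_of_add_eq_zero' (F := E) h, ← map_one φ, ← map_add, hfix]
  have hsum : u 1 g ^ q = u 1 g + 1 := by
    obtain ⟨m, -, hm⟩ := FiniteField.card K 2
    have hq2 : q = 2 ^ (m : ℕ) := by rw [hq, Nat.card_eq_fintype_card, hm]
    have hadd : ∀ a b : E, (a + b) ^ q = a ^ q + b ^ q := fun a b => by rw [hq2]; exact add_pow_char_pow _ _ _ _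
    have hstep : ∀ i, ((1 + x ^ q ^ i)⁻¹) ^ q = (1 + x ^ q ^ (i + 1))⁻¹ := fun i => by
      rw [inv_pow, hadd, one_pow, ← pow_mul, ← pow_succ]
    have hpow : (∑ i ∈ Finset.range d, (1 + x ^ q ^ i)⁻¹) ^ q =
        ∑ i ∈ Finset.range d, ((1 + x ^ q ^ i)⁻¹) ^ q := by
      rw [hq2]; exact sum_pow_char_pow _ _ _ _
    rw [hg, hu, hpow, Finset.sum_congr rfl fun i _ => hstep i]
    have hs1 := Finset.sum_range_succ' (fun i => (1 + x ^ q ^ i)⁻¹) d
    rw [Finset.sum_range_succ] at hs1
    have hid' : (1 + x ^ q ^ d)⁻¹ = (1 + x ^ q ^ 0)⁻¹ + 1 := by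
      rw [← hi, pow_zero, pow_one]
      have h1 : 1 + x ≠ 0 := fun h => hne1 x hxP (eq_of_add_eq_zero' (F := E) h).symm
      refine inv_eq_of_mul_eq_one_right ?_
      linear_combination x⁻¹ * mul_inv_cancel₀ h1 - (1 + x)⁻¹ * mul_inv_cancel₀ hx0 + x⁻¹ * two_zero (F := E)
    rw [hid'] at hs1
    linear_combination -hs1
  exact one_ne_zero (α := E) (add_left_cancel (a := u 1 g) (by rw [add_zero, ← hsum, hfixu]))

end Irreducible

end CfsgLib.SpEven
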