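import Cfsg.Agent.SpEven.OCanon

/-!
# The sign of the Gauss sum of a canonical list

`gs Q W = ∑ x ∈ W, sgn (Q x)` is multiplicative on orthogonal sums, and on a canonical list its sign is
`(-1) ^ #bits`.
-/

set_option autoImplicit false
set_option linter.unusedSectionVars false

namespace CfsgLib.SpEven

open Module Polynomial

variable {F : Type*} [Field F] [CharP F 2] [Finite F]

open Classical in
/-- The character with kernel the image of `wp`. -/
noncomputable def sgn (c : F) : ℤ := if c ∈ (wp F).range then 1 else -1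

theorem sgn_zero : sgn (0 : F) = 1 := if_pos (zero_mem _)

theorem sgn_eps : sgn (eps F) = -1 := if_neg (eps_spec F)

theorem sgn_add (a b : F) : sgn (a + b) = sgn a * sgn b := by
  classical
  have h := AddSubgroup.add_mem_iff_of_index_two (wp_index F) (a := a) (b := b)
  simp only [sgn]
  by_cases ha : a ∈ (wp F).range <;> by_cases hb : b ∈ (wp F).range <;> simp [ha, hb] at h <;> simp [ha, hb, h]

theorem sgn_self (a : F) : sgn a * sgn a = 1 := by
  rw [← sgn_add, add_self_eq_zero' (F := F), sgn_zero]

theorem sgn_sq (a : F) : sgn (a * a) = sgn a := by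
  have h : sgn (a * a + a) = 1 := if_pos ⟨a, rfl⟩
  rw [sgn_add] at h
  calc sgn (a * a) = sgn (a * a) * (sgn a * sgn a) := by rw [sgn_self, mul_one]
    _ = sgn a := by rw [← mul_assoc, h, one_mul]

variable {V : Type*} [AddCommGroup V] [Module F V] [Finite V] {B : LinearMap.BilinForm F V} {Q : QuadraticForm F V}

/-- The Gauss sum. -/
noncomputable def gs (Q : QuadraticForm F V) (W : Submodule F V) : ℤ :=
  ∑ x ∈ (W : Set V).toFinite.toFinset, sgn (Q x)

variable (hpol : ∀ x y, Q (x + y) = Q x + Q y + B x y)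
include hpol

theorem pol_symm (x y : V) : B y x = B x y := by
  have h := hpol y x
  rw [add_comm y x, hpol x y] at h
  linear_combination -h

theorem gs_sup {S R : Submodule F V} (hd : S ⊓ R = ⊥) (ho : ∀ a ∈ S, ∀ b ∈ R, B a b = 0) :
    gs Q (S ⊔ R) = gs Q S * gs Q R := by
  classical
  rw [gs, gs, gs, Finset.sum_mul_sum, ← Finset.sum_product']
  symm
  refine Finset.sum_bij (fun p _ => p.1 + p.2) (fun p hp => ?_) (fun p hp p' hp' h => ?_) (fun x hx => ?_)
    (fun p hp => ?_)
  · simp only [Finset.mem_product, Set.Finite.mem_toFinset, SetLike.mem_coe] at hp ⊢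
    exact add_mem (Submodule.mem_sup_left hp.1) (Submodule.mem_sup_right hp.2)
  · simp only [Finset.mem_product, Set.Finite.mem_toFinset, SetLike.mem_coe] at hp hp'
    have h1 : p.1 - p'.1 ∈ S ⊓ R := ⟨sub_mem hp.1 hp'.1, by
      rw [show p.1 - p'.1 = p'.2 - p.2 by rw [sub_eq_sub_iff_add_eq_add, h, add_comm]]
      exact sub_mem hp'.2 hp.2⟩
    rw [hd, Submodule.mem_bot, sub_eq_zero] at h1
    exact Prod.ext h1 (add_left_cancel (h1 ▸ h))
  · simp only [Set.Finite.mem_toFinset, SetLike.mem_coe] at hx
    obtain ⟨a, ha, b, hb, rfl⟩ := Submodule.mem_sup.1 hx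
    exact ⟨(a, b), by simp [ha, hb], rfl⟩
  · simp only [Finset.mem_product, Set.Finite.mem_toFinset, SetLike.mem_coe] at hp
    rw [hpol, ho _ hp.1 _ hp.2, add_zero, sgn_add]

/-- A character sum over a subspace. -/
theorem char_sum {W : Submodule F V} (x : V) :
    ∑ z ∈ (W : Set V).toFinite.toFinset, sgn (B x z) =
      (open Classical in if ∀ z ∈ W, B x z = 0 then ((W : Set V).toFinite.toFinset.card : ℤ) else 0) := by
  classical
  split_ifs with h
  · rw [Finset.sum_congr rfl fun z hz => by rw [h z (by simpa using hz), sgn_zero]]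
    simp
  · push Not at h
    obtain ⟨z, hz, hne⟩ := h
    set z0 := (eps F / B x z) • z
    have h0 : sgn (B x z0) = -1 := by rw [map_smul, smul_eq_mul, div_mul_cancel₀ _ hne, sgn_eps]
    have h1 : ∑ y ∈ (W : Set V).toFinite.toFinset, sgn (B x y) =
        ∑ y ∈ (W : Set V).toFinite.toFinset, sgn (B x (y + z0)) := by
      refine Finset.sum_bij (fun y _ => y - z0) (fun y hy => ?_) (fun y _ y' _ e => ?_) (fun y hy => ?_)
        (fun y hy => ?_)
      · simp only [Set.Finite.mem_toFinset, SetLike.mem_coe] at hy ⊢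
        exact sub_mem hy (W.smul_mem _ hz)
      · exact sub_left_injective e
      · simp only [Set.Finite.mem_toFinset, SetLike.mem_coe] at hy
        exact ⟨y + z0, by simpa using add_mem hy (W.smul_mem _ hz), add_sub_cancel_right _ _⟩
      · rw [sub_add_cancel]
    simp only [map_add, sgn_add, h0, mul_neg, mul_one, Finset.sum_neg_distrib] at h1
    omega

/-- Only the orthogonal of a totally singular subspace contributes. -/
theorem gs_reduce {Z W : Submodule F V} (hZW : Z ≤ W) (hZ : ∀ z ∈ Z, Q z = 0) :
    gs Q W = gs Q (W ⊓ B.orthogonal Z) := by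
  classical
  set sW := (W : Set V).toFinite.toFinset with hsW
  set sZ := (Z : Set V).toFinite.toFinset with hsZ
  have htr : ∀ z ∈ sZ, gs Q W = ∑ x ∈ sW, sgn (Q x) * sgn (B x z) := by
    intro z hz
    have hzZ : z ∈ Z := by simpa [hsZ] using hz
    refine Finset.sum_bij (fun x _ => x - z) (fun x hx => ?_) (fun x _ x' _ e => ?_) (fun x hx => ?_)
      (fun x hx => ?_)
    · simp only [Set.Finite.mem_toFinset, SetLike.mem_coe, hsW] at hx ⊢
      exact sub_mem hx (hZW hzZ)
    · exact sub_left_injective e
    · simp only [Set.Finite.mem_toFinset, SetLike.mem_coe, hsW] at hx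
      exact ⟨x + z, by simpa using add_mem hx (hZW hzZ), add_sub_cancel_right _ _⟩
    · have h := hpol (x - z) z
      rw [sub_add_cancel, hZ z hzZ, add_zero] at h
      rw [h, ← sgn_add]
  have h1 : (sZ.card : ℤ) * gs Q W =
      (sZ.card : ℤ) * ∑ x ∈ sW, if ∀ z ∈ Z, B x z = 0 then sgn (Q x) else 0 := by
    calc (sZ.card : ℤ) * gs Q W = ∑ z ∈ sZ, ∑ x ∈ sW, sgn (Q x) * sgn (B x z) := by
          rw [← nsmul_eq_mul, ← Finset.sum_const]; exact Finset.sum_congr rfl htr
      _ = ∑ x ∈ sW, sgn (Q x) * ∑ z ∈ sZ, sgn (B x z) := by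
          rw [Finset.sum_comm]; simp only [Finset.mul_sum]
      _ = _ := by
          rw [Finset.mul_sum]
          refine Finset.sum_congr rfl fun x _ => ?_
          rw [char_sum hpol]
          split_ifs <;> ring
  have hcard : (sZ.card : ℤ) ≠ 0 := by
    simp only [Ne, Nat.cast_eq_zero, Finset.card_eq_zero]
    exact Finset.ne_empty_of_mem (a := 0) (by simp [hsZ])
  rw [mul_left_cancel₀ hcard h1, ← Finset.sum_filter]
  refine Finset.sum_congr (Finset.ext fun x => ?_) fun _ _ => rfl
  simp only [Finset.mem_filter, hsW, Set.Finite.mem_toFinset, SetLike.mem_coe, Submodule.mem_inf,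
    LinearMap.BilinForm.mem_orthogonal_iff]
  refine and_congr_right fun _ => ⟨fun h n hn => ?_, fun h z hz => ?_⟩
  · show B n x = 0
    rw [pol_symm hpol x n]; exact h n hn
  · rw [pol_symm hpol z x]
    exact h z hz

/-- The sum of a nondegenerate space squares to its cardinality. -/
theorem gs_ne_zero (hB : ∀ z, (∀ y, B z y = 0) → z = 0) : gs Q ⊤ ≠ 0 := by
  classical
  set s := ((⊤ : Submodule F V) : Set V).toFinite.toFinset with hs
  have h : gs Q ⊤ * gs Q ⊤ = (s.card : ℤ) := by
    calc gs Q ⊤ * gs Q ⊤ = ∑ x ∈ s, ∑ y ∈ s, sgn (Q x) * sgn (Q y) := Finset.sum_mul_sum _ _ _ _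
      _ = ∑ x ∈ s, ∑ y ∈ s, sgn (Q y) * sgn (B x y) := by
          refine Finset.sum_congr rfl fun x _ => ?_
          refine Finset.sum_bij (fun y _ => y - x) (fun y _ => by simp [hs]) (fun y _ y' _ e => sub_left_injective e)
            (fun y _ => ⟨y + x, by simp [hs], add_sub_cancel_right _ _⟩) (fun y _ => ?_)
          have h := hpol x (y - x)
          rw [add_sub_cancel] at h
          rw [h, sgn_add, sgn_add, ← mul_assoc, ← mul_assoc, sgn_self, one_mul]
      _ = ∑ y ∈ s, sgn (Q y) * ∑ x ∈ s, sgn (B y x) := by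
          rw [Finset.sum_comm]
          simp only [Finset.mul_sum, pol_symm hpol]
      _ = ∑ y ∈ s, if y = 0 then (s.card : ℤ) else 0 := by
          refine Finset.sum_congr rfl fun y _ => ?_
          rw [char_sum hpol]
          by_cases hy : y = 0
          · rw [if_pos hy, if_pos (fun z _ => by simp [hy]), hy, QuadraticMap.map_zero, sgn_zero, one_mul]
          · rw [if_neg hy, if_neg (fun hh => hy (hB y fun z => hh z Submodule.mem_top)), mul_zero]
      _ = _ := by rw [Finset.sum_ite_eq', if_pos (by simp [hs])]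
  intro h0
  rw [h0, mul_zero] at h
  have : s.card = 0 := by exact_mod_cast h.symm
  exact Finset.ne_empty_of_mem (a := 0) (by simp [hs]) (Finset.card_eq_zero.1 this)

omit hpol

theorem gs_bot : gs Q ⊥ = 1 := by
  rw [gs, show ((⊥ : Submodule F V) : Set V).toFinite.toFinset = {0} by ext; simp, Finset.sum_singleton,
    QuadraticMap.map_zero, sgn_zero]

theorem gs_pos {W : Submodule F V} (h : ∀ z ∈ W, Q z = 0) : 0 < gs Q W := by
  rw [gs, Finset.sum_congr rfl fun z hz => by rw [h z (by simpa using hz), sgn_zero]]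
  simp only [Finset.sum_const, nsmul_eq_mul, mul_one, Nat.cast_pos, Finset.card_pos]
  exact ⟨0, by simp⟩

theorem gs_restrict (W : Submodule F V) : gs (Q.comp W.subtype) ⊤ = gs Q W := by
  classical
  refine Finset.sum_bij (fun x _ => (x : V)) (fun x _ => by simp) (fun x _ y _ e => Subtype.ext e)
    (fun x hx => ⟨⟨x, by simpa using hx⟩, by simp, rfl⟩) (fun x _ => rfl)

theorem gs_map {V' : Type*} [AddCommGroup V'] [Module F V'] [Finite V'] {Q' : QuadraticForm F V'} (e : V ≃ₗ[F] V')
    (h : ∀ z, Q' (e z) = Q z) : gs Q ⊤ = gs Q' ⊤ :=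
  Finset.sum_bij (fun x _ => e x) (fun x _ => by simp) (fun x _ y _ he => e.injective he)
    (fun x _ => ⟨e.symm x, by simp, e.apply_symm_apply x⟩) (fun x _ => by rw [h])

section Blocks

variable {M : ℕ} {N : V →ₗ[F] V} (hQ : OUni M Q B N) {r k : ℕ} {x : Fin r → V}
include hQ

/-- The binary form with unit cross term. -/
theorem gs_pair {u v : V} (h : B u v = 1) :
    0 < sgn (Q u * Q v) * gs Q (Submodule.span F {u, v}) := by
  classical
  haveI := Fintype.ofFinite F
  have hU := hQ.uni
  obtain ⟨c, hc⟩ := exists_sqrt (Q u)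
  have hsum : gs Q (Submodule.span F {u, v}) = ∑ b : F, ∑ a : F, sgn (Q (a • u + b • v)) := by
    rw [← Fintype.sum_prod_type', gs]
    refine (Finset.sum_bij (fun p _ => p.2 • u + p.1 • v) (fun p _ => ?_) (fun p _ p' _ e => ?_) (fun z hz => ?_)
      (fun _ _ => rfl)).symm
    · simp only [Set.Finite.mem_toFinset, SetLike.mem_coe, Submodule.mem_span_pair]
      exact ⟨_, _, rfl⟩
    · have h1 := congrArg (B u) e
      have h2 := congrArg (fun z => B z v) e
      simp only [map_add, map_smul, LinearMap.add_apply, LinearMap.smul_apply, smul_eq_mul, hU.alt, h, mul_zero,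
        zero_add, add_zero, mul_one] at h1 h2
      exact Prod.ext h1 h2
    · simp only [Set.Finite.mem_toFinset, SetLike.mem_coe, Submodule.mem_span_pair] at hz
      obtain ⟨a, b, rfl⟩ := hz
      exact ⟨(b, a), Finset.mem_univ _, rfl⟩
  have hinner : ∀ b : F, ∑ a : F, sgn (Q (a • u + b • v)) =
      if b = c then (Fintype.card F : ℤ) * sgn (Q u * Q v) else 0 := by
    intro b
    have e : ∀ a : F, sgn (Q (a • u + b • v)) = sgn (b * b * Q v) * sgn (a * (c + b)) := fun a => by
      rw [hQ.map_comb, h, qf, mul_one, sgn_add, sgn_add, mul_add, sgn_add, ← sgn_sq (a * c),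
        show a * c * (a * c) = a * a * Q u by rw [← hc]; ring]
      ring
    simp only [e, ← Finset.mul_sum]
    split_ifs with hb
    · simp [hb, add_self_eq_zero' (F := F), sgn_zero, ← hc, mul_comm]
    · have hne : c + b ≠ 0 := fun h => hb (eq_of_add_eq_zero' (F := F) h).symm
      have h0 : ∑ a : F, sgn a = 0 := by
        have h1 := Equiv.sum_comp (Equiv.addRight (eps F)) fun a => sgn a
        simp only [Equiv.coe_addRight, sgn_add, sgn_eps, mul_neg, mul_one, Finset.sum_neg_distrib] at h1
        omega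
      rw [show ∑ a : F, sgn (a * (c + b)) = 0 from
        (Equiv.sum_comp (Equiv.mulRight₀ (c + b) hne) fun a => sgn a).trans h0, mul_zero]
  rw [hsum, Finset.sum_congr rfl fun b _ => hinner b, Finset.sum_ite_eq', if_pos (Finset.mem_univ _),
    ← mul_assoc, mul_comm (sgn _), mul_assoc, sgn_self, mul_one]
  exact_mod_cast Fintype.card_pos

/-- Coefficients below `k - a` are seen by the pairings at `b ≥ a`. -/
theorem Gens.coeff_low (hG : Gens B N k x) (c : Fin r × Fin k → F) (a : ℕ)
    (h : ∀ (j : Fin r) (b : ℕ), a ≤ b → B (x j) ((N ^ b) (∑ p, c p • chainV N k x p)) = 0) :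
    ∀ p : Fin r × Fin k, (p.2 : ℕ) + a < k → c p = 0 := by
  suffices hh : ∀ (e : ℕ) (he : e < k), e + a < k → ∀ i : Fin r, c (i, ⟨e, he⟩) = 0 from
    fun p hp => hh p.2 p.2.2 hp p.1
  intro e
  induction e using Nat.strong_induction_on with
  | _ e ih =>
    intro he hea
    have hc : (fun i => c (i, ⟨e, he⟩)) = 0 := by
      refine hG.det _ fun j => ?_
      refine Eq.trans ?_ (h j (k - 1 - e) (by omega))
      congr 1
      rw [map_sum, map_sum, Fintype.sum_prod_type]
      refine Finset.sum_congr rfl fun i _ => ?_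
      rw [Finset.sum_eq_single ⟨e, he⟩]
      · rw [map_smul, map_smul, chainV, ← Module.End.mul_apply, ← pow_add, show k - 1 - e + e = k - 1 by omega]
      · rintro ⟨b, hb⟩ - hne
        rcases Nat.lt_or_ge b e with hbe | hbe
        · rw [ih b hbe hb (by omega) i, zero_smul, map_zero]
        · have hlt : e < b := lt_of_le_of_ne hbe fun e' => hne (Fin.ext e'.symm)
          rw [map_smul, chainV, ← Module.End.mul_apply, ← pow_add,
            hQ.uni.pow_zero_of_le (hG.zero i) (show k ≤ k - 1 - e + b by omega), smul_zero]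
      · simp
    intro i
    exact congrFun hc i

/-- Reduction of a block to its middle part. -/
theorem gs_block (hG : Gens B N k x) (a : ℕ) (hZ : ∀ y ∈ spn N k x, Q ((N ^ a) y) = 0)
    (Mid : Submodule F V) (hMS : Mid ≤ spn N k x)
    (hM0 : ∀ w ∈ Mid, ∀ y ∈ spn N k x, B ((N ^ a) y) w = 0)
    (hd : ∀ w ∈ Mid, (∀ w' ∈ Mid, B w w' = 0) → w = 0)
    (hcov : ∀ (i : Fin r) (e : ℕ), e < a → k ≤ e + a → (N ^ e) (x i) ∈ Mid) :
    ∃ c : ℤ, 0 < c ∧ gs Q (spn N k x) = c * gs Q Mid := by
  set S := spn N k x with hS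
  set Z := S.map (N ^ a) with hZdef
  have hU := hQ.uni
  have hZS : Z ≤ S := by
    rintro _ ⟨y, hy, rfl⟩
    exact hG.inv.pow a y hy
  have hZ0 : ∀ z ∈ Z, Q z = 0 := by rintro _ ⟨y, hy, rfl⟩; exact hZ y hy
  have hZM : ∀ z ∈ Z, ∀ w ∈ Mid, B z w = 0 := by rintro _ ⟨y, hy, rfl⟩ w hw; exact hM0 w hw y hy
  have hperp : S ⊓ B.orthogonal Z = Z ⊔ Mid := by
    refine le_antisymm (fun z hz => ?_) (sup_le (fun z hz => ⟨hZS hz, fun w hw => ?_⟩) fun w hw =>
      ⟨hMS hw, fun z hz => hZM z hz w hw⟩)
    · obtain ⟨hzS, hzo⟩ := hz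
      obtain ⟨c, rfl⟩ := (Submodule.mem_span_range_iff_exists_fun F).1 hzS
      have hlow := hG.coeff_low hQ c a fun j b hb => by
        rw [hU.adj_pow']
        refine hzo _ ⟨aeval N (X ^ (b - a) * (∑ i ∈ Finset.range M, X ^ i) ^ b : F[X]) (x j), hG.inv.aeval _ _
          (hG.mem j), ?_⟩
        rw [← aeval_pbar, ← map_pow, pbar, mul_pow, show X ^ b = (X : F[X]) ^ a * X ^ (b - a) by
          rw [← pow_add]; congr 1; omega, mul_assoc, map_mul (aeval N) (X ^ a), map_pow, aeval_X,
          Module.End.mul_apply]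
      refine Submodule.sum_mem _ fun p _ => ?_
      by_cases hp : (p.2 : ℕ) + a < k
      · rw [hlow p hp, zero_smul]; exact zero_mem _
      refine Submodule.smul_mem _ _ ?_
      rcases Nat.lt_or_ge (p.2 : ℕ) a with h | h
      · exact Submodule.mem_sup_right (hcov p.1 p.2 h (by omega))
      · refine Submodule.mem_sup_left ⟨(N ^ ((p.2 : ℕ) - a)) (x p.1), hG.chain_mem _ _, ?_⟩
        rw [chainV, ← Module.End.mul_apply, ← pow_add, Nat.add_sub_cancel' h]
    · show B w z = 0
      have h := hQ.pol w z
      rw [hZ0 _ (add_mem hw hz), hZ0 w hw, hZ0 z hz, zero_add, zero_add] at h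
      exact h.symm
  refine ⟨gs Q Z, gs_pos hZ0, ?_⟩
  rw [gs_reduce hQ.pol hZS hZ0, hperp, gs_sup hQ.pol ?_ hZM]
  rw [Submodule.eq_bot_iff]
  rintro w ⟨hw, hw'⟩
  exact hd w hw' fun w' hw'' => hZM w hw w' hw''

/-- The sign of a block in normal form. -/
theorem gs_ostd [FiniteDimensional F V] : ∀ {p : Blk × Bool} {S : Submodule F V}, OStd M Q B N p S →
    (p.2 = true → ONode p.1) → 0 < (if p.2 then (-1 : ℤ) else 1) * gs Q S := by
  have hU := hQ.uni
  rintro ⟨l | m, b⟩ S h hb
  · obtain ⟨x, hG, rfl, hx, hq⟩ := h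
    have hl : 1 ≤ l := by have := hG.pos; omega
    set u := (N ^ (l - 1)) (x 0) with hu
    set v := (N ^ l) (x 0) with hv
    have huv : B u v = 1 := by
      have h1 := hx (l - 1) (by omega)
      rw [if_pos (by omega), hU.g_eq_pair, N_pow_apply, Nat.sub_add_cancel hl] at h1
      exact h1
    have hqv : Q v = 1 := by
      rw [hv, show l = l - 1 + 1 by omega, hQ.map_pow, hx _ (by omega), if_pos (by omega)]
    have hqu : Q u = if b = true then eps F else 0 := by
      rcases Nat.lt_or_ge l 2 with h | h
      · obtain rfl : l = 1 := by omega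
        simpa [hu, q0] using hq
      · rw [hu, show l - 1 = l - 2 + 1 by omega, hQ.map_pow, hx _ (by omega), if_neg (by omega)]
        simp [show l - 2 + 2 = l by omega]
    obtain ⟨c, hc, hgs⟩ := gs_block hQ hG (l + 1) (fun y hy => by
        rw [hQ.map_pow, hU.g_zero (hU.pow_zero_of_le (hG.pow_zero y hy) (by omega))])
      (Submodule.span F {u, v})
      (Submodule.span_le.2 (by rintro _ (rfl | rfl) <;> exact hG.chain_mem _ _))
      (fun w hw y hy => by
        obtain ⟨a, b', rfl⟩ := Submodule.mem_span_pair.1 hw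
        have hk : ∀ e, l - 1 ≤ e → B ((N ^ (l + 1)) y) ((N ^ e) (x 0)) = 0 := fun e he => by
          rw [hU.adj_pow, ← Module.End.mul_apply, hU.nb_pow_zero (hU.pow_zero_of_le (hG.zero 0) (by omega)),
            map_zero]
        rw [map_add, map_smul, map_smul, hu, hv, hk _ le_rfl, hk _ (by omega), smul_zero, smul_zero, add_zero])
      (fun w hw h' => by
        obtain ⟨a, b', rfl⟩ := Submodule.mem_span_pair.1 hw
        have h1 := h' u (Submodule.subset_span (by simp))
        have h2 := h' v (Submodule.subset_span (by simp))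
        simp only [map_add, map_smul, LinearMap.add_apply, LinearMap.smul_apply, hU.alt, huv, hU.symm u v,
          smul_eq_mul, mul_zero, mul_one, zero_add, add_zero] at h1 h2
        rw [h1, h2, zero_smul, zero_smul, add_zero])
      (fun i e he hke => by
        fin_cases i
        rcases (show e = l - 1 ∨ e = l by omega) with rfl | rfl
        · exact Submodule.subset_span (Set.mem_insert _ _)
        · exact Submodule.subset_span (Set.mem_insert_of_mem _ rfl))
    have hp := gs_pair hQ huv
    rw [hqu, hqv, mul_one] at hp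
    rw [hgs, mul_left_comm]
    refine mul_pos hc ?_
    cases b <;> simpa [sgn_zero, sgn_eps] using hp
  · obtain ⟨x, hG, rfl, hcr, hx, hy, hq⟩ := h
    rcases Nat.even_or_odd' m with ⟨i, rfl | rfl⟩
    · have hb' : b = false := by
        rcases b with _ | _
        · rfl
        · obtain ⟨j, hj⟩ := hb rfl; omega
      subst hb'
      have hi : 1 ≤ i := by have := hG.pos; omega
      have hz : ∀ y ∈ spn N (2 * i) x, g B N M y (i - 1) = 0 := by
        intro y hy'
        induction hy' using Submodule.span_induction with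
        | mem z hz =>
          obtain ⟨⟨j, e⟩, rfl⟩ := hz
          rw [chainV, hU.g_pow]
          rcases Nat.eq_zero_or_pos (e : ℕ) with he | he
          · rw [he, add_zero]
            fin_cases j
            · exact (hx _ (by omega)).trans (if_neg (by simp))
            · exact (hy _ (by omega)).trans (if_neg (by simp))
          · exact hU.g_zero (hU.pow_zero_of_le (hG.zero j) (by dsimp only; omega))
        | zero => simp [g]
        | add a c _ hc ha hc' =>
          have h0 : (sop N M ^ (i - 1 + 1)) c = 0 := by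
            have := sop_kill hU (a := 0) (i := i - 1 + 1) (hG.pow_zero c hc) (by omega)
            rwa [pow_zero, Module.End.one_apply] at this
          rw [hU.g_add, ha, hc', h0, map_zero, add_zero, add_zero]
        | smul c a _ ha => rw [hU.g_smul, ha, mul_zero]
      obtain ⟨c, hc, hgs⟩ := gs_block hQ hG i (fun y hy' => by
          have h := hz y hy'
          rwa [← hQ.map_pow, Nat.sub_add_cancel hi] at h) ⊥ bot_le
        (fun w hw y _ => by rw [(Submodule.mem_bot F).1 hw, map_zero]) (fun w hw _ => (Submodule.mem_bot F).1 hw)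
        (fun j e he hke => by omega)
      simpa [hgs, gs_bot] using hc
    · set u := (N ^ i) (x 0) with hu
      set v := (N ^ i) (x 1) with hv
      have huv : B u v = 1 := by
        rw [hu, hv, hU.adj_pow, ← Module.End.mul_apply, ← sop_pow_eq hU]
        have h1 := hU.sop_pow_lead (z := x 1) (a := 0) (i := i) (hU.pow_zero_of_le (hG.zero 1) (by omega))
        rw [pow_zero, Module.End.one_apply, Nat.zero_add] at h1
        rw [h1, hcr, if_pos (by omega)]
      have hqj : Q u = (if b = true then 1 else 0) ∧ Q v = (if b = true then eps F else 0) := by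
        rcases Nat.eq_zero_or_pos i with rfl | hi
        · have h0 := hq 0
          have h1 := hq 1
          simp [q0] at h0 h1
          simp [hu, hv, h0, h1]
        · constructor
          · rw [hu, show i = i - 1 + 1 by omega, hQ.map_pow, hx _ (by omega)]
            simp [show i - 1 + (i - 1) + 3 = 2 * i + 1 by omega]
          · rw [hv, show i = i - 1 + 1 by omega, hQ.map_pow, hy _ (by omega)]
            simp [show i - 1 + (i - 1) + 3 = 2 * i + 1 by omega]
      obtain ⟨c, hc, hgs⟩ := gs_block hQ hG (i + 1) (fun y hy' => by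
          rw [hQ.map_pow, hU.g_zero (hU.pow_zero_of_le (hG.pow_zero y hy') (by omega))])
        (Submodule.span F {u, v})
        (Submodule.span_le.2 (by rintro _ (rfl | rfl) <;> exact hG.chain_mem _ _))
        (fun w hw y hy' => by
          obtain ⟨a, b', rfl⟩ := Submodule.mem_span_pair.1 hw
          have hk : ∀ j, B ((N ^ (i + 1)) y) ((N ^ i) (x j)) = 0 := fun j => by
            rw [hU.adj_pow, ← Module.End.mul_apply, hU.nb_pow_zero (hU.pow_zero_of_le (hG.zero j) (by omega)),
              map_zero]
          rw [map_add, map_smul, map_smul, hu, hv, hk, hk, smul_zero, smul_zero, add_zero])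
        (fun w hw h' => by
          obtain ⟨a, b', rfl⟩ := Submodule.mem_span_pair.1 hw
          have h1 := h' u (Submodule.subset_span (by simp))
          have h2 := h' v (Submodule.subset_span (by simp))
          simp only [map_add, map_smul, LinearMap.add_apply, LinearMap.smul_apply, hU.alt, huv, hU.symm u v,
            smul_eq_mul, mul_zero, mul_one, zero_add, add_zero] at h1 h2
          rw [h1, h2, zero_smul, zero_smul, add_zero])
        (fun j e he hke => by
          obtain rfl : e = i := by omega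
          fin_cases j
          · exact Submodule.subset_span (Set.mem_insert _ _)
          · exact Submodule.subset_span (Set.mem_insert_of_mem _ rfl))
      have hp := gs_pair hQ huv
      rw [hqj.1, hqj.2] at hp
      rw [hgs, mul_left_comm]
      refine mul_pos hc ?_
      cases b <;> simpa [sgn_zero, sgn_eps] using hp

/-- The sign of a canonical list. -/
theorem gs_has [FiniteDimensional F V] : ∀ {L : List (Blk × Bool)} {W : Submodule F V},
    Has B (OStd M Q B N) L W → (∀ p ∈ L, p.2 = true → ONode p.1) →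
      0 < (-1 : ℤ) ^ (L.map Prod.snd).count true * gs Q W := by
  intro L
  induction L with
  | nil =>
    intro W h _
    rw [show W = ⊥ from h, gs_bot]
    simp
  | cons p L ih =>
    rintro W ⟨S, hSW, hS, hL⟩ hn
    have hU := hQ.uni
    obtain ⟨r, k, x, hG, hx, -⟩ := (hS.std.gblk hU).gens
    subst hx
    have hd : spn N k x ⊓ (W ⊓ B.orthogonal (spn N k x)) = ⊥ := by
      rw [Submodule.eq_bot_iff]
      rintro z ⟨hz, -, hz'⟩
      exact hG.nondeg hz fun j b => (hU.inv_orth hG.inv).pow b z hz' _ (hG.mem j)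
    have h1 := gs_ostd hQ hS (hn p List.mem_cons_self)
    have h2 := ih hL fun q hq => hn q (List.mem_cons_of_mem _ hq)
    rw [← hG.sup_perp hU hSW, gs_sup hQ.pol hd fun a ha b hb => hb.2 a ha]
    have h3 := mul_pos h1 h2
    rw [List.map_cons, List.count_cons]
    obtain ⟨U, b⟩ := p
    cases b <;> simp [pow_succ] at h3 ⊢ <;> linarith

end Blocks

end CfsgLib.SpEven
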