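import Mathlib

/-!
# Unipotent isometries of alternating forms in characteristic two

For `u = 1 + N` preserving an alternating form, `nb N M = u⁻¹ - 1` is adjoint to `N`, and
`g x i = B (N ^ i x) (N (N ^ i x))` are the coordinates of `a ↦ B x (N ^ a x)`.
-/

set_option autoImplicit false
set_option linter.unusedSectionVars false

namespace CfsgLib.SpEven

open Polynomial

variable {F : Type*} [Field F] [CharP F 2] {V : Type*} [AddCommGroup V] [Module F V]

theorem two_zero : (2 : F) = 0 := CharTwo.two_eq_zero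

theorem add_self_eq_zero' {W : Type*} [AddCommGroup W] [Module F W] (a : W) : a + a = 0 := by
  rw [← two_smul F, two_zero, zero_smul]

theorem neg_eq' {W : Type*} [AddCommGroup W] [Module F W] (a : W) : -a = a :=
  neg_eq_of_add_eq_zero_right (add_self_eq_zero' (F := F) a)

theorem eq_of_add_eq_zero' {W : Type*} [AddCommGroup W] [Module F W] {a b : W} (h : a + b = 0) : a = b := by
  rw [eq_neg_of_add_eq_zero_left h, neg_eq' (F := F)]

/-- A nilpotent `N` with `1 + N` an isometry of an alternating form. -/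
structure Uni (M : ℕ) (B : LinearMap.BilinForm F V) (N : V →ₗ[F] V) : Prop where
  alt : ∀ x, B x x = 0
  iso : ∀ x y, B (x + N x) (y + N y) = B x y
  nil : N ^ M = 0

/-- `(1 + N)⁻¹ - 1`. -/
noncomputable def nb (N : V →ₗ[F] V) (M : ℕ) : V →ₗ[F] V := N * ∑ j ∈ Finset.range M, N ^ j

/-- The fixed operator `N * nb N`. -/
noncomputable def sop (N : V →ₗ[F] V) (M : ℕ) : V →ₗ[F] V := N * nb N M

/-- The polynomial of `nb`. -/
noncomputable def pbar (F : Type*) [Field F] (M : ℕ) : F[X] := X * ∑ j ∈ Finset.range M, X ^ j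

theorem aeval_pbar (N : V →ₗ[F] V) (M : ℕ) : aeval N (pbar F M) = nb N M := by
  rw [pbar, nb, map_mul, map_sum, aeval_X]
  simp

theorem aeval_sop (N : V →ₗ[F] V) (M : ℕ) : aeval N (X * pbar F M) = sop N M := by
  rw [map_mul, aeval_pbar, aeval_X, sop]

theorem commute_nb (N : V →ₗ[F] V) (M : ℕ) : Commute N (nb N M) := by
  have h := (Commute.all (X : F[X]) (pbar F M)).map (aeval N)
  rwa [aeval_X, aeval_pbar] at h

theorem commute_sop (N : V →ₗ[F] V) (M : ℕ) : Commute N (sop N M) :=
  (Commute.refl N).mul_right (commute_nb N M)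

/-- The coordinates of `a ↦ B x (N ^ a x)`. -/
noncomputable def g (B : LinearMap.BilinForm F V) (N : V →ₗ[F] V) (M : ℕ) (x : V) (i : ℕ) : F :=
  B x ((N * sop N M ^ i) x)

variable {M : ℕ} {B : LinearMap.BilinForm F V} {N : V →ₗ[F] V} (hU : Uni M B N)
include hU

theorem Uni.symm (x y : V) : B y x = B x y := by
  have h := hU.alt (x + y)
  simp only [map_add, LinearMap.add_apply, hU.alt, zero_add, add_zero] at h
  exact eq_of_add_eq_zero' (F := F) (by simpa using h)

theorem Uni.nb_eq : nb N M = N + N * nb N M := by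
  have h1 : (∑ j ∈ Finset.range M, N ^ j) * (1 - N) = 1 := by
    rw [geom_sum_mul_neg, hU.nil, sub_zero]
  have hc : N * ∑ j ∈ Finset.range M, N ^ j = (∑ j ∈ Finset.range M, N ^ j) * N :=
    (Commute.sum_right _ _ _ fun j _ => Commute.pow_right (Commute.refl N) j).eq
  rw [sub_eq_add_neg, neg_eq' (F := F), mul_add, mul_one, ← hc] at h1
  calc nb N M = N * (1 + N * ∑ j ∈ Finset.range M, N ^ j) := by
        conv_rhs => rw [← h1]
        rw [add_assoc, add_self_eq_zero' (F := F), add_zero]
        rfl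
    _ = N + N * nb N M := by rw [mul_add, mul_one]; rfl

theorem Uni.add_nb : N + nb N M = sop N M := by
  conv_lhs => rw [hU.nb_eq, ← add_assoc, add_self_eq_zero' (F := F), zero_add]
  rfl

theorem Uni.adj (x y : V) : B (N x) y = B x (nb N M y) := by
  have hy : (y + nb N M y) + N (y + nb N M y) = y := by
    have h := LinearMap.congr_fun hU.nb_eq y
    rw [LinearMap.add_apply, Module.End.mul_apply] at h
    rw [map_add, add_assoc, show nb N M y + (N y + N (nb N M y)) = 0 by
      rw [← h]; exact add_self_eq_zero' (F := F) _, add_zero]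
  have h := hU.iso x (y + nb N M y)
  rw [hy] at h
  simp only [map_add, LinearMap.add_apply] at h
  exact add_left_cancel h

theorem Uni.adj' (x y : V) : B (nb N M x) y = B x (N y) := by
  rw [hU.symm y, ← hU.adj, hU.symm]

theorem Uni.adj_pow (a : ℕ) : ∀ x y, B ((N ^ a) x) y = B x ((nb N M ^ a) y) := by
  induction a with
  | zero => intro x y; simp
  | succ a ih =>
    intro x y
    rw [pow_succ, Module.End.mul_apply, ih, hU.adj, ← Module.End.mul_apply, ← pow_succ']

theorem Uni.adj_pow' (a : ℕ) (x y : V) : B x ((N ^ a) y) = B ((nb N M ^ a) x) y := by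
  rw [← hU.symm x, hU.adj_pow, hU.symm]

theorem Uni.adj_sop (x y : V) : B (sop N M x) y = B x (sop N M y) := by
  rw [sop, Module.End.mul_apply, hU.adj, hU.adj', ← Module.End.mul_apply]

theorem Uni.adj_sop_pow (a : ℕ) : ∀ x y, B ((sop N M ^ a) x) y = B x ((sop N M ^ a) y) := by
  induction a with
  | zero => intro x y; simp
  | succ a ih =>
    intro x y
    rw [pow_succ, Module.End.mul_apply, ih, hU.adj_sop, ← Module.End.mul_apply, ← pow_succ', ← pow_succ]

theorem Uni.nb_zero {z : V} (h : N z = 0) : nb N M z = 0 := by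
  rw [hU.nb_eq, LinearMap.add_apply, Module.End.mul_apply, h, zero_add, ← Module.End.mul_apply,
    (commute_nb N M).eq, Module.End.mul_apply, h, map_zero]

theorem Uni.nb_pow_lead {z : V} {a b : ℕ} (h : (N ^ (a + b + 1)) z = 0) :
    (nb N M ^ b * N ^ a) z = (N ^ (a + b)) z := by
  induction b generalizing a with
  | zero => simp
  | succ b ih =>
    rw [Module.End.mul_apply, pow_succ, Module.End.mul_apply, hU.nb_eq, LinearMap.add_apply, map_add]
    have h1 : N ((N ^ a) z) = (N ^ (a + 1)) z := by rw [pow_succ', Module.End.mul_apply]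
    have h2 : (nb N M ^ b) ((N * nb N M) ((N ^ a) z)) = 0 := by
      rw [(commute_nb N M).eq, Module.End.mul_apply, h1, ← Module.End.mul_apply, ← pow_succ,
        pow_succ', Module.End.mul_apply, ← Module.End.mul_apply (nb N M ^ b),
        ih (show (N ^ (a + 1 + b + 1)) z = 0 by rwa [show a + 1 + b + 1 = a + (b + 1) + 1 by omega])]
      refine hU.nb_zero ?_
      rw [← Module.End.mul_apply, ← pow_succ']
      rwa [show a + 1 + b + 1 = a + (b + 1) + 1 by omega]
    rw [← hU.nb_eq, h2, add_zero, h1, ← Module.End.mul_apply,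
      ih (show (N ^ (a + 1 + b + 1)) z = 0 by rwa [show a + 1 + b + 1 = a + (b + 1) + 1 by omega]),
      show a + 1 + b = a + (b + 1) by omega]

theorem Uni.nb_pow_zero {z : V} {a b : ℕ} (h : (N ^ (a + b)) z = 0) : (nb N M ^ b * N ^ a) z = 0 := by
  rw [hU.nb_pow_lead (by rw [pow_succ', Module.End.mul_apply, h, map_zero]), h]

theorem Uni.pow_zero_of_le {z : V} {a b : ℕ} (h : (N ^ a) z = 0) (hab : a ≤ b) : (N ^ b) z = 0 := by
  rw [show b = (b - a) + a by omega, pow_add, Module.End.mul_apply, h, map_zero]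

theorem Uni.pair_zero {x : V} {a b : ℕ} (h : (N ^ a) x = 0) (hab : a ≤ b) (y : V) : B x ((N ^ b) y) = 0 := by
  have h1 : (nb N M ^ b * N ^ 0) x = 0 := hU.nb_pow_zero (hU.pow_zero_of_le h (by omega))
  rw [pow_zero, mul_one] at h1
  rw [hU.adj_pow', h1, map_zero, LinearMap.zero_apply]

theorem Uni.top_symm {x y : V} {k : ℕ} (hx : (N ^ (k + 1)) x = 0) : B y ((N ^ k) x) = B x ((N ^ k) y) := by
  have h1 : (nb N M ^ k * N ^ 0) x = (N ^ (0 + k)) x := hU.nb_pow_lead (by rwa [Nat.zero_add])
  rw [pow_zero, mul_one, Nat.zero_add] at h1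
  rw [hU.adj_pow' k x y, h1, hU.symm]

theorem sop_pow_eq (i : ℕ) : sop N M ^ i = nb N M ^ i * N ^ i := by
  rw [sop, (commute_nb N M).mul_pow, ((commute_nb N M).pow_pow i i).eq]

theorem Uni.sop_pow_lead {z : V} {a i : ℕ} (h : (N ^ (a + (i + i) + 1)) z = 0) :
    (sop N M ^ i) ((N ^ a) z) = (N ^ (a + (i + i))) z := by
  have hl := hU.nb_pow_lead (z := z) (a := i + a) (b := i)
    (by rwa [show i + a + i + 1 = a + (i + i) + 1 by omega])
  rw [sop_pow_eq hU, ← Module.End.mul_apply, mul_assoc, ← pow_add, hl, show i + a + i = a + (i + i) by omega]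

theorem Uni.odd_top {x : V} {i : ℕ} (h : (N ^ (i + i + 1)) x = 0) : B x ((N ^ (i + i)) x) = 0 := by
  have h1 := hU.sop_pow_lead (z := x) (a := 0) (i := i) (by rwa [Nat.zero_add])
  rw [pow_zero, Module.End.one_apply, Nat.zero_add] at h1
  rw [← h1, sop_pow_eq hU, Module.End.mul_apply, ← hU.adj_pow, hU.alt]

theorem Uni.g_eq_pair (x : V) (i : ℕ) : g B N M x i = B ((N ^ i) x) (N ((N ^ i) x)) := by
  rw [hU.adj_pow, g, sop_pow_eq hU, ← Module.End.mul_apply, ← Module.End.mul_apply]
  congr 2
  rw [← mul_assoc, ← ((commute_nb N M).pow_right i).eq]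

theorem Uni.g_top {x : V} {i : ℕ} (h : (N ^ (i + i + 2)) x = 0) : g B N M x i = B x ((N ^ (i + i + 1)) x) := by
  have h1 := hU.sop_pow_lead (z := x) (a := 1) (i := i) (by rwa [show 1 + (i + i) + 1 = i + i + 2 by omega])
  rw [pow_one, show 1 + (i + i) = i + i + 1 by omega] at h1
  rw [← h1, g, Module.End.mul_apply, ← Module.End.mul_apply (sop N M ^ i), ← Module.End.mul_apply,
    ((commute_sop N M).pow_right i).eq]

theorem Uni.g_zero {x : V} {i : ℕ} (h : (N ^ (i + i + 1)) x = 0) : g B N M x i = 0 := by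
  rw [hU.g_top (hU.pow_zero_of_le h (by omega)), h, map_zero]

theorem Uni.g_smul (c : F) (x : V) (i : ℕ) : g B N M (c • x) i = c * c * g B N M x i := by
  simp only [g, map_smul, LinearMap.smul_apply, smul_eq_mul]
  ring

theorem Uni.g_add (x w : V) (i : ℕ) :
    g B N M (x + w) i = g B N M x i + g B N M w i + B x ((sop N M ^ (i + 1)) w) := by
  have h : B w ((N * sop N M ^ i) x) = B x ((nb N M * sop N M ^ i) w) := by
    rw [Module.End.mul_apply, ← hU.adj', ← hU.adj_sop_pow, hU.symm,
      ← Module.End.mul_apply]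
    exact congrArg (fun f : V →ₗ[F] V => B x (f w))
      (((commute_nb N M).mul_left (Commute.refl (nb N M))).pow_left i).eq
  have hs : (N * sop N M ^ i) w + (nb N M * sop N M ^ i) w = (sop N M ^ (i + 1)) w := by
    rw [← LinearMap.add_apply, ← add_mul, hU.add_nb, pow_succ']
  simp only [g, map_add, LinearMap.add_apply]
  rw [h, ← hs, map_add]
  ring

theorem Uni.g_pow (x : V) (i j : ℕ) : g B N M ((N ^ j) x) i = g B N M x (i + j) := by
  rw [hU.g_eq_pair, hU.g_eq_pair, ← Module.End.mul_apply (N ^ i), ← pow_add]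

theorem Uni.g_sop (x : V) (i a : ℕ) : g B N M ((sop N M ^ a) x) i = g B N M x (i + (a + a)) := by
  rw [g, g, hU.adj_sop_pow, ← Module.End.mul_apply, ← Module.End.mul_apply, ← mul_assoc,
    ← ((commute_sop N M).pow_right a).eq, mul_assoc, mul_assoc, ← pow_add, ← pow_add,
    show a + (i + a) = i + (a + a) by omega]

theorem Uni.pair_sop_self (x : V) (a : ℕ) : B x ((sop N M ^ a) x) = 0 := by
  rw [sop_pow_eq hU, Module.End.mul_apply, ← hU.adj_pow, hU.alt]

theorem Uni.g_scale_even (x : V) (c : F) (i a : ℕ) :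
    g B N M (x + c • (sop N M ^ a) x) i = g B N M x i + c * c * g B N M x (i + (a + a)) := by
  rw [hU.g_add, hU.g_smul, hU.g_sop, map_smul, map_smul, ← Module.End.mul_apply, ← pow_add, hU.pair_sop_self,
    smul_zero, add_zero]

theorem Uni.g_scale_odd (x : V) (c : F) (i a : ℕ) :
    g B N M (x + c • (N * sop N M ^ a) x) i =
      g B N M x i + c * c * g B N M x (i + (a + a) + 1) + c * g B N M x (i + a + 1) := by
  rw [hU.g_add, hU.g_smul, ((commute_sop N M).pow_right a).eq, Module.End.mul_apply, hU.g_sop]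
  congr 1
  · congr 2
    have := hU.g_pow x (i + (a + a)) 1
    rwa [pow_one] at this
  · rw [map_smul, map_smul, smul_eq_mul, g, ← Module.End.mul_apply, ← Module.End.mul_apply, ← pow_add, show i + 1 + a = i + a + 1 by omega, ((commute_sop N M).pow_right (i + a + 1)).eq]

omit hU

variable {V' : Type*} [AddCommGroup V'] [Module F V'] {B' : LinearMap.BilinForm F V'} {N' : V' →ₗ[F] V'}

theorem pair_congr (R : F[X]) {x y : V} {x' y' : V'}
    (h : ∀ b, R.coeff b ≠ 0 → B x ((N ^ b) y) = B' x' ((N' ^ b) y')) :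
    B x (aeval N R y) = B' x' (aeval N' R y') := by
  simp only [aeval_eq_sum_range, LinearMap.sum_apply, map_sum, LinearMap.smul_apply, map_smul, smul_eq_mul]
  refine Finset.sum_congr rfl fun b _ => ?_
  by_cases hb : R.coeff b = 0
  · rw [hb, zero_mul, zero_mul]
  · rw [h b hb]

theorem coeff_X_pow_mul_pbar {M : ℕ} (hM : 0 < M) (a i b : ℕ) (hb : b ≤ a + i) :
    (X ^ a * pbar F M ^ i).coeff b = if b = a + i then 1 else 0 := by
  have h : X ^ a * pbar F M ^ i = X ^ (a + i) * (∑ j ∈ Finset.range M, X ^ j) ^ i := by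
    rw [pbar, mul_pow, pow_add, mul_assoc]
  rw [h, coeff_X_pow_mul']
  rcases lt_or_eq_of_le hb with hlt | rfl
  · rw [if_neg (by omega), if_neg hlt.ne]
  · rw [if_pos le_rfl, if_pos rfl, Nat.sub_self, coeff_zero_eq_eval_zero, eval_pow, eval_finsetSum]
    rw [Finset.sum_eq_single 0 (fun j _ hj => by simp [zero_pow hj]) (by simp; omega)]
    simp

theorem aeval_X_pow_mul_pbar (N : V →ₗ[F] V) (M a i : ℕ) :
    aeval N (X ^ a * pbar F M ^ i) = N ^ a * nb N M ^ i := by
  rw [map_mul, map_pow, map_pow, aeval_X, aeval_pbar]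

theorem pow_odd_eq (x : V) (i : ℕ) :
    B x ((N ^ (2 * i + 1)) x) =
      g B N M x i + B x (aeval N (X ^ (2 * i + 1) + X ^ (i + 1) * pbar F M ^ i : F[X]) x) := by
  rw [map_add, map_pow, aeval_X, aeval_X_pow_mul_pbar, LinearMap.add_apply, map_add, g,
    show N * sop N M ^ i = N ^ (i + 1) * nb N M ^ i by
      rw [sop, (commute_nb N M).mul_pow, ← mul_assoc, pow_succ'], add_left_comm,
    add_self_eq_zero' (F := F), add_zero]

/-- The coordinates determine the pairings of a vector with its images. -/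
theorem diag_congr {B' : LinearMap.BilinForm F V'} {N' : V' →ₗ[F] V'} (hU : Uni M B N) (hU' : Uni M B' N')
    {x : V} {x' : V'} {k : ℕ} (hx : (N ^ k) x = 0) (hx' : (N' ^ k) x' = 0)
    (h : ∀ i, i + i + 1 < k → g B N M x i = g B' N' M x' i) :
    ∀ a, B x ((N ^ a) x) = B' x' ((N' ^ a) x') := by
  suffices hh : ∀ d a, k - a = d → B x ((N ^ a) x) = B' x' ((N' ^ a) x') from fun a => hh _ a rfl
  intro d
  induction d using Nat.strong_induction_on with
  | _ d ih =>
    intro a had
    rcases Nat.lt_or_ge a k with hak | hka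
    swap
    · rw [hU.pow_zero_of_le hx hka, hU'.pow_zero_of_le hx' hka, map_zero, map_zero]
    have hup : ∀ b, a < b → B x ((N ^ b) x) = B' x' ((N' ^ b) x') := fun b hb => by
      rcases Nat.lt_or_ge b k with hbk | hkb
      · exact ih (k - b) (by omega) b rfl
      · rw [hU.pow_zero_of_le hx hkb, hU'.pow_zero_of_le hx' hkb, map_zero, map_zero]
    rcases Nat.eq_zero_or_pos M with hM | hM
    · subst hM
      have hz : ∀ v : V, v = 0 := fun v => by simpa using LinearMap.congr_fun hU.nil v
      have hz' : ∀ v : V', v = 0 := fun v => by simpa using LinearMap.congr_fun hU'.nil v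
      rw [hz x, hz' x']; simp
    rcases Nat.even_or_odd' a with ⟨i, rfl | rfl⟩
    · have e1 : B x ((N ^ (2 * i)) x) = B x (aeval N (X ^ (2 * i) + X ^ i * pbar F M ^ i) x) := by
        rw [map_add, map_pow, aeval_X, aeval_X_pow_mul_pbar, LinearMap.add_apply, map_add,
          ((commute_nb N M).pow_pow i i).eq, Module.End.mul_apply, ← hU.adj_pow, hU.alt, add_zero]
      have e2 : B' x' ((N' ^ (2 * i)) x') = B' x' (aeval N' (X ^ (2 * i) + X ^ i * pbar F M ^ i) x') := by
        rw [map_add, map_pow, aeval_X, aeval_X_pow_mul_pbar, LinearMap.add_apply, map_add,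
          ((commute_nb N' M).pow_pow i i).eq, Module.End.mul_apply, ← hU'.adj_pow, hU'.alt, add_zero]
      rw [e1, e2]
      refine pair_congr _ fun b hb => ?_
      rcases Nat.lt_or_ge (2 * i) b with hib | hbi
      · exact hup b hib
      · refine absurd ?_ hb
        rw [coeff_add, coeff_X_pow, coeff_X_pow_mul_pbar hM i i b (by omega), ← two_mul i]
        exact add_self_eq_zero' (F := F) _
    · rw [pow_odd_eq (M := M) (B := B) (N := N), pow_odd_eq (M := M) (B := B') (N := N'), h i (by omega)]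
      refine congrArg _ (pair_congr _ fun b hb => ?_)
      rcases Nat.lt_or_ge (2 * i + 1) b with hib | hbi
      · exact hup b hib
      · refine absurd ?_ hb
        rw [coeff_add, coeff_X_pow, coeff_X_pow_mul_pbar hM (i + 1) i b (by omega),
          show i + 1 + i = 2 * i + 1 by omega]
        exact add_self_eq_zero' (F := F) _

end CfsgLib.SpEven
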